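/-
The derived group of the orthogonal group of a split form is generated by Eichler transformations,
over any field.
-/
import Cfsg.Agent.Lib.Eichler

set_option autoImplicit false
set_option linter.unusedSectionVars false
set_option maxHeartbeats 600000

namespace CfsgLib.SplitOrth

open QuadraticMap CfsgLib.WittExtension CfsgLib.Eichler
open scoped commutatorElement

variable {F V : Type*} [Field F] [AddCommGroup V] [Module F V] {Q : QuadraticForm F V} {m : ℕ}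

/-- Hyperbolic pairs and a vector spanning the rest. -/
structure Frame (Q : QuadraticForm F V) (m : ℕ) where
  e : Fin m → V
  f : Fin m → V
  z : V
  qe : ∀ i, Q (e i) = 0
  qf : ∀ i, Q (f i) = 0
  pee : ∀ i j, polar Q (e i) (e j) = 0
  pff : ∀ i j, polar Q (f i) (f j) = 0
  pef : ∀ i j, polar Q (e i) (f j) = if i = j then 1 else 0
  pez : ∀ i, polar Q (e i) z = 0
  pfz : ∀ i, polar Q (f i) z = 0
  res : ∀ v, (∀ i, polar Q (e i) v = 0) → (∀ i, polar Q (f i) v = 0) → ∃ c : F, v = c • z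
  zq : ∀ c : F, Q (c • z) = 0 → c • z = 0

variable (Φ : Frame Q m)

/-- The generators: Eichler transformations at the vectors of the pairs. -/
def gens : Set (quadIso Q) :=
  {g | ∃ i u, (polar Q (Φ.e i) u = 0 ∧ IsEich Q (Φ.e i) u g) ∨
    (polar Q (Φ.f i) u = 0 ∧ IsEich Q (Φ.f i) u g)}

/-- The group generated by them. -/
def E : Subgroup (quadIso Q) := Subgroup.closure (gens Φ)

theorem mem_e {i : Fin m} {u : V} {g : quadIso Q} (hu : polar Q (Φ.e i) u = 0)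
    (hg : IsEich Q (Φ.e i) u g) : g ∈ E Φ :=
  Subgroup.subset_closure ⟨i, u, Or.inl ⟨hu, hg⟩⟩

theorem mem_f {i : Fin m} {u : V} {g : quadIso Q} (hu : polar Q (Φ.f i) u = 0)
    (hg : IsEich Q (Φ.f i) u g) : g ∈ E Φ :=
  Subgroup.subset_closure ⟨i, u, Or.inr ⟨hu, hg⟩⟩

/-- Exchange the two vectors of some pairs. -/
def flip (P : Fin m → Bool) : Frame Q m where
  e i := bif P i then Φ.f i else Φ.e i
  f i := bif P i then Φ.e i else Φ.f i
  z := Φ.z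
  qe i := by cases P i <;> simp [Φ.qe, Φ.qf]
  qf i := by cases P i <;> simp [Φ.qe, Φ.qf]
  pee i j := by
    rcases eq_or_ne i j with rfl | h
    · cases P i <;> simp [Φ.pee, Φ.pff]
    · cases P i <;> cases P j <;>
        simp [Φ.pee, Φ.pff, Φ.pef, h, polar_comm Q (Φ.f i) (Φ.e j), Ne.symm h]
  pff i j := by
    rcases eq_or_ne i j with rfl | h
    · cases P i <;> simp [Φ.pee, Φ.pff]
    · cases P i <;> cases P j <;>
        simp [Φ.pee, Φ.pff, Φ.pef, h, polar_comm Q (Φ.f i) (Φ.e j), Ne.symm h]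
  pef i j := by
    rcases eq_or_ne i j with rfl | h
    · cases P i <;> simp [Φ.pef, polar_comm Q (Φ.f i) (Φ.e i)]
    · cases P i <;> cases P j <;>
        simp [Φ.pee, Φ.pff, Φ.pef, h, polar_comm Q (Φ.f i) (Φ.e j), Ne.symm h]
  pez i := by cases P i <;> simp [Φ.pez, Φ.pfz]
  pfz i := by cases P i <;> simp [Φ.pez, Φ.pfz]
  res v h1 h2 := Φ.res v (fun i => by
      have a := h1 i; have b := h2 i
      cases hP : P i <;> simp [hP] at a b ⊢ <;> assumption) (fun i => by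
      have a := h1 i; have b := h2 i
      cases hP : P i <;> simp [hP] at a b ⊢ <;> assumption)
  zq := Φ.zq

theorem E_flip (P : Fin m → Bool) : E (flip Φ P) ≤ E Φ := by
  refine (Subgroup.closure_le _).2 ?_
  rintro g ⟨i, u, h⟩
  show g ∈ E Φ
  cases hP : P i <;> simp [flip, hP] at h <;> rcases h with ⟨h1, h2⟩ | ⟨h1, h2⟩
  · exact mem_e Φ h1 h2
  · exact mem_f Φ h1 h2
  · exact mem_f Φ h1 h2
  · exact mem_e Φ h1 h2

/-- Two vectors with the same products with the pairs differ by a multiple of `z`. -/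
theorem res_sub {v w : V} (h1 : ∀ i, polar Q (Φ.e i) v = polar Q (Φ.e i) w)
    (h2 : ∀ i, polar Q (Φ.f i) v = polar Q (Φ.f i) w) : ∃ c : F, v = w + c • Φ.z := by
  obtain ⟨c, hc⟩ := Φ.res (v - w) (fun i => by rw [polar_sub_right, h1 i, sub_self])
    (fun i => by rw [polar_sub_right, h2 i, sub_self])
  exact ⟨c, by rw [← hc]; abel⟩

/-- A vector without components outside `S`. -/
def Supp (S : Finset (Fin m)) (v : V) : Prop :=
  ∀ l, l ∉ S → polar Q (Φ.e l) v = 0 ∧ polar Q (Φ.f l) v = 0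

/-- An isometry fixing the pairs outside `S`. -/
def Fix (S : Finset (Fin m)) (g : quadIso Q) : Prop :=
  ∀ l, l ∉ S → g.1 (Φ.e l) = Φ.e l ∧ g.1 (Φ.f l) = Φ.f l

theorem Fix.mul {S : Finset (Fin m)} {g h : quadIso Q} (hg : Fix Φ S g) (hh : Fix Φ S h) :
    Fix Φ S (g * h) := fun l hl => by
  refine ⟨?_, ?_⟩
  · show g.1 (h.1 _) = _
    rw [(hh l hl).1, (hg l hl).1]
  · show g.1 (h.1 _) = _
    rw [(hh l hl).2, (hg l hl).2]

theorem eich_fix {p u x : V} {g : quadIso Q} (hg : IsEich Q p u g) (h1 : polar Q p x = 0)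
    (h2 : polar Q u x = 0) : g.1 x = x := by
  rw [hg x, h1, h2]; simp

theorem polar_iso (g : quadIso Q) (x y : V) : polar Q (g.1 x) (g.1 y) = polar Q x y := by
  simp only [polar, ← map_add, g.2 _]

variable {Φ}

theorem supp_e {S : Finset (Fin m)} {i : Fin m} (hi : i ∈ S) : Supp Φ S (Φ.e i) := fun l hl => by
  have : l ≠ i := fun h => hl (h ▸ hi)
  exact ⟨Φ.pee l i, by rw [polar_comm, Φ.pef, if_neg this.symm]⟩

theorem supp_f {S : Finset (Fin m)} {i : Fin m} (hi : i ∈ S) : Supp Φ S (Φ.f i) := fun l hl => by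
  have : l ≠ i := fun h => hl (h ▸ hi)
  exact ⟨by rw [Φ.pef, if_neg this], Φ.pff l i⟩

theorem Supp.smul {S : Finset (Fin m)} {v : V} (hv : Supp Φ S v) (a : F) : Supp Φ S (a • v) :=
  fun l hl => by simp [(hv l hl).1, (hv l hl).2]

theorem Supp.add {S : Finset (Fin m)} {v w : V} (hv : Supp Φ S v) (hw : Supp Φ S w) :
    Supp Φ S (v + w) :=
  fun l hl => by simp [(hv l hl).1, (hv l hl).2, (hw l hl).1, (hw l hl).2]

theorem supp_eich {S : Finset (Fin m)} {p u : V} {g : quadIso Q} (hg : IsEich Q p u g)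
    (hp : Supp Φ S p) (hu : Supp Φ S u) : Fix Φ S g := fun l hl =>
  ⟨eich_fix hg (by rw [polar_comm]; exact (hp l hl).1) (by rw [polar_comm]; exact (hu l hl).1),
    eich_fix hg (by rw [polar_comm]; exact (hp l hl).2) (by rw [polar_comm]; exact (hu l hl).2)⟩

theorem supp_image {S : Finset (Fin m)} {g : quadIso Q} (hg : Fix Φ S g) {v : V}
    (hv : Supp Φ S v) : Supp Φ S (g.1 v) := fun l hl => by
  refine ⟨?_, ?_⟩
  · conv_lhs => rw [← (hg l hl).1]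
    rw [polar_iso, (hv l hl).1]
  · conv_lhs => rw [← (hg l hl).2]
    rw [polar_iso, (hv l hl).2]

/-- Clearing all components but one pair. -/
theorem kill {S : Finset (Fin m)} {i : Fin m} (hi : i ∈ S) {v : V} (hv : Supp Φ S v)
    (hQ : Q v = 0) (ha : polar Q (Φ.f i) v ≠ 0) :
    ∃ g ∈ E Φ, Fix Φ S g ∧ g.1 v = polar Q (Φ.f i) v • Φ.e i ∧ g.1 (Φ.f i) = Φ.f i := by
  obtain ⟨a, rfl⟩ : ∃ a, a = polar Q (Φ.f i) v := ⟨_, rfl⟩
  set b := polar Q (Φ.e i) v with hb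
  obtain ⟨v', hv'⟩ : ∃ v', v' = v + (-polar Q (Φ.f i) v) • Φ.e i + (-b) • Φ.f i := ⟨_, rfl⟩
  have hfv' : polar Q (Φ.f i) v' = 0 := by
    simp [hv', Φ.pff, polar_comm Q (Φ.f i) (Φ.e i), Φ.pef]
  have hev' : polar Q (Φ.e i) v' = 0 := by simp [hv', Φ.pee, Φ.pef, hb]
  obtain ⟨u, hu⟩ : ∃ u, u = (-(polar Q (Φ.f i) v)⁻¹) • v' := ⟨_, rfl⟩
  have hfu : polar Q (Φ.f i) u = 0 := by simp [hu, hfv']
  obtain ⟨g, hg⟩ := exists_eich Q (Φ.qf i) hfu
  have hsv' : Supp Φ S v' := hv' ▸ ((hv.add ((supp_e hi).smul _)).add ((supp_f hi).smul _))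
  refine ⟨g, mem_f Φ hfu hg, supp_eich hg (supp_f hi) (hu ▸ hsv'.smul (-(polar Q (Φ.f i) v)⁻¹)), ?_, ?_⟩
  · have h1 : ∃ c : F, g.1 v = polar Q (Φ.f i) v • Φ.e i + c • Φ.f i := by
      refine ⟨b + (-(polar Q u v) - Q u * polar Q (Φ.f i) v), ?_⟩
      rw [hg v, hu, smul_smul, mul_neg, mul_inv_cancel₀ ha, hv']
      module
    obtain ⟨c, hc⟩ := h1
    have h2 : Q (g.1 v) = 0 := by rw [g.2]; exact hQ
    rw [hc, QuadraticMap.map_add Q] at h2
    simp [QuadraticMap.map_smul, Φ.qe, Φ.qf, Φ.pef, ha] at h2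
    rw [hc, h2, zero_smul, add_zero]
  · exact eich_fix hg (by rw [polar_self, Φ.qf, smul_zero]) (by rw [polar_comm, hfu])

/-- A singular vector supported at `S` moves to `e i`. -/
theorem move {S : Finset (Fin m)} {i j : Fin m} (hi : i ∈ S) (hj : j ∈ S) (hji : j ≠ i) {v : V}
    (hv : Supp Φ S v) (hQ : Q v = 0) (hv0 : v ≠ 0) :
    ∃ g ∈ E Φ, Fix Φ S g ∧ g.1 v = Φ.e i := by
  have start : ∀ w : V, Supp Φ S w → Q w = 0 → polar Q (Φ.f i) w = 0 →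
      ∀ l ∈ S, l ≠ i → (polar Q (Φ.e l) w ≠ 0 ∨ polar Q (Φ.f l) w ≠ 0) →
      ∃ g ∈ E Φ, Fix Φ S g ∧ polar Q (Φ.f i) (g.1 w) ≠ 0 := by
    intro w hw hwQ hwi l hl hli hne
    rcases hne with hne | hne
    · have h0 : polar Q (Φ.e l) (Φ.e i) = 0 := Φ.pee l i
      obtain ⟨g, hg⟩ := exists_eich Q (Φ.qe l) h0
      refine ⟨g, mem_e Φ h0 hg, supp_eich hg (supp_e hl) (supp_e hi), ?_⟩
      rw [hg w]
      simpa [hwi, polar_comm Q (Φ.f i) (Φ.e i), polar_comm Q (Φ.f i) (Φ.e l), Φ.pef, hli, Φ.qe]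
        using hne
    · have h0 : polar Q (Φ.f l) (Φ.e i) = 0 := by rw [polar_comm, Φ.pef, if_neg (Ne.symm hli)]
      obtain ⟨g, hg⟩ := exists_eich Q (Φ.qf l) h0
      refine ⟨g, mem_f Φ h0 hg, supp_eich hg (supp_f hl) (supp_e hi), ?_⟩
      rw [hg w]
      simpa [hwi, polar_comm Q (Φ.f i) (Φ.e i), Φ.pef, Φ.pff, Φ.qe] using hne
  -- a non-zero `i`-th component
  obtain ⟨g₁, hg₁, hf₁, ha⟩ : ∃ g ∈ E Φ, Fix Φ S g ∧ polar Q (Φ.f i) (g.1 v) ≠ 0 := by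
    by_cases ha : polar Q (Φ.f i) v ≠ 0
    · exact ⟨1, one_mem _, fun l _ => ⟨rfl, rfl⟩, ha⟩
    push Not at ha
    by_cases hex : ∃ l ∈ S, l ≠ i ∧ (polar Q (Φ.e l) v ≠ 0 ∨ polar Q (Φ.f l) v ≠ 0)
    · obtain ⟨l, hl, hli, hne⟩ := hex
      exact start v hv hQ ha l hl hli hne
    push Not at hex
    obtain ⟨c, hc⟩ := res_sub Φ (v := v) (w := polar Q (Φ.e i) v • Φ.f i) (fun l => by
      rcases eq_or_ne l i with rfl | h
      · simp [Φ.pef]
      · by_cases hl : l ∈ S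
        · simp [Φ.pef, h, (hex l hl h).1]
        · simp [Φ.pef, h, (hv l hl).1]) (fun l => by
      rcases eq_or_ne l i with rfl | h
      · simp [Φ.pff, ha]
      · by_cases hl : l ∈ S
        · simp [Φ.pff, (hex l hl h).2]
        · simp [Φ.pff, (hv l hl).2])
    have hcz : c • Φ.z = 0 := Φ.zq c (by
      have h := hQ
      rw [hc, QuadraticMap.map_add Q] at h
      simpa [QuadraticMap.map_smul, Φ.qf, Φ.pfz] using h)
    have hb : polar Q (Φ.e i) v ≠ 0 := fun h => hv0 (by rw [hc, h, hcz]; simp)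
    have h0 : polar Q (Φ.e i) (Φ.e j) = 0 := Φ.pee i j
    obtain ⟨g, hg⟩ := exists_eich Q (Φ.qe i) h0
    have hgf := supp_eich hg (supp_e hi) (supp_e hj)
    have hje : polar Q (Φ.e j) v = 0 := (hex j hj hji).1
    have hjf : polar Q (Φ.f j) v = 0 := (hex j hj hji).2
    obtain ⟨g', hg', hf', hne⟩ := start (g.1 v) (supp_image hgf hv) (by rw [g.2]; exact hQ) (by
        rw [hg v]
        simp [ha, polar_comm Q (Φ.f i) (Φ.e j), polar_comm Q (Φ.f i) (Φ.e i), Φ.pef, hji, Φ.qe,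
          hje])
      j hj hji (Or.inr (by
        rw [hg v]
        simpa [hjf, polar_comm Q (Φ.f j) (Φ.e j), polar_comm Q (Φ.f j) (Φ.e i), Φ.pef, hji.symm,
          Φ.qe] using hb))
    exact ⟨g' * g, mul_mem hg' (mem_e Φ h0 hg), hf'.mul Φ hgf, hne⟩
  obtain ⟨g₂, hg₂, hf₂, hgv, -⟩ := kill hi (supp_image hf₁ hv) (by rw [g₁.2]; exact hQ) ha
  obtain ⟨a, haeq⟩ : ∃ a, a = polar Q (Φ.f i) (g₁.1 v) := ⟨_, rfl⟩
  rw [← haeq] at hgv ha
  -- rescaling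
  have h3 : polar Q (Φ.f i) (a⁻¹ • Φ.e j) = 0 := by
    simp [polar_comm Q (Φ.f i) (Φ.e j), Φ.pef, hji]
  have h4 : polar Q (Φ.f j) ((1 - a) • Φ.e i) = 0 := by
    simp [polar_comm Q (Φ.f j) (Φ.e i), Φ.pef, hji.symm]
  obtain ⟨g₃, hg₃⟩ := exists_eich Q (Φ.qf i) h3
  obtain ⟨g₄, hg₄⟩ := exists_eich Q (Φ.qf j) h4
  have e3 : g₃.1 (a • Φ.e i) = a • Φ.e i + Φ.e j := by
    rw [hg₃]
    simp [polar_comm Q (Φ.f i) (Φ.e i), Φ.pef, Φ.pee, Φ.qe, smul_smul, ha,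
      QuadraticMap.map_smul]
  have e4 : g₄.1 (a • Φ.e i + Φ.e j) = Φ.e i + Φ.e j := by
    rw [hg₄]
    simp [polar_comm Q (Φ.f j) (Φ.e i), polar_comm Q (Φ.f j) (Φ.e j), Φ.pef, Φ.pee, Φ.qe, hji.symm,
      QuadraticMap.map_smul]
    module
  have h5 : polar Q (Φ.f i) (-Φ.e j) = 0 := by
    simp [polar_comm Q (Φ.f i) (Φ.e j), Φ.pef, hji]
  obtain ⟨g₅, hg₅⟩ := exists_eich Q (Φ.qf i) h5
  have e5 : g₅.1 (Φ.e i + Φ.e j) = Φ.e i := by
    rw [hg₅]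
    simp [polar_comm Q (Φ.f i) (Φ.e i), polar_comm Q (Φ.f i) (Φ.e j), Φ.pef, Φ.pee, Φ.qe, hji]
  refine ⟨g₅ * (g₄ * (g₃ * (g₂ * g₁))), mul_mem (mem_f Φ h5 hg₅) (mul_mem (mem_f Φ h4 hg₄)
    (mul_mem (mem_f Φ h3 hg₃) (mul_mem hg₂ hg₁))), ?_, ?_⟩
  · have hn : Supp Φ S (-Φ.e j) := by rw [← neg_one_smul F]; exact (supp_e hj).smul _
    exact Fix.mul Φ (supp_eich hg₅ (supp_f hi) hn) (Fix.mul Φ
      (supp_eich hg₄ (supp_f hj) ((supp_e hi).smul _)) (Fix.mul Φ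
      (supp_eich hg₃ (supp_f hi) ((supp_e hj).smul _)) (hf₂.mul Φ hf₁)))
  · show g₅.1 (g₄.1 (g₃.1 (g₂.1 (g₁.1 v)))) = _
    rw [hgv, e3, e4, e5]

/-- A hyperbolic pair moves to the `i`-th one. -/
theorem move_pair {S : Finset (Fin m)} {i j : Fin m} (hi : i ∈ S) (hj : j ∈ S) (hji : j ≠ i)
    {v w : V} (hv : Supp Φ S v) (hw : Supp Φ S w) (hqv : Q v = 0) (hqw : Q w = 0)
    (hvw : polar Q v w = 1) :
    ∃ g ∈ E Φ, Fix Φ S g ∧ g.1 v = Φ.e i ∧ g.1 w = Φ.f i := by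
  obtain ⟨g, hg, hf, hgv⟩ := move hi hj hji hv hqv (fun h => by simp [h] at hvw)
  have h1 : polar Q (Φ.e i) (g.1 w) = 1 := by rw [← hgv, polar_iso, hvw]
  obtain ⟨g', hg', hf', hgw, hfix⟩ := kill (Φ := flip Φ fun _ => true) hi (v := g.1 w) (fun l hl => by
      have := supp_image hf hw l hl
      exact ⟨this.2, this.1⟩) (by rw [g.2]; exact hqw) (by simp [flip, h1])
  simp [flip, h1] at hgw hfix
  refine ⟨g' * g, mul_mem (E_flip Φ _ hg') hg, fun l hl => ?_, ?_, hgw⟩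
  · have h := hf' l hl
    simp [flip] at h
    refine ⟨?_, ?_⟩
    · show g'.1 (g.1 _) = _
      rw [(hf l hl).1, h.2]
    · show g'.1 (g.1 _) = _
      rw [(hf l hl).2, h.1]
  · show g'.1 (g.1 v) = _
    rw [hgv, hfix]

/-- `E` is normal. -/
theorem conj_mem (hm : ∀ i : Fin m, ∃ j, j ≠ i) (g : quadIso Q) {x : quadIso Q} (hx : x ∈ E Φ) :
    g * x * g⁻¹ ∈ E Φ := by
  induction hx using Subgroup.closure_induction with
  | one => simp
  | mul a b _ _ ha hb =>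
    rw [show g * (a * b) * g⁻¹ = g * a * g⁻¹ * (g * b * g⁻¹) by group]
    exact mul_mem ha hb
  | inv a _ ha =>
    rw [show g * a⁻¹ * g⁻¹ = (g * a * g⁻¹)⁻¹ by group]
    exact inv_mem ha
  | mem s hs =>
    obtain ⟨i, u, h⟩ := hs
    obtain ⟨p, hp0, hpQ, hpu, hs'⟩ : ∃ p, p ≠ 0 ∧ Q p = 0 ∧ polar Q p u = 0 ∧ IsEich Q p u s := by
      rcases h with ⟨h1, h2⟩ | ⟨h1, h2⟩
      · exact ⟨_, fun h => by simpa [h] using Φ.pef i i, Φ.qe i, h1, h2⟩
      · exact ⟨_, fun h => by simpa [h] using Φ.pef i i, Φ.qf i, h1, h2⟩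
    obtain ⟨j, hj⟩ := hm i
    obtain ⟨y, hy, -, hyp⟩ := move (Φ := Φ) (Finset.mem_univ i) (Finset.mem_univ j) hj
      (v := g.1 p) (fun l hl => absurd (Finset.mem_univ l) hl) (by rw [g.2]; exact hpQ)
      (fun h => hp0 (g.1.injective (h.trans (map_zero _).symm)))
    have h1 : polar Q (Φ.e i) ((y * g).1 u) = 0 := by
      rw [← hyp]
      show polar Q ((y * g).1 p) ((y * g).1 u) = 0
      rw [polar_iso, hpu]
    obtain ⟨s', hs''⟩ := exists_eich Q (Φ.qe i) h1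
    have h2 : y * g * s = s' * (y * g) := Subtype.ext (LinearEquiv.ext fun z => by
      show (y * g).1 (s.1 z) = s'.1 ((y * g).1 z)
      rw [hs' z, hs'' _]
      simp only [map_add, map_smul, polar_iso, (y * g).2 u]
      rw [show (y * g).1 p = Φ.e i from hyp, ← hyp]
      show _ = _ + (polar Q ((y * g).1 p) _ • _ + (_ - _ * polar Q ((y * g).1 p) _) • _)
      rw [polar_iso])
    have h3 : g * s * g⁻¹ = y⁻¹ * s' * y := by
      calc g * s * g⁻¹ = y⁻¹ * (y * g * s) * g⁻¹ := by group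
        _ = y⁻¹ * (s' * (y * g)) * g⁻¹ := by rw [h2]
        _ = y⁻¹ * s' * y := by group
    rw [h3]
    exact mul_mem (mul_mem (inv_mem hy) (mem_e Φ h1 hs'')) hy

/-- An isometry is determined on the pairs and `z`. -/
theorem ext_frame {g h : quadIso Q} (he : ∀ i, g.1 (Φ.e i) = h.1 (Φ.e i))
    (hf : ∀ i, g.1 (Φ.f i) = h.1 (Φ.f i)) (hz : g.1 Φ.z = h.1 Φ.z) : g = h := by
  refine Subtype.ext (LinearEquiv.ext fun v => ?_)
  obtain ⟨c, hc⟩ := res_sub Φ (v := v)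
    (w := (∑ i, polar Q (Φ.f i) v • Φ.e i) + ∑ i, polar Q (Φ.e i) v • Φ.f i) (fun l => by
      rw [polar_add_right]
      simp only [← polarBilin_apply_apply, map_sum]
      simp [Φ.pee, Φ.pef]) (fun l => by
      rw [polar_add_right]
      simp only [← polarBilin_apply_apply, map_sum]
      simp [Φ.pff, polar_comm Q (Φ.f l) (Φ.e _), Φ.pef])
  rw [hc]
  simp only [map_add, map_sum, map_smul, he, hf, hz]

variable (Φ)

/-- Monomial on the `i`-th pair and trivial on the others. -/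
def Mono (i : Fin m) (g : quadIso Q) : Prop :=
  Fix Φ {i} g ∧ (∃ a b : F, (g.1 (Φ.e i) = a • Φ.e i ∧ g.1 (Φ.f i) = b • Φ.f i) ∨
    (g.1 (Φ.e i) = a • Φ.f i ∧ g.1 (Φ.f i) = b • Φ.e i)) ∧ ∃ c : F, g.1 Φ.z = c • Φ.z

variable {Φ}

/-- Every isometry is monomial up to `E`. -/
theorem exists_mono (i : Fin m) (g : quadIso Q) : ∃ x ∈ E Φ, Mono Φ i (x * g) := by
  have hT : ∀ T : Finset (Fin m), i ∉ T → ∃ x ∈ E Φ, Fix Φ Tᶜ (x * g) := by
    intro T
    induction T using Finset.induction_on with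
    | empty => exact fun _ => ⟨1, one_mem _, fun l hl => absurd (by simp) hl⟩
    | @insert l T hl ih =>
      intro hiT
      rw [Finset.mem_insert, not_or] at hiT
      obtain ⟨x, hx, hfix⟩ := ih hiT.2
      obtain ⟨y, hy, hyf, hye, hyf'⟩ := move_pair (Φ := Φ) (S := Tᶜ) (i := l) (j := i)
        (by simpa using hl) (by simpa using hiT.2) hiT.1
        (v := (x * g).1 (Φ.e l)) (w := (x * g).1 (Φ.f l))
        (supp_image hfix (supp_e (by simpa using hl)))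
        (supp_image hfix (supp_f (by simpa using hl)))
        (by rw [(x * g).2, Φ.qe]) (by rw [(x * g).2, Φ.qf])
        (by rw [polar_iso, Φ.pef, if_pos rfl])
      refine ⟨y * x, mul_mem hy hx, fun p hp => ?_⟩
      simp only [Finset.mem_compl, not_not, Finset.mem_insert] at hp
      rw [mul_assoc]
      rcases hp with rfl | hp
      · exact ⟨hye, hyf'⟩
      · exact (hyf.mul Φ hfix) p (by simpa using hp)
  obtain ⟨x, hx, hfix⟩ := hT (Finset.univ.erase i) (by simp)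
  have hS : (Finset.univ.erase i)ᶜ = ({i} : Finset (Fin m)) := by ext; simp
  rw [hS] at hfix
  set h := x * g with hh
  have hi : i ∈ ({i} : Finset (Fin m)) := Finset.mem_singleton_self i
  -- the image of `e i` becomes a multiple of `e i` or of `f i`
  have key : ∀ Ψ : Frame Q m, E Ψ ≤ E Φ → ∀ k : quadIso Q, Fix Ψ {i} k →
      polar Q (Ψ.f i) (k.1 (Ψ.e i)) ≠ 0 →
      ∃ y ∈ E Φ, Fix Ψ {i} (y * k) ∧ ∃ a b : F, (y * k).1 (Ψ.e i) = a • Ψ.e i ∧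
        (y * k).1 (Ψ.f i) = b • Ψ.f i := by
    intro Ψ hΨ k hk hne
    obtain ⟨y, hy, hyf, hye, -⟩ := kill (Φ := Ψ) hi (supp_image hk (supp_e hi))
      (by rw [k.2, Ψ.qe]) hne
    obtain ⟨a, ha⟩ : ∃ a, a = polar Q (Ψ.f i) (k.1 (Ψ.e i)) := ⟨_, rfl⟩
    rw [← ha] at hye hne
    have h1 : polar Q (Ψ.e i) ((y * k).1 (Ψ.f i)) = a⁻¹ := by
      have := polar_iso (y * k) (Ψ.e i) (Ψ.f i)
      rw [show (y * k).1 (Ψ.e i) = a • Ψ.e i from hye, polar_smul_left, Ψ.pef, if_pos rfl,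
        smul_eq_mul] at this
      exact eq_inv_of_mul_eq_one_right this
    obtain ⟨y', hy', hyf', hye', hfix'⟩ := kill (Φ := flip Ψ fun _ => true) hi
      (v := (y * k).1 (Ψ.f i)) (fun l hl => by
        have := supp_image (hyf.mul Ψ hk) (supp_f hi) l hl
        exact ⟨this.2, this.1⟩) (by rw [(y * k).2, Ψ.qf]) (by
        show polar Q (Ψ.e i) ((y * k).1 (Ψ.f i)) ≠ 0
        rw [h1]; exact inv_ne_zero hne)
    change y'.1 ((y * k).1 (Ψ.f i)) = polar Q (Ψ.e i) ((y * k).1 (Ψ.f i)) • Ψ.f i at hye'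
    change y'.1 (Ψ.e i) = Ψ.e i at hfix'
    rw [h1] at hye'
    refine ⟨y' * y, mul_mem (hΨ (E_flip Ψ _ hy')) (hΨ hy), fun l hl => ?_, a, a⁻¹, ?_, hye'⟩
    · have h := hyf' l hl
      simp [flip] at h
      have h2 := (hyf.mul Ψ hk) l hl
      refine ⟨?_, ?_⟩
      · show y'.1 ((y * k).1 _) = _
        rw [h2.1, h.2]
      · show y'.1 ((y * k).1 _) = _
        rw [h2.2, h.1]
    · show y'.1 (y.1 (k.1 _)) = _
      rw [hye, map_smul, hfix']
  have hz : ∀ k : quadIso Q, Fix Φ {i} k → (∃ a b : F,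
      (k.1 (Φ.e i) = a • Φ.e i ∧ k.1 (Φ.f i) = b • Φ.f i) ∨
      (k.1 (Φ.e i) = a • Φ.f i ∧ k.1 (Φ.f i) = b • Φ.e i)) → ∃ c : F, k.1 Φ.z = c • Φ.z := by
    intro k hk ⟨a, b, hab⟩
    have h1 : ∀ l, polar Q (k.1 (Φ.e l)) (k.1 Φ.z) = 0 ∧ polar Q (k.1 (Φ.f l)) (k.1 Φ.z) = 0 :=
      fun l => ⟨by rw [polar_iso, Φ.pez], by rw [polar_iso, Φ.pfz]⟩
    have hane : a ≠ 0 ∧ b ≠ 0 := by
      refine ⟨fun h => ?_, fun h => ?_⟩ <;>
      · have := polar_iso k (Φ.e i) (Φ.f i)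
        rcases hab with ⟨h1, h2⟩ | ⟨h1, h2⟩ <;> simp [h1, h2, h, Φ.pef] at this
    refine Φ.res _ (fun l => ?_) (fun l => ?_) <;> rcases eq_or_ne l i with rfl | hl
    · rcases hab with ⟨e1, e2⟩ | ⟨e1, e2⟩
      · simpa [e1, hane.1] using (h1 l).1
      · simpa [e2, hane.2] using (h1 l).2
    · simpa [(hk l (by simpa using hl)).1] using (h1 l).1
    · rcases hab with ⟨e1, e2⟩ | ⟨e1, e2⟩
      · simpa [e2, hane.2] using (h1 l).2
      · simpa [e1, hane.1] using (h1 l).1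
    · simpa [(hk l (by simpa using hl)).2] using (h1 l).2
  by_cases hne : polar Q (Φ.f i) (h.1 (Φ.e i)) ≠ 0
  · obtain ⟨y, hy, hyf, a, b, h1, h2⟩ := key Φ le_rfl h hfix hne
    refine ⟨y * x, mul_mem hy hx, ?_⟩
    rw [mul_assoc, ← hh]
    exact ⟨hyf, ⟨a, b, Or.inl ⟨h1, h2⟩⟩, hz _ hyf ⟨a, b, Or.inl ⟨h1, h2⟩⟩⟩
  push Not at hne
  obtain ⟨c, hc⟩ := res_sub Φ (v := h.1 (Φ.e i)) (w := polar Q (Φ.e i) (h.1 (Φ.e i)) • Φ.f i)
    (fun l => by
      rcases eq_or_ne l i with rfl | hl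
      · simp [Φ.pef]
      · simp [Φ.pef, hl, (supp_image hfix (supp_e hi) l (by simpa using hl)).1])
    (fun l => by
      rcases eq_or_ne l i with rfl | hl
      · simp [Φ.pff, hne]
      · simp [Φ.pff, (supp_image hfix (supp_e hi) l (by simpa using hl)).2])
  have hcz : c • Φ.z = 0 := Φ.zq c (by
    have h2 : Q (h.1 (Φ.e i)) = 0 := by rw [h.2, Φ.qe]
    rw [hc, QuadraticMap.map_add Q] at h2
    simpa [QuadraticMap.map_smul, Φ.qf, Φ.pfz] using h2)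
  rw [hcz, add_zero] at hc
  -- the second vector, in the flipped frame
  obtain ⟨a, rfl'⟩ : ∃ a, a = polar Q (Φ.e i) (h.1 (Φ.e i)) := ⟨_, rfl⟩
  rw [← rfl'] at hc
  have ha : a ≠ 0 := fun h0 => by
    have := polar_iso h (Φ.e i) (Φ.f i)
    simp [hc, h0, Φ.pef] at this
  have h1 : polar Q (Φ.f i) (h.1 (Φ.f i)) = a⁻¹ := by
    have := polar_iso h (Φ.e i) (Φ.f i)
    rw [hc, polar_smul_left, Φ.pef, if_pos rfl, smul_eq_mul] at this
    exact eq_inv_of_mul_eq_one_right this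
  obtain ⟨y, hy, hyf, hye, hfy⟩ := kill (Φ := Φ) hi (supp_image hfix (supp_f hi))
    (by rw [h.2, Φ.qf]) (by rw [h1]; exact inv_ne_zero ha)
  rw [h1] at hye
  refine ⟨y * x, mul_mem hy hx, ?_⟩
  rw [mul_assoc, ← hh]
  have h2 : (y * h).1 (Φ.e i) = a • Φ.f i := by
    show y.1 (h.1 _) = _
    rw [hc, map_smul, hfy]
  exact ⟨hyf.mul Φ hfix, ⟨a, a⁻¹, Or.inr ⟨h2, hye⟩⟩,
    hz _ (hyf.mul Φ hfix) ⟨a, a⁻¹, Or.inr ⟨h2, hye⟩⟩⟩

/-- The torus of a pair. -/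
theorem exists_torus (i : Fin m) {a : F} (ha : a ≠ 0) :
    ∃ g : quadIso Q, ∀ v, g.1 v =
      v + ((a - 1) * polar Q (Φ.f i) v) • Φ.e i + ((a⁻¹ - 1) * polar Q (Φ.e i) v) • Φ.f i := by
  let mk : F → V →ₗ[F] V := fun a => LinearMap.id + ((a - 1) • polarBilin Q (Φ.f i)).smulRight (Φ.e i)
    + ((a⁻¹ - 1) • polarBilin Q (Φ.e i)).smulRight (Φ.f i)
  have hmk : ∀ a v, mk a v =
      v + ((a - 1) * polar Q (Φ.f i) v) • Φ.e i + ((a⁻¹ - 1) * polar Q (Φ.e i) v) • Φ.f i :=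
    fun a v => by simp [mk]
  have hinv : ∀ a : F, a ≠ 0 → mk a ∘ₗ mk a⁻¹ = LinearMap.id := fun a ha => by
    ext v
    simp [hmk, Φ.pee, Φ.pff, Φ.pef, polar_comm Q (Φ.f i) (Φ.e i)]
    match_scalars <;> field_simp <;> ring
  refine ⟨⟨LinearEquiv.ofLinearMap (mk a) (mk a⁻¹) (hinv a ha) (by
    have := hinv a⁻¹ (inv_ne_zero ha)
    rwa [inv_inv] at this), fun v => ?_⟩, fun v => hmk a v⟩
  show Q (mk a v) = Q v
  rw [hmk, QuadraticMap.map_add Q, QuadraticMap.map_add Q v]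
  simp [QuadraticMap.map_smul, Φ.qe, Φ.qf, Φ.pef, polar_comm Q v]
  field_simp
  ring

/-- The square of a torus element lies in `E`. -/
theorem torus_sq (hm : ∀ i : Fin m, ∃ j, j ≠ i) {i : Fin m} {a : F} (ha : a ≠ 0) {g : quadIso Q}
    (hg : ∀ v, g.1 v = v + ((a - 1) * polar Q (Φ.f i) v) • Φ.e i +
      ((a⁻¹ - 1) * polar Q (Φ.e i) v) • Φ.f i) : g * g ∈ E Φ := by
  obtain ⟨j, hj⟩ := hm i
  have hu : ∀ S : Finset (Fin m), S = Finset.univ → ∀ v, Supp Φ S v :=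
    fun S hS v l hl => absurd (hS ▸ Finset.mem_univ l) hl
  obtain ⟨x, hx, -, hxe, hxf⟩ := move_pair (Φ := Φ) (Finset.mem_univ j) (Finset.mem_univ i) hj.symm
    (hu _ rfl (Φ.e i)) (hu _ rfl (Φ.f i)) (Φ.qe i) (Φ.qf i) (by rw [Φ.pef, if_pos rfl])
  obtain ⟨y, hy, -, hye, hyf⟩ := move_pair (Φ := Φ) (Finset.mem_univ j) (Finset.mem_univ i) hj.symm
    (hu _ rfl (Φ.f i)) (hu _ rfl (Φ.e i)) (Φ.qf i) (Φ.qe i)
    (by rw [polar_comm, Φ.pef, if_pos rfl])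
  -- both conjugates act on the `j`-th pair only
  have hx' : ∀ v, (x * g * x⁻¹).1 v = v + ((a - 1) * polar Q (Φ.f j) v) • Φ.e j +
      ((a⁻¹ - 1) * polar Q (Φ.e j) v) • Φ.f j := fun v => by
    obtain ⟨w, rfl⟩ : ∃ w, x.1 w = v := ⟨x.1.symm v, x.1.apply_symm_apply v⟩
    show x.1 (g.1 (x.1.symm (x.1 w))) = _
    rw [x.1.symm_apply_apply, hg, ← hxe, ← hxf, polar_iso, polar_iso]
    simp
  have hy' : ∀ v, (y * g * y⁻¹).1 v = v + ((a - 1) * polar Q (Φ.e j) v) • Φ.f j +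
      ((a⁻¹ - 1) * polar Q (Φ.f j) v) • Φ.e j := fun v => by
    obtain ⟨w, rfl⟩ : ∃ w, y.1 w = v := ⟨y.1.symm v, y.1.apply_symm_apply v⟩
    show y.1 (g.1 (y.1.symm (y.1 w))) = _
    rw [y.1.symm_apply_apply, hg, ← hye, ← hyf, polar_iso, polar_iso]
    simp
  have h1 : x * g * x⁻¹ * (y * g * y⁻¹) = 1 := Subtype.ext (LinearEquiv.ext fun v => by
    show (x * g * x⁻¹).1 ((y * g * y⁻¹).1 v) = v
    rw [hx', hy']
    simp [Φ.pee, Φ.pff, Φ.pef, polar_comm Q (Φ.f j) (Φ.e j)]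
    match_scalars <;> field_simp <;> ring)
  have h2 : g * x⁻¹ * g⁻¹ ∈ E Φ := conj_mem hm g (inv_mem hx)
  have h3 : g * y⁻¹ * g⁻¹ ∈ E Φ := conj_mem hm g (inv_mem hy)
  -- `x g x⁻¹ = (x g x⁻¹ g⁻¹) g`
  have h4 : g * g = (x * (g * x⁻¹ * g⁻¹))⁻¹ * (x * g * x⁻¹ * (y * g * y⁻¹)) *
      (g⁻¹ * (y * (g * y⁻¹ * g⁻¹))⁻¹ * g) := by group
  rw [h4, h1, mul_one]
  refine mul_mem (inv_mem (mul_mem hx h2)) ?_
  have := conj_mem hm g⁻¹ (inv_mem (mul_mem hy h3))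
  rwa [inv_inv] at this

/-- The derived group lies in `E`. -/
theorem commutator_le (hm : ∀ i : Fin m, ∃ j, j ≠ i) (i : Fin m) :
    commutator (quadIso Q) ≤ E Φ := by
  haveI hN : (E Φ).Normal := ⟨fun x hx g => conj_mem hm g hx⟩
  rw [commutator_def, Subgroup.commutator_le]
  intro g _ h _
  obtain ⟨x, hx, hg⟩ := exists_mono (Φ := Φ) i g
  obtain ⟨y, hy, hh⟩ := exists_mono (Φ := Φ) i h
  -- enough for monomial elements
  suffices key : ⁅x * g, y * h⁆ ∈ E Φ by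
    rw [← QuotientGroup.eq_one_iff] at key hx hy ⊢
    simp only [commutatorElement_def, QuotientGroup.mk_mul, QuotientGroup.mk_inv, hx, hy,
      one_mul] at key ⊢
    exact key
  obtain ⟨hgf, ⟨a, b, hab⟩, c, hgc⟩ := hg
  obtain ⟨hhf, ⟨a', b', hab'⟩, c', hhc⟩ := hh
  set G := x * g with hG
  set H := y * h with hH
  have hpol : ∀ (G : quadIso Q) (a b : F), ((G.1 (Φ.e i) = a • Φ.e i ∧ G.1 (Φ.f i) = b • Φ.f i) ∨
      (G.1 (Φ.e i) = a • Φ.f i ∧ G.1 (Φ.f i) = b • Φ.e i)) → a * b = 1 := fun G a b hab => by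
    have := polar_iso G (Φ.e i) (Φ.f i)
    rcases hab with ⟨h1, h2⟩ | ⟨h1, h2⟩ <;>
      simpa [h1, h2, Φ.pef, polar_comm Q (Φ.f i) (Φ.e i), mul_comm] using this
  have hb : a * b = 1 := hpol G a b hab
  have hb' : a' * b' = 1 := hpol H a' b' hab'
  have ha : a ≠ 0 := left_ne_zero_of_mul_eq_one hb
  have ha' : a' ≠ 0 := left_ne_zero_of_mul_eq_one hb'
  obtain rfl : b = a⁻¹ := eq_inv_of_mul_eq_one_right hb
  obtain rfl : b' = a'⁻¹ := eq_inv_of_mul_eq_one_right hb'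
  -- on the rest the two commute
  have hother : ∀ l, l ≠ i → (G * H).1 (Φ.e l) = Φ.e l ∧ (G * H).1 (Φ.f l) = Φ.f l ∧
      (H * G).1 (Φ.e l) = Φ.e l ∧ (H * G).1 (Φ.f l) = Φ.f l := fun l hl => by
    have h1 := hgf l (by simpa using hl)
    have h2 := hhf l (by simpa using hl)
    refine ⟨?_, ?_, ?_, ?_⟩
    · show G.1 (H.1 _) = _; rw [h2.1, h1.1]
    · show G.1 (H.1 _) = _; rw [h2.2, h1.2]
    · show H.1 (G.1 _) = _; rw [h1.1, h2.1]
    · show H.1 (G.1 _) = _; rw [h1.2, h2.2]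
  have hz : (G * H).1 Φ.z = (c * c') • Φ.z ∧ (H * G).1 Φ.z = (c * c') • Φ.z := by
    refine ⟨?_, ?_⟩
    · show G.1 (H.1 Φ.z) = _
      rw [hhc, map_smul, hgc, smul_smul, mul_comm]
    · show H.1 (G.1 Φ.z) = _
      rw [hgc, map_smul, hhc, smul_smul]
  have fin : ∀ k : F, k ≠ 0 → (∀ τ : quadIso Q, τ.1 (Φ.e i) = k • Φ.e i →
      τ.1 (Φ.f i) = k⁻¹ • Φ.f i →
      (G * H).1 (Φ.e i) = τ.1 (τ.1 ((H * G).1 (Φ.e i))) ∧
        (G * H).1 (Φ.f i) = τ.1 (τ.1 ((H * G).1 (Φ.f i)))) → ⁅G, H⁆ ∈ E Φ := by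
    intro k hk hef
    obtain ⟨τ, hτ⟩ := exists_torus (Φ := Φ) i hk
    have hval : ∀ l, τ.1 (Φ.e l) = (if l = i then k else 1) • Φ.e l ∧
        τ.1 (Φ.f l) = (if l = i then k⁻¹ else 1) • Φ.f l := fun l => by
      rcases eq_or_ne l i with rfl | hl
      · refine ⟨?_, ?_⟩ <;> rw [hτ] <;>
          simp [Φ.pee, Φ.pff, Φ.pef, polar_comm Q (Φ.f l) (Φ.e l)] <;> module
      · refine ⟨?_, ?_⟩ <;> rw [hτ] <;>
          simp [Φ.pee, Φ.pff, Φ.pef, polar_comm Q (Φ.f i) (Φ.e l), hl, Ne.symm hl]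
    have hτz : τ.1 Φ.z = Φ.z := by rw [hτ]; simp [Φ.pez, Φ.pfz]
    have heq : G * H = τ * τ * (H * G) := by
      refine ext_frame (Φ := Φ) (fun l => ?_) (fun l => ?_) ?_
      · show _ = τ.1 (τ.1 ((H * G).1 _))
        rcases eq_or_ne l i with rfl | hl
        · exact (hef τ (by simpa using (hval l).1) (by simpa using (hval l).2)).1
        · rw [(hother l hl).1, (hother l hl).2.2.1, (hval l).1]
          simp [hl, (hval l).1]
      · show _ = τ.1 (τ.1 ((H * G).1 _))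
        rcases eq_or_ne l i with rfl | hl
        · exact (hef τ (by simpa using (hval l).1) (by simpa using (hval l).2)).2
        · rw [(hother l hl).2.1, (hother l hl).2.2.2, (hval l).2]
          simp [hl, (hval l).2]
      · show _ = τ.1 (τ.1 ((H * G).1 _))
        rw [hz.1, hz.2, map_smul, map_smul, hτz, hτz]
    rw [commutatorElement_def, show G * H * G⁻¹ * H⁻¹ = (G * H) * (H * G)⁻¹ by group, heq,
      mul_inv_cancel_right]
    exact torus_sq hm hk hτ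
  have hinv : ∀ k : F, k ≠ 0 → k⁻¹ * k = 1 := fun k hk => inv_mul_cancel₀ hk
  rcases hab with ⟨g1, g2⟩ | ⟨g1, g2⟩ <;> rcases hab' with ⟨h1, h2⟩ | ⟨h1, h2⟩
  · exact fin 1 one_ne_zero fun τ t1 t2 => ⟨by
      show G.1 (H.1 _) = τ.1 (τ.1 (H.1 (G.1 _)))
      simp only [g1, h1, map_smul, smul_smul, t1]; congr 1; ring, by
      show G.1 (H.1 _) = τ.1 (τ.1 (H.1 (G.1 _)))
      simp only [g2, h2, map_smul, smul_smul, t2]; congr 1; field_simp⟩
  · exact fin a ha fun τ t1 t2 => ⟨by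
      show G.1 (H.1 _) = τ.1 (τ.1 (H.1 (G.1 _)))
      simp only [g1, g2, h1, map_smul, smul_smul, t2]; congr 1; field_simp, by
      show G.1 (H.1 _) = τ.1 (τ.1 (H.1 (G.1 _)))
      simp only [g1, g2, h2, map_smul, smul_smul, t1]; congr 1; field_simp⟩
  · exact fin a'⁻¹ (inv_ne_zero ha') fun τ t1 t2 => ⟨by
      show G.1 (H.1 _) = τ.1 (τ.1 (H.1 (G.1 _)))
      simp only [g1, h1, h2, map_smul, smul_smul, t2, inv_inv]; congr 1; field_simp, by
      show G.1 (H.1 _) = τ.1 (τ.1 (H.1 (G.1 _)))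
      simp only [g2, h1, h2, map_smul, smul_smul, t1]; congr 1; field_simp⟩
  · exact fin (a' * a⁻¹) (mul_ne_zero ha' (inv_ne_zero ha)) fun τ t1 t2 => ⟨by
      show G.1 (H.1 _) = τ.1 (τ.1 (H.1 (G.1 _)))
      simp only [g1, g2, h1, h2, map_smul, smul_smul, t1]; congr 1; field_simp, by
      show G.1 (H.1 _) = τ.1 (τ.1 (H.1 (G.1 _)))
      simp only [g1, g2, h1, h2, map_smul, smul_smul, t2]; congr 1; field_simp⟩

end CfsgLib.SplitOrth
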