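/-
Sparse matrices with coefficients in integer polynomials of one variable, for checks in the kernel.
-/
import Mathlib

set_option autoImplicit false

namespace CfsgLib.ChevClassical

/-- An entry: degree, row, column and coefficient. -/
abbrev Ent (ι : Type) : Type := ℕ × ι × ι × ℤ

variable {ι : Type} [DecidableEq ι]

/-- Multiply by `c X^k`. -/
def scale (c : ℤ) (k : ℕ) (L : List (Ent ι)) : List (Ent ι) :=
  L.map fun e => (e.1 + k, e.2.1, e.2.2.1, c * e.2.2.2)

/-- The product of two matrices. -/
def mul (L M : List (Ent ι)) : List (Ent ι) :=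
  L.flatMap fun a => M.filterMap fun b =>
    if a.2.2.1 = b.2.1 then some (a.1 + b.1, a.2.1, b.2.2.1, a.2.2.2 * b.2.2.2) else none

/-- Substitute `-X` for `X`. -/
def subNeg (L : List (Ent ι)) : List (Ent ι) :=
  L.map fun e => (e.1, e.2.1, e.2.2.1, (-1) ^ e.1 * e.2.2.2)

/-- The transposed matrix. -/
def tr (L : List (Ent ι)) : List (Ent ι) := L.map fun e => (e.1, e.2.2.1, e.2.1, e.2.2.2)

/-- Insert, merging entries at the same place. -/
def ins (e : Ent ι) : List (Ent ι) → List (Ent ι)
  | [] => [e]
  | a :: r => if a.1 = e.1 ∧ a.2.1 = e.2.1 ∧ a.2.2.1 = e.2.2.1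
      then (a.1, a.2.1, a.2.2.1, a.2.2.2 + e.2.2.2) :: r else a :: ins e r

/-- The zero test. -/
def isZero (L : List (Ent ι)) : Bool := (L.foldr ins []).all fun e => e.2.2.2 == 0

section eval

variable [Fintype ι] {F : Type*} [CommRing F] (t : F)

/-- The value at `t`. -/
def eval : List (Ent ι) → Matrix ι ι F
  | [] => 0
  | e :: L => Matrix.single e.2.1 e.2.2.1 ((e.2.2.2 : F) * t ^ e.1) + eval L

@[simp] theorem eval_nil : eval t ([] : List (Ent ι)) = 0 := rfl

theorem eval_cons (e : Ent ι) (L : List (Ent ι)) :
    eval t (e :: L) = Matrix.single e.2.1 e.2.2.1 ((e.2.2.2 : F) * t ^ e.1) + eval t L := rfl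

@[simp] theorem eval_append (L M : List (Ent ι)) : eval t (L ++ M) = eval t L + eval t M := by
  induction L with
  | nil => simp
  | cons e L ih => rw [List.cons_append, eval_cons, eval_cons, ih, add_assoc]

theorem eval_scale (c : ℤ) (k : ℕ) (L : List (Ent ι)) :
    eval t (scale c k L) = ((c : F) * t ^ k) • eval t L := by
  induction L with
  | nil => simp [scale]
  | cons e L ih =>
    rw [scale, List.map_cons, eval_cons, eval_cons, ← scale, ih, smul_add, Matrix.smul_single]
    congr 2
    rw [Int.cast_mul, pow_add, smul_eq_mul]; ring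

theorem eval_mul_single (a : Ent ι) (M : List (Ent ι)) :
    eval t (M.filterMap fun b =>
      if a.2.2.1 = b.2.1 then some (a.1 + b.1, a.2.1, b.2.2.1, a.2.2.2 * b.2.2.2) else none) =
    Matrix.single a.2.1 a.2.2.1 ((a.2.2.2 : F) * t ^ a.1) * eval t M := by
  induction M with
  | nil => simp
  | cons b M ih =>
    by_cases h : a.2.2.1 = b.2.1
    · rw [List.filterMap_cons, if_pos h]
      show eval t (_ :: _) = _
      rw [eval_cons, ih, eval_cons, mul_add, ← h, Matrix.single_mul_single_same]
      congr 2
      rw [Int.cast_mul, pow_add]; ring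
    · rw [List.filterMap_cons, if_neg h]
      show eval t _ = _
      rw [ih, eval_cons, mul_add, Matrix.single_mul_single_of_ne _ _ _ _ h, zero_add]

theorem eval_mul (L M : List (Ent ι)) : eval t (mul L M) = eval t L * eval t M := by
  induction L with
  | nil => simp [mul]
  | cons a L ih =>
    rw [mul, List.flatMap_cons, ← mul, eval_append, ih, eval_cons, add_mul, eval_mul_single]

theorem eval_subNeg (L : List (Ent ι)) : eval t (subNeg L) = eval (-t) L := by
  induction L with
  | nil => simp [subNeg]
  | cons e L ih =>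
    rw [subNeg, List.map_cons, eval_cons, eval_cons, ← subNeg, ih]
    congr 2
    rw [neg_pow t]
    push_cast
    ring

theorem eval_tr (L : List (Ent ι)) : eval t (tr L) = (eval t L).transpose := by
  induction L with
  | nil => simp [tr]
  | cons e L ih =>
    rw [tr, List.map_cons, eval_cons, eval_cons, ← tr, ih, Matrix.transpose_add,
      Matrix.transpose_single]

theorem eval_ins (e : Ent ι) (L : List (Ent ι)) :
    eval t (ins e L) = Matrix.single e.2.1 e.2.2.1 ((e.2.2.2 : F) * t ^ e.1) + eval t L := by
  induction L with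
  | nil => simp [ins, eval_cons]
  | cons a r ih =>
    rw [ins]
    by_cases h : a.1 = e.1 ∧ a.2.1 = e.2.1 ∧ a.2.2.1 = e.2.2.1
    · rw [if_pos h, eval_cons, eval_cons]
      simp only [h.1, h.2.1, h.2.2, Int.cast_add, add_mul, Matrix.single_add]
      abel
    · rw [if_neg h, eval_cons, eval_cons, ih]
      abel

theorem eval_foldr (L : List (Ent ι)) : eval t (L.foldr ins []) = eval t L := by
  induction L with
  | nil => simp
  | cons e L ih => rw [List.foldr_cons, eval_ins, ih, eval_cons]

theorem eval_zero_of_all {L : List (Ent ι)} (h : ∀ e ∈ L, e.2.2.2 = 0) : eval t L = 0 := by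
  induction L with
  | nil => simp
  | cons e L ih =>
    rw [eval_cons, h e (by simp), ih fun e' he' => h e' (by simp [he'])]
    simp

theorem eval_of_isZero {L : List (Ent ι)} (h : isZero L = true) : eval t L = 0 := by
  rw [← eval_foldr]
  refine eval_zero_of_all t fun e he => ?_
  exact beq_iff_eq.1 (List.all_eq_true.1 h e he)

theorem eval_eq_of_isZero {L M : List (Ent ι)} (h : isZero (L ++ scale (-1) 0 M) = true) :
    eval t L = eval t M := by
  have := eval_of_isZero t h
  rw [eval_append, eval_scale] at this
  simpa [← sub_eq_add_neg, sub_eq_zero] using this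

theorem eval_deg_zero {L : List (Ent ι)} (h : ∀ e ∈ L, e.1 = 0) (s : F) : eval t L = eval s L := by
  induction L with
  | nil => simp
  | cons e L ih =>
    rw [eval_cons, eval_cons, h e (by simp), ih fun e' he' => h e' (by simp [he'])]
    simp

theorem eval_flatMap {α : Type} (g : α → List (Ent ι)) (l : List α) :
    eval t (l.flatMap g) = (l.map fun a => eval t (g a)).sum := by
  induction l with
  | nil => simp
  | cons a l ih => rw [List.flatMap_cons, eval_append, ih, List.map_cons, List.sum_cons]

theorem eval_apply_sum (L : List (Ent ι)) (G : ι → ι → F) :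
    ∑ a, ∑ b, eval t L a b * G a b =
      (L.map fun e => (e.2.2.2 : F) * t ^ e.1 * G e.2.1 e.2.2.1).sum := by
  induction L with
  | nil => simp
  | cons e L ih =>
    rw [List.map_cons, List.sum_cons, ← ih, eval_cons]
    simp only [Matrix.add_apply, add_mul, Finset.sum_add_distrib]
    congr 1
    rw [Finset.sum_eq_single e.2.1 (fun a _ ha => by simp [Matrix.single, Ne.symm ha]) (by simp),
      Finset.sum_eq_single e.2.2.1 (fun b _ hb => by simp [Matrix.single, Ne.symm hb]) (by simp)]
    simp [Matrix.single]

/-- Entries on the diagonal. -/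
theorem eval_diag (L : List (Ent ι)) (i : ι) :
    eval t (L.filter fun e => e.2.1 == e.2.2.1) i i = eval t L i i := by
  induction L with
  | nil => simp
  | cons e L ih =>
    rw [eval_cons, List.filter_cons]
    by_cases h : e.2.1 = e.2.2.1
    · simp [h, eval_cons, ih]
    · simp [h, ih, Matrix.single]
      intro h1 h2
      exact absurd (h1.trans h2.symm) h

end eval

end CfsgLib.ChevClassical
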