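/-
A vector model of a Chevalley group given by sparse tables, and the isomorphism with `PΩ`.
-/
import Cfsg.Agent.Lib.ChevClassical.Sparse
import Cfsg.Agent.Lib.ChevClassical.SplitOrth
import Cfsg.Agent.Lib.SpinorMatrix
import Cfsg.Prelude.Def_Chevalley
import Cfsg.Prelude.Def_Classical

set_option autoImplicit false
set_option linter.unusedSectionVars false
set_option maxHeartbeats 800000

namespace CfsgLib.ChevClassical

open Cfsg Cfsg.Lie Matrix
open CfsgLib.WittExtension (quadIso)

/-- The tables: root elements `1 + A_r`, coroots, the form, the hyperbolic pairs and certificates. -/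
structure Tab (D : ChevalleyDatum) (ι : Type) (m : ℕ) where
  idx : List ι
  A : Fin D.nroots → List (Ent ι)
  H : Fin D.rank → List (Ent ι)
  U : List (Ent ι)
  pe : Fin m → ι
  pf : Fin m → ι
  root : ι → ι → Fin D.nroots × Bool
  cent : ι → ι → Fin D.nroots × ι × ι × Bool
  base : ι
  ref : ι → ι
  moved : ι × ι

variable {D : ChevalleyDatum} {ι : Type} [Fintype ι] [DecidableEq ι] {m : ℕ}

def sgn (b : Bool) : ℤ := bif b then 1 else -1

namespace Tab

variable (T : Tab D ι m)

def one : List (Ent ι) := T.idx.map fun i => (0, i, i, 1)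

def X (r : Fin D.nroots) : List (Ent ι) :=
  ((T.A r).filter fun e => e.1 == 1).map fun e => (0, e.2.1, e.2.2.1, e.2.2.2)

def Y (r : Fin D.nroots) : List (Ent ι) := T.one ++ T.A r

def psi : D.Idx → List (Ent ι)
  | Sum.inl i => T.H i
  | Sum.inr r => T.X r

/-- The image of a column of `x_r(t)`. -/
def lhs (r : Fin D.nroots) : D.Idx → List (Ent ι)
  | Sum.inl i => T.H i ++ scale (-((D.cartanSR.getD i.val #[]).getD r.val 0)) 1 (T.X r)
  | Sum.inr s =>
    if s = r then T.X r
    else if s.val = D.negIdx.getD r.val 0 then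
      T.X s ++ ((List.finRange D.rank).flatMap fun i =>
        scale ((D.coroot.getD r.val #[]).getD i.val 0) 1 (T.H i)) ++ scale (-1) 2 (T.X r)
    else T.X s ++ (List.finRange D.nroots).flatMap fun u =>
      (D.chainCoeff r.val s.val u.val).flatMap fun km => scale km.2 km.1 (T.X u)

def conjList (r : Fin D.nroots) (X : List (Ent ι)) : List (Ent ι) :=
  mul (mul (T.Y r) X) (subNeg (T.Y r))

def isoList (r : Fin D.nroots) : List (Ent ι) :=
  mul (mul (tr (T.Y r)) T.U) (T.Y r) ++ scale (-1) 0 T.U

/-- The polar form. -/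
def P : List (Ent ι) := T.U ++ tr T.U

/-- An Eichler transformation at two basis vectors. -/
def eich (p q : ι) : List (Ent ι) :=
  ((T.P.filter fun e => e.2.1 == p).map fun e => (1, q, e.2.2.1, e.2.2.2)) ++
  ((T.P.filter fun e => e.2.1 == q).map fun e => (1, p, e.2.2.1, -e.2.2.2)) ++
  (T.P.filter fun e => e.2.1 == p).flatMap fun e =>
    (T.U.filter fun d => d.2.1 == q && d.2.2.1 == q).map fun d =>
      (2, p, e.2.2.1, -(d.2.2.2 * e.2.2.2))

/-- The entry `(p, q)` of `g X - X g` as a linear form in `g`. -/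
def form (r : Fin D.nroots) (p q : ι) : List (Ent ι) :=
  (((T.X r).filter fun e => e.2.2.1 == q).map fun e => (0, p, e.2.1, e.2.2.2)) ++
  (((T.X r).filter fun e => e.2.1 == p).map fun e => (0, e.2.2.1, q, -e.2.2.2))

def centRhs (i j : ι) : List (Ent ι) :=
  if i = j then [(0, i, i, -1), (0, T.ref i, T.ref i, 1)] else [(0, i, j, -1)]

/-- The checks. -/
structure OK : Prop where
  nodup : T.idx.Nodup
  full : ∀ i, i ∈ T.idx
  deg : ∀ c, ∀ e ∈ T.psi c, e.1 = 0
  degU : ∀ e ∈ T.U, e.1 = 0
  inv : ∀ r, isZero (mul (T.Y r) (subNeg (T.Y r)) ++ scale (-1) 0 T.one) = true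
  isoDiag : ∀ r, isZero ((T.isoList r).filter fun e => e.2.1 == e.2.2.1) = true
  isoSymm : ∀ r, isZero (T.isoList r ++ tr (T.isoList r)) = true
  adj : ∀ r c, isZero (T.lhs r c ++ scale (-1) 0 (T.conjList r (T.psi c))) = true
  centOK : ∀ i j, (i = j → i ≠ T.base) →
    isZero (T.form (T.cent i j).1 (T.cent i j).2.1 (T.cent i j).2.2.1 ++
      scale (sgn (T.cent i j).2.2.2) 0 (T.centRhs i j)) = true
  refOK : ∀ i, T.ref (T.ref i) = T.base
  movedNe : T.moved.1 ≠ T.moved.2
  movedOK : ∃ r, ((T.A r).filter fun e => e.2.1 == T.moved.1 && e.2.2.1 == T.moved.2).map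
    (fun e => e.2.2.2) ∈ [[1], [-1]]
  eichE : ∀ i k, k ≠ T.pf i → k ≠ T.pe i → isZero (T.eich (T.pe i) k ++
    scale (-1) 0 (if (T.root (T.pe i) k).2 then T.A (T.root (T.pe i) k).1
      else subNeg (T.A (T.root (T.pe i) k).1))) = true
  eichF : ∀ i k, k ≠ T.pe i → k ≠ T.pf i → isZero (T.eich (T.pf i) k ++
    scale (-1) 0 (if (T.root (T.pf i) k).2 then T.A (T.root (T.pf i) k).1
      else subNeg (T.A (T.root (T.pf i) k).1))) = true

variable {T} (hT : T.OK) (F : Type*) [Field F]

include hT in
theorem eval_one (t : F) : eval t T.one = 1 := by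
  have h : ∀ l : List ι, l.Nodup →
      eval t (l.map fun i => ((0, i, i, 1) : Ent ι)) =
        Matrix.diagonal fun i => if i ∈ l then (1 : F) else 0 := by
    intro l hl
    induction l with
    | nil => simp
    | cons a l ih =>
      rw [List.nodup_cons] at hl
      rw [List.map_cons, eval_cons, ih hl.2]
      ext x y
      by_cases hxy : x = y
      · subst hxy
        by_cases hxa : x = a
        · subst hxa; simp [hl.1]
        · simp [hxa, Matrix.single, Ne.symm hxa]
      · simp [hxy, Matrix.single]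
        rintro rfl; exact hxy
  rw [one, h _ hT.nodup]
  simp [hT.full]

/-- The root element in the vector model. -/
noncomputable def y (r : Fin D.nroots) (t : F) : GL ι F where
  val := eval t (T.Y r)
  inv := eval (-t) (T.Y r)
  val_inv := by
    have := eval_eq_of_isZero t (hT.inv r)
    rwa [eval_mul, eval_subNeg, eval_one hT] at this
  inv_val := by
    have := eval_eq_of_isZero (-t) (hT.inv r)
    rwa [eval_mul, eval_subNeg, eval_one hT, neg_neg] at this

theorem y_val (r : Fin D.nroots) (t : F) : (y hT F r t : Matrix ι ι F) = eval t (T.Y r) := rfl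

theorem y_inv (r : Fin D.nroots) (t : F) :
    ((y hT F r t)⁻¹ : GL ι F).val = eval (-t) (T.Y r) := rfl

/-- The model group. -/
noncomputable def Em : Subgroup (GL ι F) :=
  Subgroup.closure {g | ∃ r t, g = y hT F r t}

variable (T)

/-- The image of a basis vector of the Lie algebra. -/
noncomputable def psiM (c : D.Idx) : Matrix ι ι F := eval (1 : F) (T.psi c)

/-- The map of the Lie algebra into matrices. -/
noncomputable def L : (D.Idx → F) →ₗ[F] Matrix ι ι F :=
  ∑ c, (LinearMap.proj c : (D.Idx → F) →ₗ[F] F).smulRight (psiM T F c)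

variable {T}

theorem L_apply (v : D.Idx → F) : L T F v = ∑ c, v c • psiM T F c := by
  simp [L]

theorem L_single (c : D.Idx) : L T F (Pi.single c 1) = psiM T F c := by
  simp [L_apply, Pi.single_apply, ite_smul]

include hT in
theorem psiM_eq (t : F) (c : D.Idx) : psiM T F c = eval t (T.psi c) :=
  eval_deg_zero _ (hT.deg c) t

theorem lhs_eval (t : F) (r : Fin D.nroots) (c : D.Idx) (hTd : T.OK) :
    eval t (T.lhs r c) = ∑ row, D.xMat F r t row c • psiM T F row := by
  have hp : ∀ c, eval t (T.psi c) = psiM T F c := fun c => (psiM_eq hTd F t c).symm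
  have hH : ∀ i, eval t (T.H i) = psiM T F (Sum.inl i) := fun i => hp (Sum.inl i)
  have hX : ∀ s, eval t (T.X s) = psiM T F (Sum.inr s) := fun s => hp (Sum.inr s)
  rw [Fintype.sum_sum_type]
  rcases c with i | s
  · simp [lhs, ChevalleyDatum.xMat, eval_scale, hH, hX, ite_smul]
  · by_cases h1 : s = r
    · subst h1
      simp [lhs, ChevalleyDatum.xMat, hX, ite_smul]
    by_cases h2 : s.val = D.negIdx.getD r.val 0
    · rw [lhs, if_neg h1, if_pos h2, eval_append, eval_append, eval_flatMap, eval_scale, hX, hX]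
      simp only [ChevalleyDatum.xMat, Matrix.of_apply, if_neg h1, if_pos h2, eval_scale, hH]
      rw [← Fin.sum_univ_def]
      have : ∀ u : Fin D.nroots,
          ((if u = s then (1 : F) else if u = r then -(t ^ 2) else 0) • psiM T F (Sum.inr u)) =
          (if u = s then psiM T F (Sum.inr u) else 0) +
            (if u = r then (-(t ^ 2)) • psiM T F (Sum.inr u) else 0) := fun u => by
        by_cases e1 : u = s
        · subst e1; simp [h1]
        · simp [e1, ite_smul]
      simp only [this, Finset.sum_add_distrib, Finset.sum_ite_eq', Finset.mem_univ, if_true]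
      simp only [pow_one, Int.cast_neg, Int.cast_one, neg_mul, one_mul]
      abel
    · rw [lhs, if_neg h1, if_neg h2, eval_append, eval_flatMap, hX]
      simp only [ChevalleyDatum.xMat, Matrix.of_apply, if_neg h1, if_neg h2, zero_smul,
        Finset.sum_const_zero, zero_add, add_smul, Finset.sum_add_distrib, ite_smul, one_smul,
        Finset.sum_ite_eq', Finset.mem_univ, if_true]
      rw [← Fin.sum_univ_def]
      congr 1
      refine Finset.sum_congr rfl fun u _ => ?_
      rw [eval_flatMap, List.sum_smul, List.map_map]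
      congr 1
      refine List.map_congr_left fun km _ => ?_
      simp [eval_scale, hX]

/-- Compatible pairs. -/
def Compat (x : GL D.Idx F) (g : GL ι F) : Prop :=
  ∀ v, L T F ((x : Matrix D.Idx D.Idx F) *ᵥ v) = (g : Matrix ι ι F) * L T F v * (g⁻¹ : GL ι F).val

theorem compat_one : Compat (T := T) F 1 1 := fun v => by simp

theorem Compat.mul {x x' : GL D.Idx F} {g g' : GL ι F} (h : Compat (T := T) F x g)
    (h' : Compat (T := T) F x' g') : Compat (T := T) F (x * x') (g * g') := fun v => by
  rw [Units.val_mul, ← Matrix.mulVec_mulVec, h, h', _root_.mul_inv_rev, Units.val_mul, Units.val_mul]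
  simp only [mul_assoc]

theorem Compat.inv {x : GL D.Idx F} {g : GL ι F} (h : Compat (T := T) F x g) :
    Compat (T := T) F x⁻¹ g⁻¹ := fun v => by
  have := h ((x⁻¹ : GL D.Idx F).val *ᵥ v)
  rw [Matrix.mulVec_mulVec, Units.mul_inv, Matrix.one_mulVec] at this
  rw [inv_inv, this]
  simp [mul_assoc]

include hT in
theorem compat_y (r : Fin D.nroots) (t : F) (x : GL D.Idx F)
    (hx : (x : Matrix D.Idx D.Idx F) = D.xMat F r t) : Compat (T := T) F x (y hT F r t) := by
  intro v
  have key : ∀ c, (∑ row, D.xMat F r t row c • psiM T F row) =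
      (y hT F r t : Matrix ι ι F) * psiM T F c * ((y hT F r t)⁻¹ : GL ι F).val := fun c => by
    rw [← lhs_eval F t r c hT, eval_eq_of_isZero t (hT.adj r c), conjList, eval_mul, eval_mul,
      eval_subNeg, ← psiM_eq hT F t c, y_val, y_inv]
  rw [hx, L_apply, L_apply, Finset.mul_sum, Finset.sum_mul]
  simp only [Matrix.mulVec, dotProduct, Finset.sum_smul, Matrix.mul_smul, Matrix.smul_mul, ← key,
    Finset.smul_sum, smul_smul]
  rw [Finset.sum_comm]
  exact Finset.sum_congr rfl fun c _ => Finset.sum_congr rfl fun row _ => by rw [mul_comm]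

include hT in
theorem exists_y (g : GL D.Idx F) (hg : g ∈ D.group F) :
    ∃ h ∈ Em hT F, Compat (T := T) F g h := by
  induction hg using Subgroup.closure_induction with
  | one => exact ⟨1, one_mem _, compat_one F⟩
  | mul a b _ _ ha hb =>
    obtain ⟨a', ha', ca⟩ := ha
    obtain ⟨b', hb', cb⟩ := hb
    exact ⟨a' * b', mul_mem ha' hb', ca.mul F cb⟩
  | inv a _ ha =>
    obtain ⟨a', ha', ca⟩ := ha
    exact ⟨a'⁻¹, inv_mem ha', ca.inv F⟩
  | mem x hx =>
    obtain ⟨r, t, h⟩ := hx
    exact ⟨_, Subgroup.subset_closure ⟨r, t, rfl⟩, compat_y hT F r t x h⟩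

include hT in
theorem exists_x (hgen : ∀ r (t : F), ∃ x : GL D.Idx F, (x : Matrix D.Idx D.Idx F) = D.xMat F r t)
    (h : GL ι F) (hh : h ∈ Em hT F) : ∃ g ∈ D.group F, Compat (T := T) F g h := by
  induction hh using Subgroup.closure_induction with
  | one => exact ⟨1, one_mem _, compat_one F⟩
  | mul a b _ _ ha hb =>
    obtain ⟨a', ha', ca⟩ := ha
    obtain ⟨b', hb', cb⟩ := hb
    exact ⟨a' * b', mul_mem ha' hb', ca.mul F cb⟩
  | inv a _ ha =>
    obtain ⟨a', ha', ca⟩ := ha
    exact ⟨a'⁻¹, inv_mem ha', ca.inv F⟩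
  | mem g hg =>
    obtain ⟨r, t, rfl⟩ := hg
    obtain ⟨x, hx⟩ := hgen r t
    exact ⟨x, Subgroup.subset_closure ⟨r, t, hx⟩, compat_y hT F r t x hx⟩

include hT in
/-- Only scalars act trivially. -/
theorem scalar_of_trivial {g : GL ι F} (h : Compat (T := T) F 1 g) :
    ∃ c : F, (g : Matrix ι ι F) = c • 1 := by
  have hc : ∀ r : Fin D.nroots, (g : Matrix ι ι F) * eval (1 : F) (T.X r) =
      eval (1 : F) (T.X r) * (g : Matrix ι ι F) := by
    intro r
    have := h (Pi.single (Sum.inr r) 1)
    rw [Units.val_one, Matrix.one_mulVec, L_single] at this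
    have h2 : psiM T F (Sum.inr r) = eval (1 : F) (T.X r) := rfl
    rw [h2] at this
    conv_rhs => rw [this]
    simp [mul_assoc]
  -- the linear form of an entry
  have hφ : ∀ r p q, ((T.form r p q).map fun e =>
      (e.2.2.2 : F) * (1 : F) ^ e.1 * (g : Matrix ι ι F) e.2.1 e.2.2.1).sum = 0 := by
    intro r p q
    have h1 : ∀ M : List (Ent ι), ((g : Matrix ι ι F) * eval (1 : F) M) p q =
        ((M.filter fun e => e.2.2.1 == q).map fun e =>
          (e.2.2.2 : F) * (g : Matrix ι ι F) p e.2.1).sum := by
      intro M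
      induction M with
      | nil => simp
      | cons e M ih =>
        rw [eval_cons, mul_add, Matrix.add_apply, ih, List.filter_cons]
        by_cases hq : e.2.2.1 = q
        · subst hq; simp [mul_comm]
        · simp [hq, Matrix.mul_single_apply_of_ne _ _ _ _ _ (Ne.symm hq)]
    have h2 : ∀ M : List (Ent ι), (eval (1 : F) M * (g : Matrix ι ι F)) p q =
        ((M.filter fun e => e.2.1 == p).map fun e =>
          (e.2.2.2 : F) * (g : Matrix ι ι F) e.2.2.1 q).sum := by
      intro M
      induction M with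
      | nil => simp
      | cons e M ih =>
        rw [eval_cons, add_mul, Matrix.add_apply, ih, List.filter_cons]
        by_cases hq : e.2.1 = p
        · subst hq; simp
        · simp [hq, Matrix.single_mul_apply_of_ne _ _ _ _ _ (Ne.symm hq)]
    rw [form, List.map_append, List.sum_append, List.map_map, List.map_map]
    have := congrFun (congrFun (hc r) p) q
    rw [h1, h2] at this
    simp only [Function.comp_def, Int.cast_neg, one_pow, mul_one, pow_zero]
    rw [this]
    simp [← List.sum_map_add, neg_mul]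
  have hrhs : ∀ i j, (i = j → i ≠ T.base) → (((T.centRhs i j).map fun e =>
      (e.2.2.2 : F) * (1 : F) ^ e.1 * (g : Matrix ι ι F) e.2.1 e.2.2.1).sum) = 0 := by
    intro i j hij
    have hz := eval_of_isZero (1 : F) (hT.centOK i j hij)
    have := eval_apply_sum (1 : F) (T.form (T.cent i j).1 (T.cent i j).2.1 (T.cent i j).2.2.1 ++
      scale (sgn (T.cent i j).2.2.2) 0 (T.centRhs i j)) (g : Matrix ι ι F)
    rw [hz, List.map_append, List.sum_append, hφ, zero_add] at this
    simp only [Matrix.zero_apply, zero_mul, Finset.sum_const_zero, scale, List.map_map,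
      Function.comp_def] at this
    have e : ∀ b, ((sgn b : ℤ) : F) * ((sgn b : ℤ) : F) = 1 := fun b => by
      cases b <;> simp [sgn]
    have h3 := congrArg (fun z => ((sgn (T.cent i j).2.2.2 : ℤ) : F) * z) this.symm
    simp only [mul_zero, ← List.sum_map_mul_left, one_pow, mul_one, Int.cast_mul,
      ← mul_assoc, e, one_mul] at h3
    simpa using h3
  refine ⟨(g : Matrix ι ι F) T.base T.base, Matrix.ext fun i j => ?_⟩
  rcases eq_or_ne i j with rfl | hij
  · have step : ∀ k, k ≠ T.base →
        (g : Matrix ι ι F) k k = (g : Matrix ι ι F) (T.ref k) (T.ref k) := fun k hk => by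
      have := hrhs k k (fun _ => hk)
      simp [centRhs] at this
      linear_combination -this
    suffices h : (g : Matrix ι ι F) i i = (g : Matrix ι ι F) T.base T.base by simp [h]
    by_cases hb : i = T.base
    · rw [hb]
    rw [step i hb]
    by_cases hb' : T.ref i = T.base
    · rw [hb']
    rw [step _ hb', hT.refOK]
  · have := hrhs i j (fun e => absurd e hij)
    simp [centRhs, hij] at this
    simp [hij, this]

end Tab

end CfsgLib.ChevClassical
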