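/-
Tables of the vector model of type B2.
-/
import Cfsg.Agent.Lib.ChevClassical.Model
import Cfsg.Prelude.Def_ChevB2

set_option autoImplicit false
set_option maxRecDepth 20000

namespace CfsgLib.ChevClassical.B2

open Cfsg.Lie

abbrev I : Type := (Unit ⊕ (Fin 2 ⊕ Fin 2))

def code : I → Fin 5
  | Sum.inl _ => 0
  | Sum.inr (Sum.inl i) => ⟨1 + i.val, by omega⟩
  | Sum.inr (Sum.inr i) => ⟨3 + i.val, by omega⟩

def elts : List I := [(.inl ()), (.inr (.inl 0)), (.inr (.inl 1)), (.inr (.inr 0)), (.inr (.inr 1))]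

def Atab (r : Fin chevB2.nroots) : List (Ent I) :=
  match r.val with
  | 0 => [(1, (.inr (.inr 0)), (.inr (.inl 1)), -1), (1, (.inr (.inr 1)), (.inr (.inl 0)), 1)]
  | 1 => [(1, (.inl ()), (.inr (.inl 0)), 1), (1, (.inr (.inr 0)), (.inl ()), -2), (2, (.inr (.inr 0)), (.inr (.inl 0)), -1)]
  | 2 => [(1, (.inl ()), (.inr (.inl 1)), 1), (1, (.inr (.inr 1)), (.inl ()), -2), (2, (.inr (.inr 1)), (.inr (.inl 1)), -1)]
  | 3 => [(1, (.inr (.inl 1)), (.inr (.inl 0)), 1), (1, (.inr (.inr 0)), (.inr (.inr 1)), -1)]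
  | 4 => [(1, (.inr (.inl 0)), (.inr (.inl 1)), 1), (1, (.inr (.inr 1)), (.inr (.inr 0)), -1)]
  | 5 => [(1, (.inl ()), (.inr (.inr 1)), -1), (1, (.inr (.inl 1)), (.inl ()), 2), (2, (.inr (.inl 1)), (.inr (.inr 1)), -1)]
  | 6 => [(1, (.inl ()), (.inr (.inr 0)), -1), (1, (.inr (.inl 0)), (.inl ()), 2), (2, (.inr (.inl 0)), (.inr (.inr 0)), -1)]
  | 7 => [(1, (.inr (.inl 0)), (.inr (.inr 1)), 1), (1, (.inr (.inl 1)), (.inr (.inr 0)), -1)]
  | _ => []

def Htab (i : Fin chevB2.rank) : List (Ent I) :=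
  match i.val with
  | 0 => [(0, (.inr (.inl 1)), (.inr (.inl 1)), 2), (0, (.inr (.inr 1)), (.inr (.inr 1)), -2)]
  | 1 => [(0, (.inr (.inl 0)), (.inr (.inl 0)), 1), (0, (.inr (.inl 1)), (.inr (.inl 1)), -1), (0, (.inr (.inr 0)), (.inr (.inr 0)), -1), (0, (.inr (.inr 1)), (.inr (.inr 1)), 1)]
  | _ => []

def Utab : List (Ent I) := [(0, (.inl ()), (.inl ()), 1), (0, (.inr (.inl 0)), (.inr (.inr 0)), 1), (0, (.inr (.inl 1)), (.inr (.inr 1)), 1)]

def roots : List (Fin chevB2.nroots × Bool) := [(⟨0, by decide⟩, true),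
  (⟨0, by decide⟩, true),
  (⟨0, by decide⟩, true),
  (⟨0, by decide⟩, true),
  (⟨0, by decide⟩, true),
  (⟨6, by decide⟩, false),
  (⟨0, by decide⟩, true),
  (⟨7, by decide⟩, false),
  (⟨0, by decide⟩, true),
  (⟨4, by decide⟩, false),
  (⟨5, by decide⟩, false),
  (⟨7, by decide⟩, true),
  (⟨0, by decide⟩, true),
  (⟨3, by decide⟩, false),
  (⟨0, by decide⟩, true),
  (⟨1, by decide⟩, true),
  (⟨0, by decide⟩, true),
  (⟨3, by decide⟩, true),
  (⟨0, by decide⟩, true),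
  (⟨0, by decide⟩, true),
  (⟨2, by decide⟩, true),
  (⟨4, by decide⟩, true),
  (⟨0, by decide⟩, true),
  (⟨0, by decide⟩, false),
  (⟨0, by decide⟩, true)]

def cents : List (Fin chevB2.nroots × I × I × Bool) := [(⟨1, by decide⟩, (.inl ()), (.inr (.inl 0)), true),
  (⟨4, by decide⟩, (.inl ()), (.inr (.inl 1)), true),
  (⟨3, by decide⟩, (.inl ()), (.inr (.inl 0)), true),
  (⟨0, by decide⟩, (.inl ()), (.inr (.inl 1)), false),
  (⟨0, by decide⟩, (.inl ()), (.inr (.inl 0)), true),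
  (⟨0, by decide⟩, (.inr (.inr 1)), (.inl ()), false),
  (⟨0, by decide⟩, (.inl ()), (.inl ()), true),
  (⟨1, by decide⟩, (.inl ()), (.inr (.inl 1)), false),
  (⟨0, by decide⟩, (.inr (.inl 0)), (.inr (.inl 1)), false),
  (⟨0, by decide⟩, (.inr (.inl 0)), (.inr (.inl 0)), true),
  (⟨0, by decide⟩, (.inr (.inr 0)), (.inl ()), true),
  (⟨2, by decide⟩, (.inl ()), (.inr (.inl 0)), false),
  (⟨3, by decide⟩, (.inr (.inl 1)), (.inr (.inl 0)), true),
  (⟨0, by decide⟩, (.inr (.inl 1)), (.inr (.inl 1)), false),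
  (⟨0, by decide⟩, (.inr (.inl 1)), (.inr (.inl 0)), true),
  (⟨2, by decide⟩, (.inr (.inr 0)), (.inr (.inl 1)), true),
  (⟨4, by decide⟩, (.inr (.inr 0)), (.inr (.inl 1)), true),
  (⟨6, by decide⟩, (.inl ()), (.inr (.inl 1)), true),
  (⟨6, by decide⟩, (.inl ()), (.inr (.inr 0)), true),
  (⟨4, by decide⟩, (.inr (.inr 0)), (.inr (.inr 0)), false),
  (⟨1, by decide⟩, (.inr (.inr 1)), (.inr (.inl 0)), true),
  (⟨5, by decide⟩, (.inl ()), (.inr (.inl 0)), true),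
  (⟨3, by decide⟩, (.inr (.inr 0)), (.inr (.inl 1)), true),
  (⟨3, by decide⟩, (.inr (.inr 0)), (.inr (.inr 0)), true),
  (⟨0, by decide⟩, (.inr (.inr 1)), (.inr (.inl 0)), true)]

def tab : Tab chevB2 I 2 where
  idx := elts
  A := Atab
  H := Htab
  U := Utab
  pe i := Sum.inr (Sum.inl i)
  pf i := Sum.inr (Sum.inr i)
  root p q := roots.getD ((code p).val * 5 + (code q).val) (⟨0, by decide⟩, true)
  cent i j := cents.getD ((code i).val * 5 + (code j).val) (⟨0, by decide⟩, (.inl ()), (.inl ()), true)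
  base := (.inr (.inl 0))
  moved := ((.inr (.inr 0)), (.inr (.inl 1)))
  ref i := ([(.inr (.inl 0)), (.inr (.inl 0)), (.inr (.inl 0)), (.inl ()), (.inr (.inl 0))] : List I).getD (code i).val ((.inr (.inl 0)))

def weights : List (List ℤ) := [[0, -1, 0, 1, 0], [0, -1, -1, 1, 1], [0, -1, -1, 1, 1], [0, -1, 0, 1, 0], [0, 0, -1, 0, 1], [0, -1, 1, 1, -1], [0, 1, -1, -1, 1], [0, 0, 1, 0, -1]]

end CfsgLib.ChevClassical.B2
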