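/-
The isomorphism of a simple Chevalley group with `PΩ` of its vector model.
-/
import Cfsg.Agent.Lib.ChevClassical.Model

set_option autoImplicit false
set_option linter.unusedSectionVars false
set_option maxHeartbeats 800000

namespace CfsgLib.ChevClassical

open Cfsg Cfsg.Lie Matrix
open CfsgLib.WittExtension (quadIso)
open QuadraticMap (polar polarBilin)

variable {D : ChevalleyDatum} {ι : Type} [Fintype ι] [DecidableEq ι] {m : ℕ}
variable {T : Tab D ι m} (hT : T.OK) {F : Type*} [Field F]

namespace Tab

variable {R : QuadraticForm F (ι → F)}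

/-- The form of the tables. -/
def IsForm (T : Tab D ι m) (R : QuadraticForm F (ι → F)) : Prop :=
  ∀ v, R v = v ⬝ᵥ (eval (1 : F) T.U *ᵥ v)

variable (hR : IsForm T R)

include hR in
theorem polar_eq (x v : ι → F) : polar R x v = x ⬝ᵥ (eval (1 : F) T.P *ᵥ v) := by
  rw [polar, hR, hR, hR, Tab.P, eval_append, eval_tr]
  simp only [Matrix.mulVec_add, Matrix.add_mulVec, dotProduct_add, add_dotProduct]
  rw [Matrix.mulVec_transpose, dotProduct_comm x (vecMul _ _), ← Matrix.dotProduct_mulVec]
  ring

include hR in
theorem polar_single (p : ι) (v : ι → F) :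
    polar R (Pi.single p 1) v = (eval (1 : F) T.P *ᵥ v) p := by
  rw [polar_eq hR]; simp

include hR in
theorem form_single (hdeg : ∀ e ∈ T.U, e.1 = 0) (q : ι) : R (Pi.single q 1) =
    ((T.U.filter fun d => d.2.1 == q && d.2.2.1 == q).map fun d => (d.2.2.2 : F)).sum := by
  rw [hR]
  simp only [single_one_dotProduct, Matrix.mulVec_single_one, Matrix.col_apply]
  clear hR hdeg
  induction T.U with
  | nil => simp
  | cons e L ih =>
    rw [eval_cons, Matrix.add_apply, ih, List.filter_cons]
    by_cases h : e.2.1 = q ∧ e.2.2.1 = q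
    · simp [h.1, h.2]
    · rcases not_and_or.1 h with h | h
      · simp [h, Matrix.single_apply_of_row_ne h]
      · simp [h, Matrix.single_apply_of_col_ne _ _ h]

theorem eval_row (t : F) (k : ℕ) (c : ℤ) (p q : ι) (M : List (Ent ι)) (hM : ∀ e ∈ M, e.1 = 0)
    (v : ι → F) :
    eval t ((M.filter fun e => e.2.1 == p).map fun e => (k, q, e.2.2.1, c * e.2.2.2)) *ᵥ v =
      ((c : F) * t ^ k * (eval (1 : F) M *ᵥ v) p) • Pi.single q 1 := by
  induction M with
  | nil => simp
  | cons e M ih =>
    have ih' := ih fun a ha => hM a (by simp [ha])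
    rw [List.filter_cons]
    by_cases h : e.2.1 = p
    · subst h
      simp only [beq_self_eq_true, if_true, List.map_cons, eval_cons, Matrix.add_mulVec, ih',
        Pi.add_apply, mul_add, add_smul]
      congr 1
      ext z
      rcases eq_or_ne z q with rfl | hz
      · simp [Matrix.mulVec, dotProduct, Matrix.single_apply, hM e (by simp)]
        ring
      · simp [Matrix.mulVec, dotProduct, Matrix.single_apply, Ne.symm hz, Pi.single_apply, hz]
    · have h' : (e.2.1 == p) = false := by simpa using h
      simp only [h', Bool.false_eq_true, if_false, ih', eval_cons, Matrix.add_mulVec, Pi.add_apply]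
      congr 2
      rw [show (Matrix.single e.2.1 e.2.2.1 ((e.2.2.2 : F) * 1 ^ e.1) *ᵥ v) p = 0 by
        simp [Matrix.mulVec, dotProduct, Matrix.single_apply, h], zero_add]

include hR in
theorem eich_mulVec (hdegU : ∀ e ∈ T.U, e.1 = 0) (p q : ι) (c : F) (v : ι → F) :
    eval c (T.eich p q) *ᵥ v = polar R (Pi.single p 1) v • (c • Pi.single q 1) +
      (-(polar R (c • Pi.single q 1) v) -
        R (c • Pi.single q 1) * polar R (Pi.single p 1) v) • (Pi.single p 1 : ι → F) := by
  have hP : ∀ e ∈ T.P, e.1 = 0 := by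
    intro e he
    simp only [Tab.P, List.mem_append, tr, List.mem_map] at he
    rcases he with he | ⟨a, ha, rfl⟩
    · exact hdegU e he
    · exact hdegU a ha
  rw [Tab.eich, eval_append, eval_append, Matrix.add_mulVec, Matrix.add_mulVec]
  have h1 := eval_row c 1 1 p q T.P hP v
  have h2 := eval_row c 1 (-1) q p T.P hP v
  simp only [one_mul, neg_mul] at h1 h2
  rw [h1, h2]
  have h3 : eval c ((T.P.filter fun e => e.2.1 == p).flatMap fun e =>
      (T.U.filter fun d => d.2.1 == q && d.2.2.1 == q).map fun d =>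
        (2, p, e.2.2.1, -(d.2.2.2 * e.2.2.2))) *ᵥ v =
      (-(R (Pi.single q 1)) * c ^ 2 * (eval (1 : F) T.P *ᵥ v) p) • (Pi.single p 1 : ι → F) := by
    rw [form_single hR hdegU]
    induction (T.U.filter fun d => d.2.1 == q && d.2.2.1 == q) with
    | nil =>
      simp [List.flatMap_eq_nil_iff.2]
    | cons d L ih =>
      have hperm : eval c ((T.P.filter fun e => e.2.1 == p).flatMap fun e =>
          (d :: L).map fun d => (2, p, e.2.2.1, -(d.2.2.2 * e.2.2.2))) =
          eval c ((T.P.filter fun e => e.2.1 == p).map fun e =>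
            (2, p, e.2.2.1, (-d.2.2.2) * e.2.2.2)) +
          eval c ((T.P.filter fun e => e.2.1 == p).flatMap fun e =>
            L.map fun d => (2, p, e.2.2.1, -(d.2.2.2 * e.2.2.2))) := by
        induction (T.P.filter fun e => e.2.1 == p) with
        | nil => simp
        | cons e M ih' =>
          simp only [List.flatMap_cons, List.map_cons, eval_append, eval_cons] at ih' ⊢
          rw [ih', neg_mul]
          abel
      rw [hperm, Matrix.add_mulVec, ih, eval_row c 2 (-d.2.2.2) p p T.P hP v, ← add_smul]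
      congr 1
      simp only [List.map_cons, List.sum_cons, Int.cast_neg]
      ring
  rw [h3, ← polar_single hR, ← polar_single hR, QuadraticMap.polar_smul_left,
    QuadraticMap.map_smul]
  simp only [smul_eq_mul, Int.cast_one, Int.cast_neg, pow_one]
  module

variable (R) in
/-- The isometries as matrices. -/
noncomputable def toM : quadIso R →* GL ι F :=
  (isometryGroup F ⇑R).subtype.comp (SpinorMatrix.isoEquiv R).symm.toMonoidHom

theorem toM_mulVec (g : quadIso R) (v : ι → F) : (toM R g : Matrix ι ι F) *ᵥ v = g.1 v :=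
  SpinorMatrix.isoEquiv_symm_apply R g v

include hT hR in
/-- An Eichler transformation at basis vectors is a root element. -/
theorem eich_mem_em {p q : ι} (hz : isZero (T.eich p q ++ scale (-1) 0 (if (T.root p q).2
      then T.A (T.root p q).1 else subNeg (T.A (T.root p q).1))) = true)
    {c : F} {g : quadIso R} (hg : Eichler.IsEich R (Pi.single p 1) (c • Pi.single q 1) g) :
    toM R g ∈ Em hT F := by
  obtain ⟨s, hs⟩ : ∃ s : F, eval c (T.eich p q) = eval s (T.A (T.root p q).1) := by
    have := eval_eq_of_isZero c hz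
    cases hb : (T.root p q).2 <;> simp [hb] at this
    · exact ⟨-c, by rw [this, eval_subNeg]⟩
    · exact ⟨c, this⟩
  refine Subgroup.subset_closure ⟨(T.root p q).1, s, Units.ext (Matrix.toLin'.injective
    (LinearMap.ext fun v => ?_))⟩
  rw [Matrix.toLin'_apply, Matrix.toLin'_apply, toM_mulVec, y_val, Tab.Y, eval_append, eval_one hT,
    Matrix.add_mulVec, Matrix.one_mulVec, ← hs, eich_mulVec hR hT.degU, hg v]

variable (Φ : SplitOrth.Frame R m) (he : ∀ i, Φ.e i = Pi.single (T.pe i) 1)
  (hf : ∀ i, Φ.f i = Pi.single (T.pf i) 1)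
  (hpe : ∀ i k, k ≠ T.pf i → polar R (Φ.e i) (Pi.single k 1) = 0)
  (hpf : ∀ i k, k ≠ T.pe i → polar R (Φ.f i) (Pi.single k 1) = 0)

include hT hR he hf hpe hpf in
/-- The generators lie in the model group. -/
theorem E_le : SplitOrth.E Φ ≤ (Em hT F).comap (toM R) := by
  -- one side
  have side : ∀ (p opp : ι), R (Pi.single p 1) = 0 →
      (∀ k, k ≠ opp → polar R (Pi.single p 1) (Pi.single k 1) = 0) →
      polar R (Pi.single p 1) (Pi.single opp 1) = 1 →
      (∀ k, k ≠ opp → k ≠ p → isZero (T.eich p k ++ scale (-1) 0 (if (T.root p k).2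
        then T.A (T.root p k).1 else subNeg (T.A (T.root p k).1))) = true) →
      ∀ u g, polar R (Pi.single p 1) u = 0 → Eichler.IsEich R (Pi.single p 1) u g →
        toM R g ∈ Em hT F := by
    intro p opp hp hperp hopp hcert
    have hterm : ∀ (k : ι) (c : F), (k = opp → c = 0) → ∀ g,
        Eichler.IsEich R (Pi.single p 1) (c • Pi.single k 1) g → toM R g ∈ Em hT F := by
      intro k c hc g hg
      by_cases hk : k = opp
      · rw [hc hk, zero_smul] at hg
        rw [Eichler.eich_unique R hg (Eichler.eich_zero R _), map_one]; exact one_mem _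
      by_cases hkp : k = p
      · subst hkp
        have h0 : polar R (Pi.single k 1) (0 : ι → F) = 0 := QuadraticMap.polar_zero_right ..
        have h1 := Eichler.eich_shift R hp h0 c (Eichler.eich_zero R (Pi.single k 1))
        rw [zero_add] at h1
        rw [Eichler.eich_unique R hg h1, map_one]; exact one_mem _
      · exact eich_mem_em hT hR (hcert k hk hkp) hg
    have hsum : ∀ (S : Finset ι) (u : ι → F), u opp = 0 → ∀ g,
        Eichler.IsEich R (Pi.single p 1) (∑ k ∈ S, u k • Pi.single k 1) g →
        toM R g ∈ Em hT F := by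
      intro S
      induction S using Finset.induction_on with
      | empty =>
        intro u _ g hg
        rw [Finset.sum_empty] at hg
        rw [Eichler.eich_unique R hg (Eichler.eich_zero R _), map_one]; exact one_mem _
      | @insert k S hk ih =>
        intro u hu g hg
        rw [Finset.sum_insert hk] at hg
        have h1 : ∀ l, polar R (Pi.single p 1) (u l • Pi.single l 1) = 0 := fun l => by
          rw [QuadraticMap.polar_smul_right]
          by_cases hl : l = opp
          · rw [hl, hu, zero_smul]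
          · rw [hperp l hl, smul_zero]
        have h2 : polar R (Pi.single p 1) (∑ l ∈ S, u l • Pi.single l 1) = 0 := by
          rw [← QuadraticMap.polarBilin_apply_apply, map_sum]
          exact Finset.sum_eq_zero fun l _ => h1 l
        obtain ⟨g₁, hg₁⟩ := Eichler.exists_eich R hp (h1 k)
        obtain ⟨g₂, hg₂⟩ := Eichler.exists_eich R hp h2
        rw [Eichler.eich_unique R hg (Eichler.eich_add R hp (h1 k) h2 hg₁ hg₂), map_mul]
        exact mul_mem (hterm k (u k) (fun e => e ▸ hu) g₁ hg₁) (ih u hu g₂ hg₂)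
    intro u g hu hg
    have hudecomp : u = ∑ k, u k • Pi.single k 1 := pi_eq_sum_univ' u
    have hu0 : u opp = 0 := by
      rw [hudecomp, ← QuadraticMap.polarBilin_apply_apply, map_sum,
        Finset.sum_eq_single opp (fun l _ hl => by
          rw [map_smul, QuadraticMap.polarBilin_apply_apply, hperp l hl, smul_zero])
          (fun h => absurd (Finset.mem_univ opp) h), map_smul,
        QuadraticMap.polarBilin_apply_apply, hopp, smul_eq_mul, mul_one] at hu
      exact hu
    rw [hudecomp] at hg
    exact hsum _ u hu0 g hg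
  refine (Subgroup.closure_le _).2 ?_
  rintro g ⟨i, u, ⟨h1, h2⟩ | ⟨h1, h2⟩⟩
  · rw [he] at h1 h2
    refine side (T.pe i) (T.pf i) (he i ▸ Φ.qe i) (fun k hk => he i ▸ hpe i k hk) ?_
      (fun k hk hk' => hT.eichE i k hk hk') u g h1 h2
    rw [← he, ← hf, Φ.pef, if_pos rfl]
  · rw [hf] at h1 h2
    refine side (T.pf i) (T.pe i) (hf i ▸ Φ.qf i) (fun k hk => hf i ▸ hpf i k hk) ?_
      (fun k hk hk' => hT.eichF i k hk hk') u g h1 h2
    rw [← he, ← hf, QuadraticMap.polar_comm, Φ.pef, if_pos rfl]

include hT hR he hf hpe hpf in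
/-- `Ω` is the model group. -/
theorem omega_eq (hm : ∀ i : Fin m, ∃ j, j ≠ i) (i₀ : Fin m)
    (hcomm : ∀ r t, y hT F r t ∈ (Omega F ⇑R).map (isometryGroup F ⇑R).subtype) :
    (Omega F ⇑R).map (isometryGroup F ⇑R).subtype = Em hT F := by
  refine le_antisymm ?_ ((Subgroup.closure_le _).2 fun g ⟨r, t, h⟩ => h ▸ hcomm r t)
  rintro _ ⟨g, hg, rfl⟩
  have h1 : SpinorMatrix.isoEquiv R g ∈ commutator (quadIso R) := by
    have : Subgroup.map (SpinorMatrix.isoEquiv R).toMonoidHom (commutator (isometryGroup F ⇑R)) ≤
        commutator (quadIso R) := by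
      rw [commutator_def, commutator_def, Subgroup.map_commutator]
      exact Subgroup.commutator_mono le_top le_top
    exact this ⟨g, hg, rfl⟩
  have h2 := E_le hT hR Φ he hf hpe hpf (SplitOrth.commutator_le hm i₀ h1)
  simpa [toM] using h2

include hT in
/-- The isomorphism. -/
theorem nonempty_equiv (hsimple : IsSimpleGroup ↥(D.group F) ∧ ¬ IsMulCommutative ↥(D.group F))
    (hgen : ∀ r (t : F), ∃ x : GL D.Idx F, (x : Matrix D.Idx D.Idx F) = D.xMat F r t)
    (hΩ : (Omega F ⇑R).map (isometryGroup F ⇑R).subtype = Em hT F) :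
    Nonempty (↥(D.group F) ≃* POmega F ⇑R) := by
  classical
  haveI := hsimple.1
  -- trivial elements
  let K0 : Subgroup ↥(D.group F) :=
    { carrier := {x | Compat (T := T) F (x : GL D.Idx F) 1}
      mul_mem' := fun {a b} ha hb => by simpa using ha.mul F hb
      one_mem' := compat_one F
      inv_mem' := fun {a} ha => by simpa using ha.inv F }
  have hK0 : ∀ x : ↥(D.group F), x ∈ K0 → x = 1 := by
    haveI : K0.Normal := ⟨fun x hx g => by
      obtain ⟨h, -, hc⟩ := exists_y hT F g.1 g.2
      have := (hc.mul F hx).mul F (hc.inv F)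
      show Compat (T := T) F _ 1
      simpa using this⟩
    rcases Subgroup.Normal.eq_bot_or_eq_top (H := K0) inferInstance with h | h
    · intro x hx; rw [h] at hx; exact hx
    · exfalso
      obtain ⟨r, hr⟩ := hT.movedOK
      obtain ⟨x, hx⟩ := hgen r 1
      have hxm : x ∈ D.group F := Subgroup.subset_closure ⟨r, 1, hx⟩
      have h1 : Compat (T := T) F x 1 := (h ▸ Subgroup.mem_top (⟨x, hxm⟩ : ↥(D.group F)) :
        (⟨x, hxm⟩ : ↥(D.group F)) ∈ K0)
      have h2 := (h1.inv F).mul F (compat_y hT F r 1 x hx)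
      simp only [inv_one, one_mul, inv_mul_cancel] at h2
      obtain ⟨c, hc⟩ := scalar_of_trivial hT F h2
      have h3 := congrFun (congrFun hc T.moved.1) T.moved.2
      rw [y_val, Tab.Y, eval_append, eval_one hT] at h3
      simp [hT.movedNe] at h3
      have h4 : ∀ L : List (Ent ι), eval (1 : F) L T.moved.1 T.moved.2 =
          (((L.filter fun e => e.2.1 == T.moved.1 && e.2.2.1 == T.moved.2).map
            (fun e => e.2.2.2)).sum : ℤ) := by
        intro L
        induction L with
        | nil => simp
        | cons e L ih =>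
          rw [eval_cons, Matrix.add_apply, ih, List.filter_cons]
          by_cases h : e.2.1 = T.moved.1 ∧ e.2.2.1 = T.moved.2
          · simp [h.1, h.2]
          · rcases not_and_or.1 h with h | h
            · simp [h, Matrix.single_apply_of_row_ne h]
            · simp [h, Matrix.single_apply_of_col_ne _ _ h]
      rw [h4] at h3
      simp only [List.mem_cons, List.not_mem_nil, or_false] at hr
      rcases hr with hr | hr <;> rw [hr] at h3 <;> simp at h3
  have huniq : ∀ (a b : ↥(D.group F)) (h : GL ι F), Compat (T := T) F (a : GL D.Idx F) h →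
      Compat (T := T) F (b : GL D.Idx F) h → a = b := by
    intro a b h ha hb
    have := hK0 (a⁻¹ * b) (by
      show Compat (T := T) F _ 1
      simpa using (ha.inv F).mul F hb)
    rwa [inv_mul_eq_one] at this
  have hmem : ∀ g : Omega F ⇑R, g.1.1 ∈ Em hT F := fun g => hΩ ▸ ⟨g.1, g.2, rfl⟩
  have hex : ∀ g : Omega F ⇑R, ∃ x : ↥(D.group F), Compat (T := T) F (x : GL D.Idx F) g.1.1 :=
    fun g => by
      obtain ⟨x, hx, hc⟩ := exists_x hT F hgen g.1.1 (hmem g)
      exact ⟨⟨x, hx⟩, hc⟩
  choose θ hθ using hex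
  let θhom : Omega F ⇑R →* ↥(D.group F) := MonoidHom.mk' θ fun a b =>
    huniq _ _ _ (hθ (a * b)) (by simpa using (hθ a).mul F (hθ b))
  have hsurj : Function.Surjective θhom := fun x => by
    obtain ⟨h, hh, hc⟩ := exists_y hT F x.1 x.2
    rw [← hΩ] at hh
    obtain ⟨g, hg, rfl⟩ := hh
    exact ⟨⟨g, hg⟩, huniq _ _ _ (hθ ⟨g, hg⟩) hc⟩
  have hker : θhom.ker = Subgroup.center (Omega F ⇑R) := by
    refine le_antisymm (fun g hg => Subgroup.mem_center_iff.2 fun h => ?_) fun g hg => ?_
    · have hg' : θ g = 1 := hg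
      have h1 := hθ g
      rw [hg'] at h1
      obtain ⟨c, hc⟩ := scalar_of_trivial hT F h1
      refine Subtype.ext (Subtype.ext (Units.ext ?_))
      show (h.1.1 : Matrix ι ι F) * g.1.1 = g.1.1 * h.1.1
      rw [hc]; simp
    · have h1 : θhom g ∈ Subgroup.center ↥(D.group F) := Subgroup.mem_center_iff.2 fun x => by
        obtain ⟨h, rfl⟩ := hsurj x
        rw [← map_mul, ← map_mul, Subgroup.mem_center_iff.1 hg h]
      rcases Subgroup.Normal.eq_bot_or_eq_top (H := Subgroup.center ↥(D.group F)) inferInstance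
        with h | h
      · rw [h] at h1; exact h1
      · exact absurd ⟨⟨fun a b => Subgroup.mem_center_iff.1 (h ▸ Subgroup.mem_top b) a⟩⟩ hsimple.2
  exact ⟨((QuotientGroup.quotientMulEquivOfEq hker.symm).trans
    (QuotientGroup.quotientKerEquivOfSurjective θhom hsurj)).symm⟩

end Tab

end CfsgLib.ChevClassical
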