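/-
Common facts for the two vector models.
-/
import Cfsg.Agent.Lib.ChevClassical.Iso

set_option autoImplicit false
set_option linter.unusedSectionVars false

namespace CfsgLib.ChevClassical

open Cfsg Cfsg.Lie Matrix
open scoped commutatorElement
open QuadraticMap (polar)

variable {D : ChevalleyDatum} {ι : Type} [Fintype ι] [DecidableEq ι] {m : ℕ}
variable {F : Type*} [Field F]

/-- The form of the tables as a quadratic form. -/
noncomputable def qform (T : Tab D ι m) : QuadraticForm F (ι → F) :=
  LinearMap.BilinMap.toQuadraticMap (Matrix.toLinearMap₂' F (eval (1 : F) T.U))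

theorem qform_isForm (T : Tab D ι m) : T.IsForm (qform (F := F) T) := fun v => by
  rw [qform, LinearMap.BilinMap.toQuadraticMap_apply, Matrix.toLinearMap₂'_apply']

theorem eval_degZero (L : List (Ent ι)) (t : F) :
    eval t (L.map fun e => (0, e.2.1, e.2.2.1, e.2.2.2)) = eval (1 : F) L := by
  induction L with
  | nil => simp
  | cons e L ih => simp [eval_cons, ih]

namespace Tab

variable {T : Tab D ι m} (hT : T.OK)

include hT in
/-- The root elements are isometries. -/
theorem y_mem_iso (r : Fin D.nroots) (t : F) :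
    y hT F r t ∈ isometryGroup F ⇑(qform (F := F) T) := by
  show ∀ u v : ι → F, qform (F := F) T ((y hT F r t : Matrix ι ι F) *ᵥ u) = qform (F := F) T u
  intro u _
  rw [qform_isForm T, qform_isForm T, y_val]
  set M := eval t (T.isoList r) with hM
  have hd : ∀ i, M i i = 0 := fun i => by
    rw [hM, ← eval_diag, eval_of_isZero t (hT.isoDiag r)]; rfl
  have hs : ∀ i j, M i j + M j i = 0 := fun i j => by
    have := eval_of_isZero t (hT.isoSymm r)
    rw [eval_append, eval_tr] at this
    exact congrFun (congrFun this i) j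
  have hz : u ⬝ᵥ (M *ᵥ u) = 0 := by
    simp only [dotProduct, Matrix.mulVec, Finset.mul_sum]
    rw [← Finset.sum_product']
    refine Finset.sum_involution (fun a _ => (a.2, a.1)) (fun a _ => ?_) (fun a _ ha e => ?_)
      (fun a _ => Finset.mem_product.2 ⟨Finset.mem_univ _, Finset.mem_univ _⟩) (fun a _ => rfl)
    · linear_combination (u a.1 * u a.2) * hs a.1 a.2
    · have : a.2 = a.1 := (Prod.ext_iff.1 e).1
      rw [this, hd] at ha; simp at ha
  rw [hM, Tab.isoList, eval_append, eval_scale, eval_mul, eval_mul, eval_tr,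
    eval_deg_zero t hT.degU (1 : F)] at hz
  simp only [Int.cast_neg, Int.cast_one, pow_zero, mul_one, Matrix.add_mulVec, dotProduct_add,
    neg_smul, one_smul, Matrix.neg_mulVec, dotProduct_neg] at hz
  rw [← sub_eq_add_neg, sub_eq_zero, ← Matrix.mulVec_mulVec, ← Matrix.mulVec_mulVec,
    Matrix.dotProduct_mulVec, Matrix.vecMul_transpose] at hz
  exact hz

include hT in
/-- A commutator of isometries lies in `Ω`. -/
theorem commutator_mem {a b : GL ι F} (ha : a ∈ isometryGroup F ⇑(qform (F := F) T))
    (hb : b ∈ isometryGroup F ⇑(qform (F := F) T)) {c : GL ι F} (hc : ⁅a, b⁆ = c) :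
    c ∈ (Omega F ⇑(qform (F := F) T)).map (isometryGroup F ⇑(qform (F := F) T)).subtype :=
  ⟨⁅⟨a, ha⟩, ⟨b, hb⟩⁆, Subgroup.commutator_mem_commutator (Subgroup.mem_top _) (Subgroup.mem_top _),
    by rw [map_commutatorElement]; exact hc⟩

end Tab

end CfsgLib.ChevClassical
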