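/-
The Chevalley group of type `B₂` is `PΩ₅`, over fields with more than two elements.
-/
import Cfsg.Agent.Lib.ChevClassical.Forms
import Cfsg.Agent.Lib.ChevClassical.DataB2
import Cfsg.Agent.Lib.Chev.PerfectData
import Cfsg.Agent.Lib.Chev.Mat

set_option autoImplicit false
set_option maxRecDepth 100000
set_option maxHeartbeats 1000000

namespace CfsgLib.ChevClassical.B2

open Cfsg Cfsg.Lie Matrix
open scoped commutatorElement
open QuadraticMap (polar)

theorem ok : tab.OK where
  nodup := by decide +kernel
  full i := by rcases i with i | i | i <;> fin_cases i <;> simp [tab, elts]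
  deg := by decide +kernel
  degU := by decide +kernel
  inv := by decide +kernel
  isoDiag := by decide +kernel
  isoSymm := by decide +kernel
  adj := by decide +kernel
  centOK := by decide +kernel
  refOK := by decide +kernel
  movedNe := by decide +kernel
  movedOK := by decide +kernel
  eichE := by decide +kernel
  eichF := by decide +kernel

/-- The part of degree `k`. -/
def part (k : ℕ) (r : Fin chevB2.nroots) : List (Ent I) :=
  ((tab.A r).filter fun e => e.1 == k).map fun e => (0, e.2.1, e.2.2.1, e.2.2.2)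

/-- The weight of a coordinate for the torus element attached to a root. -/
def wt (r : Fin chevB2.nroots) (i : I) : ℤ := (weights.getD r.val []).getD (code i).val 0

/-- The one-parameter property and the torus weights. -/
def paramOK : Bool :=
  (List.finRange chevB2.nroots).all fun r =>
    ((tab.A r).all fun e => (e.1 == 1 || e.1 == 2) && (wt r e.2.1 - wt r e.2.2.1 == (e.1 : ℤ))) &&
    isZero (mul (part 1 r) (part 1 r) ++ scale (-2) 0 (part 2 r)) &&
    isZero (mul (part 1 r) (part 2 r)) && isZero (mul (part 2 r) (part 1 r)) &&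
    isZero (mul (part 2 r) (part 2 r)) &&
    (Utab.all fun e => wt r e.2.1 + wt r e.2.2.1 == 0)

theorem paramOK_true : paramOK = true := by decide +kernel

variable {F : Type*} [Field F]

theorem update_eq (a : I) (b : F) : Function.update (0 : I → F) a b = Pi.single a b := rfl

theorem form_eq : ⇑(qform (F := F) tab) = quadFormOdd 2 F := by
  funext v
  rw [qform_isForm tab]
  simp [tab, Utab, quadFormOdd, eval_cons, Matrix.add_mulVec, dotProduct_add, Fin.sum_univ_two,
    Matrix.single_mulVec, update_eq]
  ring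

/-- The opposite coordinate. -/
def opp : Fin 2 ⊕ Fin 2 → I := fun p => Sum.inr p.swap

theorem polar_val (p : Fin 2 ⊕ Fin 2) (v : I → F) :
    polar (qform (F := F) tab) (Pi.single (Sum.inr p) 1) v = v (opp p) := by
  rw [Tab.polar_single (qform_isForm tab)]
  rcases p with i | i <;> fin_cases i <;>
    simp [Tab.P, tab, Utab, tr, opp, eval_cons, Matrix.add_mulVec, Matrix.single_mulVec,
      Function.update]

theorem form_basis (p : Fin 2 ⊕ Fin 2) : qform (F := F) tab (Pi.single (Sum.inr p) 1) = 0 := by
  rw [form_eq, quadFormOdd]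
  rcases p with j | j <;> simp

/-- The hyperbolic pairs. -/
noncomputable def frame : SplitOrth.Frame (qform (F := F) tab) 2 where
  e i := Pi.single (Sum.inr (Sum.inl i)) 1
  f i := Pi.single (Sum.inr (Sum.inr i)) 1
  z := Pi.single (Sum.inl ()) 1
  qe i := form_basis _
  qf i := form_basis _
  pee i j := by rw [polar_val]; simp [opp]
  pff i j := by rw [polar_val]; simp [opp]
  pef i j := by rw [polar_val]; simp [opp, Pi.single_apply]
  pez i := by rw [polar_val]; simp [opp]
  pfz i := by rw [polar_val]; simp [opp]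
  res v h1 h2 := ⟨v (Sum.inl ()), by
    funext p
    rcases p with ⟨⟩ | i | i
    · simp
    · simpa [opp] using (polar_val (Sum.inr i) v).symm.trans (h2 i)
    · simpa [opp] using (polar_val (Sum.inl i) v).symm.trans (h1 i)⟩
  zq c h := by
    rw [form_eq, quadFormOdd] at h
    simp at h
    simp [h]

theorem eval_parts (r : Fin chevB2.nroots) (t : F) (L : List (Ent I))
    (h : ∀ e ∈ L, e.1 = 1 ∨ e.1 = 2) :
    eval t L = t • eval (1 : F) ((L.filter fun e => e.1 == 1).map fun e => (0, e.2.1, e.2.2.1, e.2.2.2)) +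
      t ^ 2 • eval (1 : F) ((L.filter fun e => e.1 == 2).map fun e => (0, e.2.1, e.2.2.1, e.2.2.2)) := by
  induction L with
  | nil => simp
  | cons e L ih =>
    rw [eval_cons, ih fun a ha => h a (by simp [ha])]
    rcases h e (by simp) with h1 | h1 <;>
      simp [h1, eval_cons, smul_add, Matrix.smul_single, mul_comm] <;> abel

theorem y_val' (r : Fin chevB2.nroots) (t : F) : (Tab.y ok F r t : Matrix I I F) =
    1 + t • eval (1 : F) (part 1 r) + t ^ 2 • eval (1 : F) (part 2 r) := by
  have h := List.all_eq_true.1 paramOK_true r (List.mem_finRange r)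
  simp only [Bool.and_eq_true, List.all_eq_true, Bool.or_eq_true, beq_iff_eq] at h
  rw [Tab.y_val, Tab.Y, eval_append, Tab.eval_one ok,
    eval_parts r t _ (fun e he => (h.1.1.1.1.1 e he).1), add_assoc]
  rfl

theorem y_add (r : Fin chevB2.nroots) (s t : F) :
    Tab.y ok F r s * Tab.y ok F r t = Tab.y ok F r (s + t) := by
  have h := List.all_eq_true.1 paramOK_true r (List.mem_finRange r)
  simp only [Bool.and_eq_true] at h
  have h1 := eval_of_isZero (1 : F) h.1.1.1.1.2
  have h2 := eval_of_isZero (1 : F) h.1.1.1.2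
  have h3 := eval_of_isZero (1 : F) h.1.1.2
  have h4 := eval_of_isZero (1 : F) h.1.2
  rw [eval_append, eval_mul, eval_scale] at h1
  rw [eval_mul] at h2 h3 h4
  have h1' : eval (1 : F) (part 1 r) * eval (1 : F) (part 1 r) =
      (2 : F) • eval (1 : F) (part 2 r) := by
    simpa [add_neg_eq_zero, ← sub_eq_add_neg, sub_eq_zero] using h1
  refine Units.ext ?_
  rw [Units.val_mul, y_val', y_val', y_val']
  simp only [add_mul, mul_add, one_mul, mul_one, Matrix.smul_mul, Matrix.mul_smul, h1', h2, h3, h4,
    smul_zero, add_zero, smul_smul]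
  module

theorem diagonal_eval (w : I → ℤ) (a : F) (ha : a ≠ 0) (t : F) (L : List (Ent I))
    (h : ∀ e ∈ L, w e.2.1 - w e.2.2.1 = (e.1 : ℤ)) :
    Matrix.diagonal (fun i => a ^ w i) * eval t L * Matrix.diagonal (fun i => a ^ (-(w i))) =
      eval (a * t) L := by
  induction L with
  | nil => simp
  | cons e L ih =>
    rw [eval_cons, eval_cons, mul_add, add_mul, ih fun x hx => h x (by simp [hx])]
    congr 1
    ext i j
    rw [Matrix.mul_diagonal, Matrix.diagonal_mul, Matrix.single_apply, Matrix.single_apply]
    by_cases hij : e.2.1 = i ∧ e.2.2.1 = j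
    · rw [if_pos hij, if_pos hij, ← hij.1, ← hij.2, mul_pow]
      have hp : a ^ w e.2.1 * a ^ (-(w e.2.2.1)) = a ^ e.1 := by
        rw [← zpow_add₀ ha, ← sub_eq_add_neg, h e (by simp), zpow_natCast]
      linear_combination ((e.2.2.2 : F) * t ^ e.1) * hp
    · rw [if_neg hij, if_neg hij, mul_zero, zero_mul]

theorem y_omega (hF : ∃ a : F, a ≠ 0 ∧ a ≠ 1) (r : Fin chevB2.nroots) (t : F) : Tab.y ok F r t ∈
    (Omega F ⇑(qform (F := F) tab)).map (isometryGroup F ⇑(qform (F := F) tab)).subtype := by
  obtain ⟨a, ha, ha1⟩ := hF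
  have h := List.all_eq_true.1 paramOK_true r (List.mem_finRange r)
  simp only [Bool.and_eq_true, List.all_eq_true, beq_iff_eq] at h
  have hU := h.2
  have hw := fun e he => (h.1.1.1.1.1 e he).2
  let d : GL I F :=
    { val := Matrix.diagonal fun i => a ^ wt r i
      inv := Matrix.diagonal fun i => a ^ (-(wt r i))
      val_inv := by rw [Matrix.diagonal_mul_diagonal]; exact (congrArg Matrix.diagonal (funext fun i => by simp [_root_.zpow_neg, zpow_ne_zero, ha])).trans Matrix.diagonal_one
      inv_val := by rw [Matrix.diagonal_mul_diagonal]; exact (congrArg Matrix.diagonal (funext fun i => by simp [_root_.zpow_neg, zpow_ne_zero, ha])).trans Matrix.diagonal_one }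
  have hd : d ∈ isometryGroup F ⇑(qform (F := F) tab) := by
    show ∀ u v : I → F, qform (F := F) tab ((d : Matrix I I F) *ᵥ u) = qform (F := F) tab u
    intro u _
    rw [form_eq]
    have hzero : wt r (Sum.inl ()) = 0 := by
      have := hU (0, Sum.inl (), Sum.inl (), 1) (by simp [Utab])
      simp at this; omega
    have hp : ∀ i : Fin 2, a ^ wt r (Sum.inr (Sum.inl i)) * a ^ wt r (Sum.inr (Sum.inr i)) = 1 := by
      intro i
      have := hU (0, Sum.inr (Sum.inl i), Sum.inr (Sum.inr i), 1) (by fin_cases i <;> simp [Utab])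
      simp at this
      rw [← zpow_add₀ ha, this, zpow_zero]
    simp only [quadFormOdd, d, Matrix.mulVec_diagonal, hzero, zpow_zero, one_mul]
    congr 1
    refine Finset.sum_congr rfl fun i _ => ?_
    linear_combination (u (Sum.inr (Sum.inl i)) * u (Sum.inr (Sum.inr i))) * hp i
  have key : ∀ s : F, d * Tab.y ok F r s * d⁻¹ = Tab.y ok F r (a * s) := fun s => by
    refine Units.ext ?_
    rw [Units.val_mul, Units.val_mul, Tab.y_val, Tab.y_val, Tab.Y, eval_append, eval_append,
      Tab.eval_one ok, Tab.eval_one ok, mul_add, mul_one, add_mul,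
      ← diagonal_eval (wt r) a ha s (tab.A r) hw]
    congr 1
    exact d.mul_inv
  have hne : a - 1 ≠ 0 := sub_ne_zero.2 ha1
  refine Tab.commutator_mem ok hd (Tab.y_mem_iso ok r (t / (a - 1))) ?_
  rw [commutatorElement_def, key,
    show (Tab.y ok F r (t / (a - 1)))⁻¹ = Tab.y ok F r (-(t / (a - 1))) from Units.ext rfl, y_add]
  congr 1
  field_simp
  ring

theorem omega_model (hF : ∃ a : F, a ≠ 0 ∧ a ≠ 1) : (Omega F ⇑(qform (F := F) tab)).map
    (isometryGroup F ⇑(qform (F := F) tab)).subtype = Tab.Em ok F := by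
  refine Tab.omega_eq ok (qform_isForm tab) frame (fun i => rfl) (fun i => rfl)
    (fun i k hk => ?_) (fun i k hk => ?_) (fun i => ⟨i + 1, by fin_cases i <;> decide⟩) 0
    (y_omega hF)
  · show polar _ (Pi.single (Sum.inr (Sum.inl i)) 1) _ = _
    rw [polar_val]
    exact Pi.single_eq_of_ne (fun h => hk h.symm) _
  · show polar _ (Pi.single (Sum.inr (Sum.inr i)) 1) _ = _
    rw [polar_val]
    exact Pi.single_eq_of_ne (fun h => hk h.symm) _

end CfsgLib.ChevClassical.B2
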