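/-
Tables of the vector model of type D4.
-/
import Cfsg.Agent.Lib.ChevClassical.Model
import Cfsg.Prelude.Def_ChevD4

set_option autoImplicit false
set_option maxRecDepth 20000

namespace CfsgLib.ChevClassical.D4

open Cfsg.Lie

abbrev I : Type := (Fin 4 ⊕ Fin 4)

def code : I → Fin 8
  | Sum.inl i => ⟨i.val, by omega⟩
  | Sum.inr i => ⟨4 + i.val, by omega⟩

def elts : List I := [(.inl 0), (.inl 1), (.inl 2), (.inl 3), (.inr 0), (.inr 1), (.inr 2), (.inr 3)]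

def Atab (r : Fin chevD4.nroots) : List (Ent I) :=
  match r.val with
  | 0 => [(1, (.inr 0), (.inl 1), -1), (1, (.inr 1), (.inl 0), 1)]
  | 1 => [(1, (.inr 0), (.inl 2), -1), (1, (.inr 2), (.inl 0), 1)]
  | 2 => [(1, (.inl 3), (.inl 0), 1), (1, (.inr 0), (.inr 3), -1)]
  | 3 => [(1, (.inr 0), (.inl 3), -1), (1, (.inr 3), (.inl 0), 1)]
  | 4 => [(1, (.inl 2), (.inl 0), -1), (1, (.inr 0), (.inr 2), 1)]
  | 5 => [(1, (.inl 1), (.inl 0), 1), (1, (.inr 0), (.inr 1), -1)]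
  | 6 => [(1, (.inr 1), (.inl 2), 1), (1, (.inr 2), (.inl 1), -1)]
  | 7 => [(1, (.inl 3), (.inl 1), -1), (1, (.inr 1), (.inr 3), 1)]
  | 8 => [(1, (.inr 1), (.inl 3), 1), (1, (.inr 3), (.inl 1), -1)]
  | 9 => [(1, (.inl 2), (.inl 1), 1), (1, (.inr 1), (.inr 2), -1)]
  | 10 => [(1, (.inl 3), (.inl 2), 1), (1, (.inr 2), (.inr 3), -1)]
  | 11 => [(1, (.inr 2), (.inl 3), -1), (1, (.inr 3), (.inl 2), 1)]
  | 12 => [(1, (.inl 2), (.inr 3), 1), (1, (.inl 3), (.inr 2), -1)]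
  | 13 => [(1, (.inl 2), (.inl 3), 1), (1, (.inr 3), (.inr 2), -1)]
  | 14 => [(1, (.inl 1), (.inl 2), 1), (1, (.inr 2), (.inr 1), -1)]
  | 15 => [(1, (.inl 1), (.inr 3), -1), (1, (.inl 3), (.inr 1), 1)]
  | 16 => [(1, (.inl 1), (.inl 3), -1), (1, (.inr 3), (.inr 1), 1)]
  | 17 => [(1, (.inl 1), (.inr 2), -1), (1, (.inl 2), (.inr 1), 1)]
  | 18 => [(1, (.inl 0), (.inl 1), 1), (1, (.inr 1), (.inr 0), -1)]
  | 19 => [(1, (.inl 0), (.inl 2), -1), (1, (.inr 2), (.inr 0), 1)]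
  | 20 => [(1, (.inl 0), (.inr 3), 1), (1, (.inl 3), (.inr 0), -1)]
  | 21 => [(1, (.inl 0), (.inl 3), 1), (1, (.inr 3), (.inr 0), -1)]
  | 22 => [(1, (.inl 0), (.inr 2), 1), (1, (.inl 2), (.inr 0), -1)]
  | 23 => [(1, (.inl 0), (.inr 1), 1), (1, (.inl 1), (.inr 0), -1)]
  | _ => []

def Htab (i : Fin chevD4.rank) : List (Ent I) :=
  match i.val with
  | 0 => [(0, (.inl 0), (.inl 0), 1), (0, (.inl 1), (.inl 1), -1), (0, (.inr 0), (.inr 0), -1), (0, (.inr 1), (.inr 1), 1)]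
  | 1 => [(0, (.inl 1), (.inl 1), 1), (0, (.inl 2), (.inl 2), -1), (0, (.inr 1), (.inr 1), -1), (0, (.inr 2), (.inr 2), 1)]
  | 2 => [(0, (.inl 2), (.inl 2), 1), (0, (.inl 3), (.inl 3), -1), (0, (.inr 2), (.inr 2), -1), (0, (.inr 3), (.inr 3), 1)]
  | 3 => [(0, (.inl 2), (.inl 2), 1), (0, (.inl 3), (.inl 3), 1), (0, (.inr 2), (.inr 2), -1), (0, (.inr 3), (.inr 3), -1)]
  | _ => []

def Utab : List (Ent I) := [(0, (.inl 0), (.inr 0), 1), (0, (.inl 1), (.inr 1), 1), (0, (.inl 2), (.inr 2), 1), (0, (.inl 3), (.inr 3), 1)]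

def roots : List (Fin chevD4.nroots × Bool) := [(⟨0, by decide⟩, true),
  (⟨23, by decide⟩, false),
  (⟨22, by decide⟩, false),
  (⟨20, by decide⟩, false),
  (⟨0, by decide⟩, true),
  (⟨18, by decide⟩, false),
  (⟨19, by decide⟩, true),
  (⟨21, by decide⟩, false),
  (⟨23, by decide⟩, true),
  (⟨0, by decide⟩, true),
  (⟨17, by decide⟩, true),
  (⟨15, by decide⟩, true),
  (⟨5, by decide⟩, false),
  (⟨0, by decide⟩, true),
  (⟨14, by decide⟩, false),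
  (⟨16, by decide⟩, true),
  (⟨22, by decide⟩, true),
  (⟨17, by decide⟩, false),
  (⟨0, by decide⟩, true),
  (⟨12, by decide⟩, false),
  (⟨4, by decide⟩, true),
  (⟨9, by decide⟩, false),
  (⟨0, by decide⟩, true),
  (⟨13, by decide⟩, false),
  (⟨20, by decide⟩, true),
  (⟨15, by decide⟩, false),
  (⟨12, by decide⟩, true),
  (⟨0, by decide⟩, true),
  (⟨2, by decide⟩, false),
  (⟨7, by decide⟩, true),
  (⟨10, by decide⟩, false),
  (⟨0, by decide⟩, true),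
  (⟨0, by decide⟩, true),
  (⟨5, by decide⟩, true),
  (⟨4, by decide⟩, false),
  (⟨2, by decide⟩, true),
  (⟨0, by decide⟩, true),
  (⟨0, by decide⟩, true),
  (⟨1, by decide⟩, true),
  (⟨3, by decide⟩, true),
  (⟨18, by decide⟩, true),
  (⟨0, by decide⟩, true),
  (⟨9, by decide⟩, true),
  (⟨7, by decide⟩, false),
  (⟨0, by decide⟩, false),
  (⟨0, by decide⟩, true),
  (⟨6, by decide⟩, false),
  (⟨8, by decide⟩, false),
  (⟨19, by decide⟩, false),
  (⟨14, by decide⟩, true),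
  (⟨0, by decide⟩, true),
  (⟨10, by decide⟩, true),
  (⟨1, by decide⟩, false),
  (⟨6, by decide⟩, true),
  (⟨0, by decide⟩, true),
  (⟨11, by decide⟩, true),
  (⟨21, by decide⟩, true),
  (⟨16, by decide⟩, false),
  (⟨13, by decide⟩, true),
  (⟨0, by decide⟩, true),
  (⟨3, by decide⟩, false),
  (⟨8, by decide⟩, true),
  (⟨11, by decide⟩, false),
  (⟨0, by decide⟩, true)]

def cents : List (Fin chevD4.nroots × I × I × Bool) := [(⟨0, by decide⟩, (.inl 0), (.inl 0), true),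
  (⟨1, by decide⟩, (.inr 2), (.inl 1), false),
  (⟨0, by decide⟩, (.inr 1), (.inl 2), false),
  (⟨0, by decide⟩, (.inr 1), (.inl 3), false),
  (⟨0, by decide⟩, (.inl 0), (.inl 1), false),
  (⟨0, by decide⟩, (.inl 0), (.inl 0), true),
  (⟨0, by decide⟩, (.inr 1), (.inr 2), false),
  (⟨0, by decide⟩, (.inr 1), (.inr 3), false),
  (⟨6, by decide⟩, (.inr 2), (.inl 0), true),
  (⟨5, by decide⟩, (.inl 1), (.inl 0), true),
  (⟨0, by decide⟩, (.inr 0), (.inl 2), true),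
  (⟨0, by decide⟩, (.inr 0), (.inl 3), true),
  (⟨0, by decide⟩, (.inl 1), (.inl 1), false),
  (⟨0, by decide⟩, (.inl 1), (.inl 0), true),
  (⟨0, by decide⟩, (.inr 0), (.inr 2), true),
  (⟨0, by decide⟩, (.inr 0), (.inr 3), true),
  (⟨6, by decide⟩, (.inr 1), (.inl 0), false),
  (⟨1, by decide⟩, (.inr 0), (.inl 1), true),
  (⟨4, by decide⟩, (.inl 2), (.inl 0), false),
  (⟨1, by decide⟩, (.inr 0), (.inl 3), true),
  (⟨0, by decide⟩, (.inl 2), (.inl 1), false),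
  (⟨0, by decide⟩, (.inl 2), (.inl 0), true),
  (⟨1, by decide⟩, (.inl 2), (.inl 0), true),
  (⟨1, by decide⟩, (.inr 0), (.inr 3), true),
  (⟨8, by decide⟩, (.inr 1), (.inl 0), false),
  (⟨3, by decide⟩, (.inr 0), (.inl 1), true),
  (⟨3, by decide⟩, (.inr 0), (.inl 2), true),
  (⟨2, by decide⟩, (.inl 3), (.inl 0), true),
  (⟨0, by decide⟩, (.inl 3), (.inl 1), false),
  (⟨0, by decide⟩, (.inl 3), (.inl 0), true),
  (⟨1, by decide⟩, (.inl 3), (.inl 0), true),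
  (⟨3, by decide⟩, (.inl 3), (.inl 0), true),
  (⟨18, by decide⟩, (.inr 0), (.inl 1), true),
  (⟨14, by decide⟩, (.inr 0), (.inl 2), true),
  (⟨9, by decide⟩, (.inr 0), (.inl 1), true),
  (⟨7, by decide⟩, (.inr 0), (.inl 1), false),
  (⟨0, by decide⟩, (.inr 0), (.inl 1), false),
  (⟨6, by decide⟩, (.inr 0), (.inl 2), true),
  (⟨6, by decide⟩, (.inr 0), (.inl 1), false),
  (⟨8, by decide⟩, (.inr 0), (.inl 1), false),
  (⟨14, by decide⟩, (.inr 2), (.inl 0), true),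
  (⟨5, by decide⟩, (.inr 0), (.inl 1), true),
  (⟨4, by decide⟩, (.inr 1), (.inl 0), false),
  (⟨2, by decide⟩, (.inr 1), (.inl 0), true),
  (⟨1, by decide⟩, (.inr 1), (.inl 2), false),
  (⟨0, by decide⟩, (.inr 1), (.inl 0), true),
  (⟨1, by decide⟩, (.inr 1), (.inl 0), true),
  (⟨3, by decide⟩, (.inr 1), (.inl 0), true),
  (⟨9, by decide⟩, (.inr 1), (.inl 0), true),
  (⟨4, by decide⟩, (.inr 0), (.inl 1), false),
  (⟨4, by decide⟩, (.inr 0), (.inl 2), false),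
  (⟨2, by decide⟩, (.inr 2), (.inl 0), true),
  (⟨0, by decide⟩, (.inr 2), (.inl 1), false),
  (⟨0, by decide⟩, (.inr 2), (.inl 0), true),
  (⟨1, by decide⟩, (.inr 2), (.inl 0), true),
  (⟨3, by decide⟩, (.inr 2), (.inl 0), true),
  (⟨7, by decide⟩, (.inr 1), (.inl 0), false),
  (⟨2, by decide⟩, (.inr 0), (.inl 1), true),
  (⟨2, by decide⟩, (.inr 0), (.inl 2), true),
  (⟨2, by decide⟩, (.inr 0), (.inl 3), true),
  (⟨0, by decide⟩, (.inr 3), (.inl 1), false),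
  (⟨0, by decide⟩, (.inr 3), (.inl 0), true),
  (⟨1, by decide⟩, (.inr 3), (.inl 0), true),
  (⟨3, by decide⟩, (.inr 3), (.inl 0), true)]

def tab : Tab chevD4 I 4 where
  idx := elts
  A := Atab
  H := Htab
  U := Utab
  pe i := Sum.inl i
  pf i := Sum.inr i
  root p q := roots.getD ((code p).val * 8 + (code q).val) (⟨0, by decide⟩, true)
  cent i j := cents.getD ((code i).val * 8 + (code j).val) (⟨0, by decide⟩, (.inl 0), (.inl 0), true)
  base := (.inl 0)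
  moved := ((.inr 0), (.inl 1))
  ref i := ([(.inl 0), (.inl 0), (.inl 0), (.inl 0), (.inl 1), (.inl 0), (.inl 0), (.inl 0)] : List I).getD (code i).val ((.inl 0))

def comms : List (Fin chevD4.nroots × Fin chevD4.nroots × Bool) := [(⟨1, by decide⟩, ⟨9, by decide⟩, true),
  (⟨0, by decide⟩, ⟨14, by decide⟩, true),
  (⟨0, by decide⟩, ⟨15, by decide⟩, false),
  (⟨0, by decide⟩, ⟨16, by decide⟩, false),
  (⟨0, by decide⟩, ⟨17, by decide⟩, true),
  (⟨1, by decide⟩, ⟨17, by decide⟩, true),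
  (⟨0, by decide⟩, ⟨19, by decide⟩, false),
  (⟨0, by decide⟩, ⟨20, by decide⟩, true),
  (⟨0, by decide⟩, ⟨21, by decide⟩, true),
  (⟨0, by decide⟩, ⟨22, by decide⟩, false),
  (⟨1, by decide⟩, ⟨20, by decide⟩, false),
  (⟨1, by decide⟩, ⟨21, by decide⟩, false),
  (⟨2, by decide⟩, ⟨22, by decide⟩, false),
  (⟨3, by decide⟩, ⟨22, by decide⟩, false),
  (⟨1, by decide⟩, ⟨23, by decide⟩, false),
  (⟨2, by decide⟩, ⟨23, by decide⟩, true),
  (⟨3, by decide⟩, ⟨23, by decide⟩, true),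
  (⟨4, by decide⟩, ⟨23, by decide⟩, false),
  (⟨6, by decide⟩, ⟨22, by decide⟩, true),
  (⟨6, by decide⟩, ⟨23, by decide⟩, true),
  (⟨7, by decide⟩, ⟨23, by decide⟩, false),
  (⟨8, by decide⟩, ⟨23, by decide⟩, false),
  (⟨9, by decide⟩, ⟨23, by decide⟩, true),
  (⟨14, by decide⟩, ⟨22, by decide⟩, true)]

end CfsgLib.ChevClassical.D4
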