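/-
The Chevalley group of type `D₄` is `PΩ⁺₈`.
-/
import Cfsg.Agent.Lib.ChevClassical.Forms
import Cfsg.Agent.Lib.ChevClassical.DataD4
import Cfsg.Agent.Lib.Chev.PerfectData
import Cfsg.Agent.Lib.Chev.Mat

set_option autoImplicit false
set_option maxRecDepth 100000
set_option maxHeartbeats 1000000

namespace CfsgLib.ChevClassical.D4

open Cfsg Cfsg.Lie Matrix
open scoped commutatorElement
open QuadraticMap (polar)

theorem ok : tab.OK where
  nodup := by decide +kernel
  full i := by rcases i with i | i <;> fin_cases i <;> simp [tab, elts]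
  deg := by decide +kernel
  degU := by decide +kernel
  inv := by decide +kernel
  isoDiag := by decide +kernel
  isoSymm := by decide +kernel
  adj := by decide +kernel
  centOK := by decide +kernel
  refOK := by decide +kernel
  movedNe := by decide +kernel
  movedOK := by decide +kernel
  eichE := by decide +kernel
  eichF := by decide +kernel

/-- Every root element is a commutator of two others. -/
def commOK : Bool :=
  (List.finRange chevD4.nroots).all fun r =>
    let c := comms.getD r.val (r, r, true)
    let B := tab.one ++ (tab.A c.2.1).map fun e => (0, e.2.1, e.2.2.1, e.2.2.2)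
    let B' := tab.one ++ (subNeg (tab.A c.2.1)).map fun e => (0, e.2.1, e.2.2.1, e.2.2.2)
    let R := if c.2.2 then tab.Y r else subNeg (tab.Y r)
    isZero (mul (mul (mul (tab.Y c.1) B) (subNeg (tab.Y c.1))) B' ++ scale (-1) 0 R)

theorem commOK_true : commOK = true := by decide +kernel

variable {F : Type*} [Field F]

theorem update_eq (a : I) (b : F) : Function.update (0 : I → F) a b = Pi.single a b := rfl

theorem form_eq : ⇑(qform (F := F) tab) = quadFormPlus 4 F := by
  funext v
  rw [qform_isForm tab]
  simp [tab, Utab, quadFormPlus, eval_cons, Matrix.add_mulVec, dotProduct_add, Fin.sum_univ_four,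
    Matrix.single_mulVec, update_eq]
  ring

theorem polar_val (p : I) (v : I → F) :
    polar (qform (F := F) tab) (Pi.single p 1) v = v p.swap := by
  rw [Tab.polar_single (qform_isForm tab)]
  rcases p with i | i <;> fin_cases i <;>
    simp [Tab.P, tab, Utab, tr, eval_cons, Matrix.add_mulVec, Matrix.single_mulVec, Function.update]

theorem form_basis (p : I) : qform (F := F) tab (Pi.single p 1) = 0 := by
  rw [form_eq, quadFormPlus]
  refine Finset.sum_eq_zero fun i _ => ?_
  rcases p with j | j <;> simp

/-- The hyperbolic pairs. -/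
noncomputable def frame : SplitOrth.Frame (qform (F := F) tab) 4 where
  e i := Pi.single (Sum.inl i) 1
  f i := Pi.single (Sum.inr i) 1
  z := 0
  qe i := form_basis _
  qf i := form_basis _
  pee i j := by rw [polar_val]; simp
  pff i j := by rw [polar_val]; simp
  pef i j := by rw [polar_val]; simp [Pi.single_apply]
  pez i := QuadraticMap.polar_zero_right ..
  pfz i := QuadraticMap.polar_zero_right ..
  res v h1 h2 := ⟨0, by
    rw [smul_zero]
    funext p
    rcases p with i | i
    · exact (polar_val (Sum.inr i) v).symm.trans (h2 i)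
    · exact (polar_val (Sum.inl i) v).symm.trans (h1 i)⟩
  zq c _ := smul_zero c

theorem y_omega (r : Fin chevD4.nroots) (t : F) : Tab.y ok F r t ∈
    (Omega F ⇑(qform (F := F) tab)).map (isometryGroup F ⇑(qform (F := F) tab)).subtype := by
  have h := List.all_eq_true.1 commOK_true r (List.mem_finRange r)
  obtain ⟨c, hc⟩ : ∃ c, c = comms.getD r.val (r, r, true) := ⟨_, rfl⟩
  rw [← hc] at h
  have key : ∀ s : F, ⁅Tab.y ok F c.1 s, Tab.y ok F c.2.1 1⁆ =
      Tab.y ok F r (if c.2.2 then s else -s) := by
    intro s
    have h1 := eval_eq_of_isZero s h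
    rw [eval_mul, eval_mul, eval_mul, eval_append, eval_append, eval_degZero, eval_degZero,
      eval_subNeg, eval_subNeg, Tab.eval_one ok] at h1
    refine Units.ext ?_
    rw [commutatorElement_def, Units.val_mul, Units.val_mul, Units.val_mul, Tab.y_val, Tab.y_val,
      Tab.y_inv, Tab.y_inv, Tab.y_val]
    simp only [Tab.Y, eval_append, Tab.eval_one ok] at h1 ⊢
    rw [h1]
    cases c.2.2 <;> simp [eval_subNeg, Tab.Y, Tab.eval_one ok]
  have h2 := key (if c.2.2 then t else -t)
  rw [show (if c.2.2 then (if c.2.2 then t else -t) else -(if c.2.2 then t else -t)) = t by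
    cases c.2.2 <;> simp] at h2
  exact Tab.commutator_mem ok (Tab.y_mem_iso ok _ _) (Tab.y_mem_iso ok _ _) h2

theorem omega_model : (Omega F ⇑(qform (F := F) tab)).map
    (isometryGroup F ⇑(qform (F := F) tab)).subtype = Tab.Em ok F := by
  refine Tab.omega_eq ok (qform_isForm tab) frame (fun i => rfl) (fun i => rfl)
    (fun i k hk => ?_) (fun i k hk => ?_) (fun i => ⟨i + 1, by fin_cases i <;> decide⟩) 0 y_omega
  · show polar _ (Pi.single (Sum.inl i) 1) _ = _
    rw [polar_val]
    exact Pi.single_eq_of_ne (fun h => hk h.symm) _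
  · show polar _ (Pi.single (Sum.inr i) 1) _ = _
    rw [polar_val]
    exact Pi.single_eq_of_ne (fun h => hk h.symm) _

end CfsgLib.ChevClassical.D4
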