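/-
Tables for the 27-dimensional model of the Chevalley group of type `E₆` (machine produced).
-/
import Cfsg.Agent.Lib.ChevClassical.Model
import Cfsg.Prelude.Def_ChevE6
import Cfsg.Prelude.Def_E6

set_option autoImplicit false
set_option maxRecDepth 100000

namespace CfsgLib.ChevClassical.E6

open Cfsg Cfsg.Lie

/-- The monomials of the cubic form. -/
def mons : List (Fin 27 × Fin 27 × Fin 27 × ℤ) := [(0, 4, 8, 1), (1, 5, 6, 1), (2, 3, 7, 1), (0, 5, 7, -1), (1, 3, 8, -1), (2, 4, 6, -1), (9, 13, 17, 1), (10, 14, 15, 1), (11, 12, 16, 1), (9, 14, 16, -1), (10, 12, 17, -1), (11, 13, 15, -1), (18, 22, 26, 1), (19, 23, 24, 1), (20, 21, 25, 1), (18, 23, 25, -1), (19, 21, 26, -1), (20, 22, 24, -1), (0, 9, 18, -1), (0, 10, 21, -1), (0, 11, 24, -1), (1, 12, 18, -1), (1, 13, 21, -1), (1, 14, 24, -1), (2, 15, 18, -1), (2, 16, 21, -1), (2, 17, 24, -1), (3, 9, 19, -1), (3, 10, 22, -1), (3, 11, 25, -1), (4, 12, 19, -1),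 (4, 13, 22, -1), (4, 14, 25, -1), (5, 15, 19, -1), (5, 16, 22, -1), (5, 17, 25, -1), (6, 9, 20, -1), (6, 10, 23, -1), (6, 11, 26, -1), (7, 12, 20, -1), (7, 13, 23, -1), (7, 14, 26, -1), (8, 15, 20, -1), (8, 16, 23, -1), (8, 17, 26, -1)]

/-- The nilpotent parts of the root elements. -/
def atab : List (List (Ent (Fin 27))) := [
  [(1, 2, 22, -1), (1, 5, 21, 1), (1, 10, 7, -1), (1, 13, 6, 1), (1, 20, 17, 1), (1, 26, 15, -1)],
  [(1, 3, 17, -1), (1, 5, 11, 1), (1, 12, 22, 1), (1, 13, 19, -1), (1, 24, 7, -1), (1, 26, 1, 1)],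
  [(1, 0, 22, -1), (1, 3, 21, 1), (1, 13, 8, -1), (1, 16, 7, 1), (1, 20, 11, 1), (1, 26, 9, -1)],
  [(1, 0, 17, 1), (1, 2, 11, -1), (1, 12, 21, -1), (1, 13, 18, 1), (1, 25, 7, -1), (1, 26, 4, 1)],
  [(1, 10, 11, -1), (1, 13, 14, -1), (1, 16, 17, -1), (1, 24, 21, 1), (1, 25, 22, 1), (1, 26, 23, 1)],
  [(1, 3, 15, -1), (1, 5, 9, 1), (1, 13, 25, 1), (1, 14, 22, -1), (1, 18, 7, -1), (1, 20, 1, 1)],
  [(1, 2, 1, -1), (1, 5, 4, -1), (1, 8, 7, -1), (1, 12, 15, 1), (1, 13, 16, 1), (1, 14, 17, 1)],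
  [(1, 5, 23, -1), (1, 8, 22, 1), (1, 10, 1, -1), (1, 13, 0, 1), (1, 18, 17, 1), (1, 24, 15, -1)],
  [(1, 0, 15, -1), (1, 2, 9, 1), (1, 13, 24, 1), (1, 14, 21, -1), (1, 19, 7, 1), (1, 20, 4, -1)],
  [(1, 10, 9, 1), (1, 13, 12, 1), (1, 16, 15, 1), (1, 18, 21, -1), (1, 19, 22, -1), (1, 20, 23, -1)],
  [(1, 2, 23, 1), (1, 8, 21, -1), (1, 10, 4, -1), (1, 13, 3, 1), (1, 19, 17, 1), (1, 25, 15, -1)],
  [(1, 0, 1, 1), (1, 3, 4, 1), (1, 6, 7, 1), (1, 12, 9, -1), (1, 13, 10, -1), (1, 14, 11, -1)],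
  [(1, 3, 23, 1), (1, 6, 22, -1), (1, 13, 2, 1), (1, 16, 1, -1), (1, 18, 11, -1), (1, 24, 9, 1)],
  [(1, 6, 17, 1), (1, 8, 11, -1), (1, 12, 23, -1), (1, 13, 20, 1), (1, 24, 4, -1), (1, 25, 1, 1)],
  [(1, 0, 23, 1), (1, 6, 21, -1), (1, 13, 5, -1), (1, 16, 4, 1), (1, 19, 11, 1), (1, 25, 9, -1)],
  [(1, 6, 15, 1), (1, 8, 9, -1), (1, 13, 26, -1), (1, 14, 23, 1), (1, 18, 4, -1), (1, 19, 1, 1)],
  [(1, 3, 6, 1), (1, 4, 7, 1), (1, 5, 8, 1), (1, 20, 19, -1), (1, 23, 22, -1), (1, 26, 25, -1)],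
  [(1, 2, 19, 1), (1, 5, 18, -1), (1, 9, 7, 1), (1, 12, 6, -1), (1, 23, 17, 1), (1, 26, 16, -1)],
  [(1, 4, 17, -1), (1, 5, 14, 1), (1, 9, 22, -1), (1, 10, 19, 1), (1, 24, 6, 1), (1, 26, 0, -1)],
  [(1, 0, 6, 1), (1, 1, 7, 1), (1, 2, 8, 1), (1, 20, 18, -1), (1, 23, 21, -1), (1, 26, 24, -1)],
  [(1, 1, 22, -1), (1, 4, 21, 1), (1, 10, 8, 1), (1, 16, 6, -1), (1, 20, 14, 1), (1, 26, 12, -1)],
  [(1, 1, 17, 1), (1, 2, 14, -1), (1, 9, 21, 1), (1, 10, 18, -1), (1, 25, 6, 1), (1, 26, 3, -1)],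
  [(1, 2, 25, -1), (1, 5, 24, 1), (1, 11, 7, -1), (1, 14, 6, 1), (1, 20, 16, -1), (1, 23, 15, 1)],
  [(1, 4, 15, -1), (1, 5, 12, 1), (1, 10, 25, -1), (1, 11, 22, 1), (1, 18, 6, 1), (1, 20, 0, -1)],
  [(1, 2, 0, 1), (1, 5, 3, 1), (1, 8, 6, 1), (1, 9, 15, -1), (1, 10, 16, -1), (1, 11, 17, -1)],
  [(1, 1, 15, -1), (1, 2, 12, 1), (1, 10, 24, -1), (1, 11, 21, 1), (1, 19, 6, -1), (1, 20, 3, 1)],
  [(1, 0, 19, -1), (1, 3, 18, 1), (1, 12, 8, -1), (1, 15, 7, 1), (1, 23, 11, -1), (1, 26, 10, 1)],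
  [(1, 3, 14, -1), (1, 4, 11, 1), (1, 15, 22, -1), (1, 16, 19, 1), (1, 24, 8, 1), (1, 26, 2, -1)],
  [(1, 9, 11, 1), (1, 12, 14, 1), (1, 15, 17, 1), (1, 24, 18, -1), (1, 25, 19, -1), (1, 26, 20, -1)],
  [(1, 0, 14, -1), (1, 1, 11, 1), (1, 15, 21, -1), (1, 16, 18, 1), (1, 25, 8, -1), (1, 26, 5, 1)],
  [(1, 3, 16, -1), (1, 5, 10, 1), (1, 12, 25, -1), (1, 14, 19, 1), (1, 21, 7, -1), (1, 23, 1, 1)],
  [(1, 3, 0, -1), (1, 4, 1, -1), (1, 5, 2, -1), (1, 18, 19, 1), (1, 21, 22, 1), (1, 24, 25, 1)],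
  [(1, 5, 20, -1), (1, 8, 19, 1), (1, 9, 1, -1), (1, 12, 0, 1), (1, 21, 17, -1), (1, 24, 16, 1)],
  [(1, 0, 25, -1), (1, 3, 24, 1), (1, 14, 8, -1), (1, 17, 7, 1), (1, 20, 10, -1), (1, 23, 9, 1)],
  [(1, 3, 12, 1), (1, 4, 9, -1), (1, 16, 25, 1), (1, 17, 22, -1), (1, 18, 8, -1), (1, 20, 2, 1)],
  [(1, 0, 16, 1), (1, 2, 10, -1), (1, 12, 24, 1), (1, 14, 18, -1), (1, 22, 7, -1), (1, 23, 4, 1)],
  [(1, 4, 23, 1), (1, 7, 22, -1), (1, 10, 2, -1), (1, 16, 0, 1), (1, 18, 14, -1), (1, 24, 12, 1)],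
  [(1, 2, 20, 1), (1, 8, 18, -1), (1, 9, 4, -1), (1, 12, 3, 1), (1, 22, 17, -1), (1, 25, 16, 1)],
  [(1, 7, 17, 1), (1, 8, 14, -1), (1, 9, 23, 1), (1, 10, 20, -1), (1, 24, 3, 1), (1, 25, 0, -1)],
  [(1, 0, 12, 1), (1, 1, 9, -1), (1, 16, 24, 1), (1, 17, 21, -1), (1, 19, 8, 1), (1, 20, 5, -1)],
  [(1, 0, 3, -1), (1, 1, 4, -1), (1, 2, 5, -1), (1, 19, 18, 1), (1, 22, 21, 1), (1, 25, 24, 1)],
  [(1, 1, 23, 1), (1, 7, 21, -1), (1, 10, 5, 1), (1, 16, 3, -1), (1, 19, 14, 1), (1, 25, 12, -1)],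
  [(1, 5, 26, 1), (1, 8, 25, -1), (1, 11, 1, 1), (1, 14, 0, -1), (1, 18, 16, 1), (1, 21, 15, -1)],
  [(1, 11, 9, 1), (1, 14, 12, 1), (1, 17, 15, 1), (1, 18, 24, -1), (1, 19, 25, -1), (1, 20, 26, -1)],
  [(1, 2, 26, -1), (1, 8, 24, 1), (1, 11, 4, 1), (1, 14, 3, -1), (1, 19, 16, 1), (1, 22, 15, -1)],
  [(1, 7, 15, 1), (1, 8, 12, -1), (1, 10, 26, 1), (1, 11, 23, -1), (1, 18, 3, 1), (1, 19, 0, -1)],
  [(1, 3, 20, 1), (1, 6, 19, -1), (1, 12, 2, 1), (1, 15, 1, -1), (1, 21, 11, 1), (1, 24, 10, -1)],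
  [(1, 0, 2, 1), (1, 3, 5, 1), (1, 6, 8, 1), (1, 15, 9, -1), (1, 16, 10, -1), (1, 17, 11, -1)],
  [(1, 0, 20, -1), (1, 6, 18, 1), (1, 12, 5, 1), (1, 15, 4, -1), (1, 22, 11, 1), (1, 25, 10, -1)],
  [(1, 6, 14, 1), (1, 7, 11, -1), (1, 15, 23, 1), (1, 16, 20, -1), (1, 24, 5, 1), (1, 25, 2, -1)],
  [(1, 3, 26, -1), (1, 6, 25, 1), (1, 14, 2, -1), (1, 17, 1, 1), (1, 18, 10, -1), (1, 21, 9, 1)],
  [(1, 6, 16, -1), (1, 8, 10, 1), (1, 12, 26, -1), (1, 14, 20, 1), (1, 21, 4, 1), (1, 22, 1, -1)],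
  [(1, 6, 0, 1), (1, 7, 1, 1), (1, 8, 2, 1), (1, 18, 20, -1), (1, 21, 23, -1), (1, 24, 26, -1)],
  [(1, 0, 26, -1), (1, 6, 24, 1), (1, 14, 5, 1), (1, 17, 4, -1), (1, 19, 10, 1), (1, 22, 9, -1)],
  [(1, 6, 12, -1), (1, 7, 9, 1), (1, 16, 26, -1), (1, 17, 23, 1), (1, 18, 5, -1), (1, 19, 2, 1)],
  [(1, 6, 3, 1), (1, 7, 4, 1), (1, 8, 5, 1), (1, 19, 20, -1), (1, 22, 23, -1), (1, 25, 26, -1)],
  [(1, 1, 19, 1), (1, 4, 18, -1), (1, 9, 8, -1), (1, 15, 6, 1), (1, 23, 14, 1), (1, 26, 13, -1)],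
  [(1, 4, 16, 1), (1, 5, 13, -1), (1, 9, 25, -1), (1, 11, 19, 1), (1, 21, 6, -1), (1, 23, 0, 1)],
  [(1, 1, 25, 1), (1, 4, 24, -1), (1, 11, 8, -1), (1, 17, 6, 1), (1, 20, 13, 1), (1, 23, 12, -1)],
  [(1, 1, 16, -1), (1, 2, 13, 1), (1, 9, 24, 1), (1, 11, 18, -1), (1, 22, 6, -1), (1, 23, 3, 1)],
  [(1, 1, 0, 1), (1, 4, 3, 1), (1, 7, 6, 1), (1, 9, 12, -1), (1, 10, 13, -1), (1, 11, 14, -1)],
  [(1, 3, 13, 1), (1, 4, 10, -1), (1, 15, 25, -1), (1, 17, 19, 1), (1, 21, 8, -1), (1, 23, 2, 1)],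
  [(1, 9, 10, 1), (1, 12, 13, 1), (1, 15, 16, 1), (1, 21, 18, -1), (1, 22, 19, -1), (1, 23, 20, -1)],
  [(1, 4, 20, -1), (1, 7, 19, 1), (1, 9, 2, 1), (1, 15, 0, -1), (1, 21, 14, -1), (1, 24, 13, 1)],
  [(1, 0, 13, 1), (1, 1, 10, -1), (1, 15, 24, -1), (1, 17, 18, 1), (1, 22, 8, 1), (1, 23, 5, -1)],
  [(1, 1, 2, -1), (1, 4, 5, -1), (1, 7, 8, -1), (1, 15, 12, 1), (1, 16, 13, 1), (1, 17, 14, 1)],
  [(1, 1, 20, 1), (1, 7, 18, -1), (1, 9, 5, 1), (1, 15, 3, -1), (1, 22, 14, -1), (1, 25, 13, 1)],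
  [(1, 11, 10, -1), (1, 14, 13, -1), (1, 17, 16, -1), (1, 21, 24, 1), (1, 22, 25, 1), (1, 23, 26, 1)],
  [(1, 4, 26, 1), (1, 7, 25, -1), (1, 11, 2, -1), (1, 17, 0, 1), (1, 18, 13, 1), (1, 21, 12, -1)],
  [(1, 7, 16, 1), (1, 8, 13, -1), (1, 9, 26, -1), (1, 11, 20, 1), (1, 21, 3, 1), (1, 22, 0, -1)],
  [(1, 1, 26, 1), (1, 7, 24, -1), (1, 11, 5, 1), (1, 17, 3, -1), (1, 19, 13, -1), (1, 22, 12, 1)],
  [(1, 6, 13, 1), (1, 7, 10, -1), (1, 15, 26, -1), (1, 17, 20, 1), (1, 21, 5, 1), (1, 22, 2, -1)]]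

/-- The coroots. -/
def htab : List (List (Ent (Fin 27))) := [
  [(0, 1, 1, 1), (0, 4, 4, 1), (0, 6, 6, -1), (0, 8, 8, -1), (0, 9, 9, 1), (0, 13, 13, -1), (0, 14, 14, -1), (0, 15, 15, 1), (0, 18, 18, -1), (0, 19, 19, -1), (0, 23, 23, 1), (0, 26, 26, 1)],
  [(0, 1, 1, -1), (0, 2, 2, -1), (0, 3, 3, 1), (0, 6, 6, 1), (0, 10, 10, -1), (0, 11, 11, -1), (0, 12, 12, 1), (0, 15, 15, 1), (0, 19, 19, -1), (0, 20, 20, -1), (0, 21, 21, 1), (0, 24, 24, 1)],
  [(0, 0, 0, -1), (0, 1, 1, -1), (0, 5, 5, 1), (0, 8, 8, 1), (0, 11, 11, 1), (0, 14, 14, 1), (0, 15, 15, -1), (0, 16, 16, -1), (0, 18, 18, 1), (0, 21, 21, 1), (0, 25, 25, -1), (0, 26, 26, -1)],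
  [(0, 0, 0, 1), (0, 1, 1, 1), (0, 5, 5, -1), (0, 8, 8, -1), (0, 9, 9, -1), (0, 12, 12, -1), (0, 16, 16, 1), (0, 17, 17, 1), (0, 19, 19, 1), (0, 20, 20, 1), (0, 21, 21, -1), (0, 24, 24, -1)],
  [(0, 2, 2, 1), (0, 3, 3, -1), (0, 4, 4, -1), (0, 8, 8, 1), (0, 9, 9, 1), (0, 12, 12, 1), (0, 16, 16, -1), (0, 17, 17, -1), (0, 18, 18, -1), (0, 20, 20, -1), (0, 22, 22, 1), (0, 25, 25, 1)],
  [(0, 0, 0, -1), (0, 2, 2, -1), (0, 4, 4, 1), (0, 7, 7, 1), (0, 10, 10, 1), (0, 12, 12, -1), (0, 14, 14, -1), (0, 16, 16, 1), (0, 18, 18, 1), (0, 22, 22, -1), (0, 23, 23, -1), (0, 24, 24, 1)]]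

/-- The certificates for the centralizer. -/
def centTab : List (List (ℕ × Fin 27 × Fin 27 × Bool)) := [
  [(0, 0, 0, true), (20, 0, 22, false), (0, 0, 22, false), (1, 0, 17, false), (16, 0, 7, true), (0, 0, 21, true), (12, 0, 22, false), (36, 0, 22, false), (6, 0, 7, false), (17, 0, 7, true), (0, 0, 7, false), (22, 0, 7, false), (1, 0, 22, true), (0, 0, 6, true), (5, 0, 22, false), (27, 0, 22, false), (4, 0, 17, false), (34, 0, 22, false), (5, 0, 7, false), (9, 0, 22, false), (0, 0, 17, true), (30, 0, 7, false), (37, 0, 17, false), (16, 0, 22, false), (1, 0, 7, false), (4, 0, 22, true), (0, 0, 15, false)],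
  [(2, 1, 22, false), (60, 1, 0, true), (0, 1, 22, false), (1, 1, 17, false), (16, 1, 7, true), (0, 1, 21, true), (11, 1, 7, true), (36, 1, 22, false), (6, 1, 7, false), (17, 1, 7, true), (0, 1, 7, false), (22, 1, 7, false), (1, 1, 22, true), (0, 1, 6, true), (5, 1, 22, false), (26, 1, 7, true), (2, 1, 7, true), (33, 1, 7, true), (5, 1, 7, false), (8, 1, 7, true), (0, 1, 17, true), (30, 1, 7, false), (35, 1, 7, false), (16, 1, 22, false), (1, 1, 7, false), (3, 1, 7, false), (0, 1, 15, false)],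
  [(2, 2, 22, false), (20, 2, 22, false), (24, 2, 0, true), (1, 2, 17, false), (16, 2, 7, true), (1, 2, 11, true), (11, 2, 7, true), (36, 2, 22, false), (7, 2, 22, true), (18, 2, 22, false), (4, 2, 11, false), (23, 2, 22, true), (1, 2, 22, true), (1, 2, 19, false), (5, 2, 22, false), (26, 2, 7, true), (2, 2, 7, true), (33, 2, 7, true), (5, 2, 7, false), (9, 2, 22, false), (2, 2, 11, true), (30, 2, 7, false), (48, 2, 11, true), (16, 2, 22, false), (1, 2, 7, false), (4, 2, 22, true), (1, 2, 1, true)],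
  [(3, 3, 17, true), (19, 3, 7, true), (0, 3, 22, false), (31, 3, 0, false), (18, 3, 17, false), (0, 3, 21, true), (13, 3, 17, true), (36, 3, 22, false), (6, 3, 7, false), (17, 3, 7, true), (0, 3, 7, false), (22, 3, 7, false), (3, 3, 21, false), (0, 3, 6, true), (6, 3, 17, true), (28, 3, 17, true), (4, 3, 17, false), (39, 3, 21, false), (7, 3, 17, true), (8, 3, 7, true), (0, 3, 17, true), (32, 3, 17, false), (35, 3, 7, false), (17, 3, 17, true), (4, 3, 21, true), (3, 3, 7, false), (0, 3, 15, false)],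
  [(2, 4, 22, false), (19, 4, 7, true), (0, 4, 22, false), (1, 4, 17, false), (31, 4, 1, false), (0, 4, 21, true), (11, 4, 7, true), (38, 4, 17, true), (6, 4, 7, false), (17, 4, 7, true), (0, 4, 7, false), (22, 4, 7, false), (1, 4, 22, true), (0, 4, 6, true), (5, 4, 22, false), (26, 4, 7, true), (2, 4, 7, true), (33, 4, 7, true), (5, 4, 7, false), (8, 4, 7, true), (0, 4, 17, true), (30, 4, 7, false), (35, 4, 7, false), (17, 4, 17, true), (1, 4, 7, false), (3, 4, 7, false), (0, 4, 15, false)],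
  [(2, 5, 22, false), (19, 5, 7, true), (3, 5, 11, false), (2, 5, 21, true), (20, 5, 21, true), (31, 5, 2, false), (11, 5, 7, true), (36, 5, 22, false), (10, 5, 21, false), (21, 5, 21, true), (4, 5, 11, false), (25, 5, 21, true), (3, 5, 21, false), (2, 5, 8, false), (8, 5, 21, false), (26, 5, 7, true), (2, 5, 7, true), (33, 5, 7, true), (9, 5, 21, false), (8, 5, 7, true), (2, 5, 11, true), (46, 5, 11, true), (35, 5, 7, false), (19, 5, 21, false), (4, 5, 21, true), (3, 5, 7, false), (2, 5, 9, false)],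
  [(2, 6, 22, false), (19, 6, 7, true), (0, 6, 22, false), (1, 6, 17, false), (16, 6, 7, true), (0, 6, 21, true), (52, 6, 0, true), (36, 6, 22, false), (6, 6, 7, false), (17, 6, 7, true), (0, 6, 7, false), (22, 6, 7, false), (1, 6, 22, true), (0, 6, 6, true), (5, 6, 22, false), (26, 6, 7, true), (2, 6, 7, true), (33, 6, 7, true), (5, 6, 7, false), (8, 6, 7, true), (0, 6, 17, true), (30, 6, 7, false), (35, 6, 7, false), (16, 6, 22, false), (1, 6, 7, false), (3, 6, 7, false), (0, 6, 15, false)],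
  [(2, 7, 22, false), (19, 7, 7, true), (0, 7, 22, false), (1, 7, 17, false), (16, 7, 7, true), (0, 7, 21, true), (11, 7, 7, true), (52, 7, 1, true), (6, 7, 7, false), (17, 7, 7, true), (0, 7, 7, false), (22, 7, 7, false), (1, 7, 22, true), (0, 7, 6, true), (5, 7, 22, false), (26, 7, 7, true), (2, 7, 7, true), (33, 7, 7, true), (5, 7, 7, false), (8, 7, 7, true), (0, 7, 17, true), (30, 7, 7, false), (35, 7, 7, false), (16, 7, 22, false), (1, 7, 7, false), (3, 7, 7, false), (0, 7, 15, false)],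
  [(2, 8, 22, false), (19, 8, 7, true), (0, 8, 22, false), (1, 8, 17, false), (16, 8, 7, true), (0, 8, 21, true), (11, 8, 7, true), (36, 8, 22, false), (52, 8, 2, true), (17, 8, 7, true), (0, 8, 7, false), (22, 8, 7, false), (1, 8, 22, true), (0, 8, 6, true), (5, 8, 22, false), (26, 8, 7, true), (2, 8, 7, true), (33, 8, 7, true), (5, 8, 7, false), (8, 8, 7, true), (0, 8, 17, true), (30, 8, 7, false), (35, 8, 7, false), (16, 8, 22, false), (1, 8, 7, false), (3, 8, 7, false), (0, 8, 15, false)],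
  [(2, 9, 22, false), (19, 9, 7, true), (0, 9, 22, false), (1, 9, 17, false), (16, 9, 7, true), (0, 9, 21, true), (11, 9, 7, true), (36, 9, 22, false), (6, 9, 7, false), (32, 9, 1, false), (0, 9, 7, false), (22, 9, 7, false), (1, 9, 22, true), (0, 9, 6, true), (5, 9, 22, false), (26, 9, 7, true), (2, 9, 7, true), (33, 9, 7, true), (5, 9, 7, false), (8, 9, 7, true), (0, 9, 17, true), (30, 9, 7, false), (35, 9, 7, false), (16, 9, 22, false), (1, 9, 7, false), (3, 9, 7, false), (0, 9, 15, false)],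
  [(2, 10, 22, false), (19, 10, 7, true), (3, 10, 11, false), (1, 10, 17, false), (16, 10, 7, true), (1, 10, 11, true), (11, 10, 7, true), (49, 10, 11, false), (6, 10, 7, false), (17, 10, 7, true), (7, 10, 1, false), (22, 10, 7, false), (1, 10, 22, true), (1, 10, 19, false), (5, 10, 22, false), (26, 10, 7, true), (2, 10, 7, true), (33, 10, 7, true), (5, 10, 7, false), (8, 10, 7, true), (2, 10, 11, true), (30, 10, 7, false), (35, 10, 7, false), (16, 10, 22, false), (1, 10, 7, false), (3, 10, 7, false), (1, 10, 1, true)],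
  [(2, 11, 22, false), (19, 11, 7, true), (0, 11, 22, false), (1, 11, 17, false), (16, 11, 7, true), (0, 11, 21, true), (11, 11, 7, true), (36, 11, 22, false), (6, 11, 7, false), (17, 11, 7, true), (0, 11, 7, false), (42, 11, 1, true), (1, 11, 22, true), (0, 11, 6, true), (5, 11, 22, false), (26, 11, 7, true), (2, 11, 7, true), (33, 11, 7, true), (5, 11, 7, false), (8, 11, 7, true), (0, 11, 17, true), (30, 11, 7, false), (35, 11, 7, false), (16, 11, 22, false), (1, 11, 7, false), (3, 11, 7, false), (0, 11, 15, false)],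
  [(2, 12, 22, false), (19, 12, 7, true), (0, 12, 22, false), (2, 12, 21, true), (16, 12, 7, true), (0, 12, 21, true), (12, 12, 22, false), (36, 12, 22, false), (7, 12, 22, true), (18, 12, 22, false), (0, 12, 7, false), (22, 12, 7, false), (32, 12, 0, true), (0, 12, 6, true), (5, 12, 22, false), (27, 12, 22, false), (2, 12, 7, true), (33, 12, 7, true), (5, 12, 7, false), (8, 12, 7, true), (0, 12, 17, true), (31, 12, 22, true), (40, 12, 21, true), (16, 12, 22, false), (4, 12, 21, true), (4, 12, 22, true), (0, 12, 15, false)],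
  [(19, 13, 6, true), (19, 13, 7, true), (17, 13, 19, true), (16, 13, 6, true), (16, 13, 7, true), (16, 13, 8, true), (46, 13, 19, false), (36, 13, 22, false), (24, 13, 6, true), (17, 13, 7, true), (18, 13, 19, true), (22, 13, 7, false), (17, 13, 6, false), (7, 13, 0, true), (22, 13, 6, true), (26, 13, 7, true), (20, 13, 6, false), (33, 13, 7, true), (23, 13, 6, true), (25, 13, 6, false), (16, 13, 19, false), (30, 13, 7, false), (35, 13, 7, false), (16, 13, 22, false), (18, 13, 6, true), (21, 13, 6, true), (16, 13, 25, false)],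
  [(2, 14, 22, false), (19, 14, 7, true), (0, 14, 22, false), (1, 14, 17, false), (16, 14, 7, true), (0, 14, 21, true), (12, 14, 22, false), (36, 14, 22, false), (7, 14, 22, true), (17, 14, 7, true), (0, 14, 7, false), (23, 14, 22, true), (1, 14, 22, true), (0, 14, 6, true), (42, 14, 0, false), (26, 14, 7, true), (2, 14, 7, true), (34, 14, 22, false), (7, 14, 17, true), (9, 14, 22, false), (0, 14, 17, true), (31, 14, 22, true), (37, 14, 17, false), (16, 14, 22, false), (1, 14, 7, false), (3, 14, 7, false), (0, 14, 15, false)],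
  [(2, 15, 22, false), (19, 15, 7, true), (0, 15, 22, false), (1, 15, 17, false), (16, 15, 7, true), (0, 15, 21, true), (11, 15, 7, true), (36, 15, 22, false), (6, 15, 7, false), (17, 15, 7, true), (0, 15, 7, false), (22, 15, 7, false), (1, 15, 22, true), (0, 15, 6, true), (5, 15, 22, false), (63, 15, 0, false), (2, 15, 7, true), (33, 15, 7, true), (5, 15, 7, false), (8, 15, 7, true), (0, 15, 17, true), (30, 15, 7, false), (35, 15, 7, false), (16, 15, 22, false), (1, 15, 7, false), (3, 15, 7, false), (0, 15, 15, false)],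
  [(3, 16, 17, true), (19, 16, 7, true), (0, 16, 22, false), (1, 16, 17, false), (16, 16, 7, true), (0, 16, 21, true), (11, 16, 7, true), (38, 16, 17, true), (6, 16, 7, false), (17, 16, 7, true), (0, 16, 7, false), (22, 16, 7, false), (1, 16, 22, true), (0, 16, 6, true), (5, 16, 22, false), (26, 16, 7, true), (36, 16, 0, true), (33, 16, 7, true), (5, 16, 7, false), (8, 16, 7, true), (0, 16, 17, true), (30, 16, 7, false), (35, 16, 7, false), (16, 16, 22, false), (1, 16, 7, false), (3, 16, 7, false), (0, 16, 15, false)],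
  [(2, 17, 22, false), (19, 17, 7, true), (0, 17, 22, false), (1, 17, 17, false), (16, 17, 7, true), (0, 17, 21, true), (11, 17, 7, true), (36, 17, 22, false), (6, 17, 7, false), (17, 17, 7, true), (0, 17, 7, false), (22, 17, 7, false), (1, 17, 22, true), (0, 17, 6, true), (5, 17, 22, false), (26, 17, 7, true), (2, 17, 7, true), (68, 17, 0, true), (5, 17, 7, false), (8, 17, 7, true), (0, 17, 17, true), (30, 17, 7, false), (35, 17, 7, false), (16, 17, 22, false), (1, 17, 7, false), (3, 17, 7, false), (0, 17, 15, false)],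
  [(2, 18, 22, false), (19, 18, 7, true), (0, 18, 22, false), (1, 18, 17, false), (16, 18, 7, true), (0, 18, 21, true), (11, 18, 7, true), (38, 18, 17, true), (6, 18, 7, false), (17, 18, 7, true), (0, 18, 7, false), (22, 18, 7, false), (1, 18, 22, true), (0, 18, 6, true), (6, 18, 17, true), (26, 18, 7, true), (2, 18, 7, true), (33, 18, 7, true), (45, 18, 3, true), (8, 18, 7, true), (0, 18, 17, true), (30, 18, 7, false), (35, 18, 7, false), (16, 18, 22, false), (1, 18, 7, false), (3, 18, 7, false), (0, 18, 15, false)],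
  [(2, 19, 22, false), (19, 19, 7, true), (0, 19, 22, false), (1, 19, 17, false), (16, 19, 7, true), (0, 19, 21, true), (11, 19, 7, true), (36, 19, 22, false), (6, 19, 7, false), (17, 19, 7, true), (0, 19, 7, false), (22, 19, 7, false), (1, 19, 22, true), (0, 19, 6, true), (5, 19, 22, false), (26, 19, 7, true), (2, 19, 7, true), (33, 19, 7, true), (5, 19, 7, false), (45, 19, 0, false), (0, 19, 17, true), (30, 19, 7, false), (35, 19, 7, false), (16, 19, 22, false), (1, 19, 7, false), (3, 19, 7, false), (0, 19, 15, false)],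
  [(3, 20, 17, true), (21, 20, 17, true), (3, 20, 11, false), (1, 20, 17, false), (18, 20, 17, false), (1, 20, 11, true), (11, 20, 7, true), (36, 20, 22, false), (6, 20, 7, false), (17, 20, 7, true), (4, 20, 11, false), (24, 20, 17, false), (1, 20, 22, true), (1, 20, 19, false), (6, 20, 17, true), (26, 20, 7, true), (4, 20, 17, false), (47, 20, 11, false), (7, 20, 17, true), (10, 20, 17, true), (23, 20, 0, false), (30, 20, 7, false), (35, 20, 7, false), (17, 20, 17, true), (1, 20, 7, false), (3, 20, 7, false), (1, 20, 1, true)],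
  [(2, 21, 22, false), (19, 21, 7, true), (0, 21, 22, false), (1, 21, 17, false), (16, 21, 7, true), (0, 21, 21, true), (11, 21, 7, true), (36, 21, 22, false), (6, 21, 7, false), (17, 21, 7, true), (0, 21, 7, false), (22, 21, 7, false), (1, 21, 22, true), (0, 21, 6, true), (5, 21, 22, false), (26, 21, 7, true), (2, 21, 7, true), (33, 21, 7, true), (5, 21, 7, false), (8, 21, 7, true), (0, 21, 17, true), (69, 21, 3, true), (35, 21, 7, false), (16, 21, 22, false), (1, 21, 7, false), (3, 21, 7, false), (0, 21, 15, false)],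
  [(2, 22, 22, false), (19, 22, 7, true), (0, 22, 22, false), (1, 22, 17, false), (16, 22, 7, true), (0, 22, 21, true), (11, 22, 7, true), (36, 22, 22, false), (6, 22, 7, false), (17, 22, 7, true), (0, 22, 7, false), (22, 22, 7, false), (1, 22, 22, true), (0, 22, 6, true), (5, 22, 22, false), (26, 22, 7, true), (2, 22, 7, true), (33, 22, 7, true), (5, 22, 7, false), (8, 22, 7, true), (0, 22, 17, true), (30, 22, 7, false), (69, 22, 0, false), (16, 22, 22, false), (1, 22, 7, false), (3, 22, 7, false), (0, 22, 15, false)],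
  [(2, 23, 22, false), (20, 23, 22, false), (0, 23, 22, false), (1, 23, 17, false), (18, 23, 17, false), (0, 23, 21, true), (11, 23, 7, true), (36, 23, 22, false), (6, 23, 7, false), (18, 23, 22, false), (0, 23, 7, false), (23, 23, 22, true), (1, 23, 22, true), (0, 23, 6, true), (5, 23, 22, false), (27, 23, 22, false), (2, 23, 7, true), (34, 23, 22, false), (5, 23, 7, false), (8, 23, 7, true), (0, 23, 17, true), (31, 23, 22, true), (37, 23, 17, false), (57, 23, 0, true), (1, 23, 7, false), (3, 23, 7, false), (0, 23, 15, false)],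
  [(2, 24, 22, false), (19, 24, 7, true), (0, 24, 22, false), (2, 24, 21, true), (16, 24, 7, true), (0, 24, 21, true), (11, 24, 7, true), (41, 24, 21, false), (6, 24, 7, false), (17, 24, 7, true), (0, 24, 7, false), (22, 24, 7, false), (3, 24, 21, false), (0, 24, 6, true), (5, 24, 22, false), (26, 24, 7, true), (2, 24, 7, true), (33, 24, 7, true), (5, 24, 7, false), (8, 24, 7, true), (0, 24, 17, true), (30, 24, 7, false), (35, 24, 7, false), (16, 24, 22, false), (38, 24, 3, true), (3, 24, 7, false), (0, 24, 15, false)],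
  [(2, 25, 22, false), (19, 25, 7, true), (0, 25, 22, false), (1, 25, 17, false), (16, 25, 7, true), (0, 25, 21, true), (11, 25, 7, true), (36, 25, 22, false), (6, 25, 7, false), (17, 25, 7, true), (0, 25, 7, false), (22, 25, 7, false), (1, 25, 22, true), (0, 25, 6, true), (5, 25, 22, false), (26, 25, 7, true), (2, 25, 7, true), (33, 25, 7, true), (5, 25, 7, false), (8, 25, 7, true), (0, 25, 17, true), (30, 25, 7, false), (35, 25, 7, false), (16, 25, 22, false), (1, 25, 7, false), (38, 25, 0, false), (0, 25, 15, false)],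
  [(8, 26, 15, false), (25, 26, 15, false), (6, 26, 1, false), (5, 26, 15, false), (23, 26, 15, false), (5, 26, 9, true), (11, 26, 7, true), (36, 26, 22, false), (6, 26, 7, false), (24, 26, 15, false), (7, 26, 1, false), (22, 26, 7, false), (6, 26, 15, true), (5, 26, 25, true), (5, 26, 22, false), (46, 26, 1, false), (9, 26, 15, true), (33, 26, 7, true), (5, 26, 7, false), (8, 26, 7, true), (5, 26, 1, true), (30, 26, 7, false), (35, 26, 7, false), (22, 26, 15, true), (7, 26, 15, false), (10, 26, 15, false), (18, 26, 0, false)]]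

/-- The reference points. -/
def refTab : List (Fin 27) := [0, 0, 0, 0, 1, 2, 0, 1, 2, 1, 1, 1, 0, 0, 0, 0, 0, 0, 3, 0, 0, 3, 0, 0, 3, 0, 0]

/-- The order of the reduction, with the places from which the new weight can be reached. -/
def steps : List (Fin 27 × List (Fin 27)) := [
  (6, [13, 3, 12, 24, 0, 16, 25, 14, 18, 8, 19, 15, 21, 17, 22, 7, 26, 5, 20, 2, 10, 23, 4, 9, 1, 11]),
  (2, [26, 5, 20, 10, 23, 9, 1, 11, 4]),
  (4, []),
  (24, [3, 16, 18, 15, 21, 7, 17]),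
  (0, [14, 19, 22]),
  (11, []),
  (8, []),
  (1, [20, 23]),
  (3, []),
  (5, []),
  (25, []),
  (17, []),
  (12, [13]),
  (10, []),
  (14, []),
  (15, []),
  (18, []),
  (23, []),
  (7, []),
  (26, []),
  (19, []),
  (13, []),
  (9, []),
  (16, []),
  (22, []),
  (20, []),
  (21, [])]

/-- The model. -/
def tab : Tab chevE6 (Fin 27) 0 where
  idx := List.finRange 27
  A r := atab.getD r.val []
  H i := htab.getD i.val []
  U := []
  pe := Fin.elim0
  pf := Fin.elim0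
  root _ _ := (⟨0, by decide⟩, true)
  cent i j :=
    let e := (centTab.getD i.val []).getD j.val (0, i, j, true)
    (if h : e.1 < chevE6.nroots then ⟨e.1, h⟩ else ⟨0, by decide⟩, e.2.1, e.2.2.1, e.2.2.2)
  base := 0
  ref i := refTab.getD i.val 0
  moved := (2, 22)

/-- The fundamental roots and their negatives. -/
def basicTab : List (Fin chevE6.nroots) := [⟨56, by decide⟩, ⟨46, by decide⟩, ⟨42, by decide⟩, ⟨39, by decide⟩, ⟨37, by decide⟩, ⟨36, by decide⟩, ⟨15, by decide⟩, ⟨25, by decide⟩, ⟨29, by decide⟩, ⟨32, by decide⟩, ⟨34, by decide⟩, ⟨35, by decide⟩]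

/-- Root elements as commutators of earlier ones. -/
def commTab : List (Fin chevE6.nroots × Fin chevE6.nroots × Fin chevE6.nroots × Bool) := [(⟨14, by decide⟩, ⟨15, by decide⟩, ⟨29, by decide⟩, true),
  (⟨24, by decide⟩, ⟨25, by decide⟩, ⟨32, by decide⟩, true),
  (⟨28, by decide⟩, ⟨29, by decide⟩, ⟨32, by decide⟩, true),
  (⟨31, by decide⟩, ⟨32, by decide⟩, ⟨34, by decide⟩, true),
  (⟨33, by decide⟩, ⟨34, by decide⟩, ⟨35, by decide⟩, true),
  (⟨38, by decide⟩, ⟨36, by decide⟩, ⟨37, by decide⟩, true),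
  (⟨40, by decide⟩, ⟨37, by decide⟩, ⟨39, by decide⟩, true),
  (⟨43, by decide⟩, ⟨39, by decide⟩, ⟨42, by decide⟩, true),
  (⟨47, by decide⟩, ⟨39, by decide⟩, ⟨46, by decide⟩, true),
  (⟨57, by decide⟩, ⟨42, by decide⟩, ⟨56, by decide⟩, true),
  (⟨13, by decide⟩, ⟨14, by decide⟩, ⟨32, by decide⟩, true),
  (⟨21, by decide⟩, ⟨24, by decide⟩, ⟨29, by decide⟩, true),
  (⟨23, by decide⟩, ⟨24, by decide⟩, ⟨34, by decide⟩, true),
  (⟨27, by decide⟩, ⟨28, by decide⟩, ⟨34, by decide⟩, true),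
  (⟨30, by decide⟩, ⟨31, by decide⟩, ⟨35, by decide⟩, true),
  (⟨41, by decide⟩, ⟨36, by decide⟩, ⟨40, by decide⟩, true),
  (⟨44, by decide⟩, ⟨37, by decide⟩, ⟨43, by decide⟩, true),
  (⟨48, by decide⟩, ⟨37, by decide⟩, ⟨47, by decide⟩, true),
  (⟨50, by decide⟩, ⟨42, by decide⟩, ⟨47, by decide⟩, true),
  (⟨58, by decide⟩, ⟨39, by decide⟩, ⟨57, by decide⟩, true),
  (⟨10, by decide⟩, ⟨13, by decide⟩, ⟨25, by decide⟩, true),
  (⟨12, by decide⟩, ⟨13, by decide⟩, ⟨34, by decide⟩, true),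
  (⟨20, by decide⟩, ⟨21, by decide⟩, ⟨34, by decide⟩, true),
  (⟨22, by decide⟩, ⟨23, by decide⟩, ⟨35, by decide⟩, true),
  (⟨26, by decide⟩, ⟨27, by decide⟩, ⟨35, by decide⟩, true),
  (⟨45, by decide⟩, ⟨36, by decide⟩, ⟨44, by decide⟩, true),
  (⟨49, by decide⟩, ⟨36, by decide⟩, ⟨48, by decide⟩, true),
  (⟨51, by decide⟩, ⟨37, by decide⟩, ⟨50, by decide⟩, true),
  (⟨59, by decide⟩, ⟨37, by decide⟩, ⟨58, by decide⟩, true),
  (⟨61, by decide⟩, ⟨46, by decide⟩, ⟨58, by decide⟩, true),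
  (⟨9, by decide⟩, ⟨10, by decide⟩, ⟨34, by decide⟩, true),
  (⟨11, by decide⟩, ⟨12, by decide⟩, ⟨35, by decide⟩, true),
  (⟨18, by decide⟩, ⟨20, by decide⟩, ⟨32, by decide⟩, true),
  (⟨19, by decide⟩, ⟨20, by decide⟩, ⟨35, by decide⟩, true),
  (⟨52, by decide⟩, ⟨36, by decide⟩, ⟨51, by decide⟩, true),
  (⟨53, by decide⟩, ⟨39, by decide⟩, ⟨51, by decide⟩, true),
  (⟨60, by decide⟩, ⟨36, by decide⟩, ⟨59, by decide⟩, true),
  (⟨62, by decide⟩, ⟨37, by decide⟩, ⟨61, by decide⟩, true),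
  (⟨7, by decide⟩, ⟨9, by decide⟩, ⟨32, by decide⟩, true),
  (⟨8, by decide⟩, ⟨9, by decide⟩, ⟨35, by decide⟩, true),
  (⟨17, by decide⟩, ⟨18, by decide⟩, ⟨35, by decide⟩, true),
  (⟨54, by decide⟩, ⟨36, by decide⟩, ⟨53, by decide⟩, true),
  (⟨63, by decide⟩, ⟨36, by decide⟩, ⟨62, by decide⟩, true),
  (⟨64, by decide⟩, ⟨39, by decide⟩, ⟨62, by decide⟩, true),
  (⟨4, by decide⟩, ⟨7, by decide⟩, ⟨29, by decide⟩, true),
  (⟨6, by decide⟩, ⟨7, by decide⟩, ⟨35, by decide⟩, true),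
  (⟨16, by decide⟩, ⟨17, by decide⟩, ⟨34, by decide⟩, true),
  (⟨55, by decide⟩, ⟨37, by decide⟩, ⟨54, by decide⟩, true),
  (⟨65, by decide⟩, ⟨36, by decide⟩, ⟨64, by decide⟩, true),
  (⟨67, by decide⟩, ⟨42, by decide⟩, ⟨64, by decide⟩, true),
  (⟨3, by decide⟩, ⟨4, by decide⟩, ⟨35, by decide⟩, true),
  (⟨5, by decide⟩, ⟨6, by decide⟩, ⟨34, by decide⟩, true),
  (⟨66, by decide⟩, ⟨37, by decide⟩, ⟨65, by decide⟩, true),
  (⟨68, by decide⟩, ⟨36, by decide⟩, ⟨67, by decide⟩, true),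
  (⟨2, by decide⟩, ⟨3, by decide⟩, ⟨34, by decide⟩, true),
  (⟨69, by decide⟩, ⟨37, by decide⟩, ⟨68, by decide⟩, true),
  (⟨1, by decide⟩, ⟨2, by decide⟩, ⟨32, by decide⟩, true),
  (⟨70, by decide⟩, ⟨39, by decide⟩, ⟨69, by decide⟩, true),
  (⟨0, by decide⟩, ⟨1, by decide⟩, ⟨25, by decide⟩, true),
  (⟨71, by decide⟩, ⟨46, by decide⟩, ⟨70, by decide⟩, true)]

end CfsgLib.ChevClassical.E6
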