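/-
The compatibility check for the fundamental root elements in the 27-dimensional model of `E₆`.
-/
import Cfsg.Agent.Lib.ChevClassical.DataE6

set_option autoImplicit false
set_option maxRecDepth 100000
set_option maxHeartbeats 4000000

namespace CfsgLib.ChevClassical.E6

open Cfsg Cfsg.Lie

/-- The image of a column of `x_r(t)` in matrices. -/
def adjRhs (r : Fin chevE6.nroots) (c : chevE6.Idx) : List (Ent (Fin 27)) :=
  tab.psi c ++ mul (tab.A r) (tab.psi c) ++ scale (-1) 0 (mul (tab.psi c) (tab.A r)) ++
    scale (-1) 0 (mul (mul (tab.A r) (tab.psi c)) (tab.A r))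

/-- All coordinates of the adjoint module. -/
def allIdx : List chevE6.Idx :=
  (List.finRange chevE6.rank).map Sum.inl ++ (List.finRange chevE6.nroots).map Sum.inr

theorem mem_allIdx (c : chevE6.Idx) : c ∈ allIdx := by
  rcases c with i | r <;> simp [allIdx]

theorem adj_all : basicTab.all (fun r => allIdx.all fun c =>
    isZero (tab.lhs r c ++ scale (-1) 0 (adjRhs r c))) = true := by decide +kernel

theorem adj_basic (r : Fin chevE6.nroots) (hr : r ∈ basicTab) (c : chevE6.Idx) :
    isZero (tab.lhs r c ++ scale (-1) 0 (adjRhs r c)) = true :=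
  List.all_eq_true.1 (List.all_eq_true.1 adj_all r hr) c (mem_allIdx c)

end CfsgLib.ChevClassical.E6
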