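/-
The 27-dimensional model of the Chevalley group of type `E₆`: the root elements, their compatibility with the
adjoint group, and the recognition of scalars.
-/
import Cfsg.Agent.Lib.ChevClassical.E6Adj
import Cfsg.Agent.Lib.Chev.SimpleGen

set_option autoImplicit false
set_option maxRecDepth 100000
set_option maxHeartbeats 4000000

namespace CfsgLib.ChevClassical.E6

open Cfsg Cfsg.Lie Matrix

theorem sq_all : (List.finRange chevE6.nroots).all
    (fun r => isZero (mul (tab.A r) (tab.A r))) = true := by decide +kernel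

theorem sq_zero (r : Fin chevE6.nroots) : isZero (mul (tab.A r) (tab.A r)) = true :=
  List.all_eq_true.1 sq_all r (List.mem_finRange r)

theorem deg_all : (List.finRange chevE6.nroots).all (fun r => (tab.A r).all fun e => Nat.beq e.1 1) = true ∧
    allIdx.all (fun c => (tab.psi c).all fun e => Nat.beq e.1 0) = true := by decide +kernel

theorem deg_psi (c : chevE6.Idx) : ∀ e ∈ tab.psi c, e.1 = 0 := fun e he =>
  Nat.eq_of_beq_eq_true (List.all_eq_true.1 (List.all_eq_true.1 deg_all.2 c (mem_allIdx c)) e he)

theorem deg_A (r : Fin chevE6.nroots) : ∀ e ∈ tab.A r, e.1 = 1 := fun e he =>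
  Nat.eq_of_beq_eq_true (List.all_eq_true.1 (List.all_eq_true.1 deg_all.1 r (List.mem_finRange r)) e he)

/-- The linear coefficient of a commutator of root elements, against the claimed value. -/
def commOne (q : Fin chevE6.nroots × Fin chevE6.nroots × Fin chevE6.nroots × Bool) : List (Ent (Fin 27)) :=
  mul (tab.A q.2.1) (tab.X q.2.2.1) ++ scale (-1) 0 (mul (tab.X q.2.2.1) (tab.A q.2.1)) ++
    mul (mul (tab.X q.2.2.1) (tab.A q.2.1)) (tab.X q.2.2.1) ++ scale (-(sgn q.2.2.2)) 0 (tab.A q.1)

/-- The quadratic coefficient of a commutator of root elements. -/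
def commTwo (q : Fin chevE6.nroots × Fin chevE6.nroots × Fin chevE6.nroots × Bool) : List (Ent (Fin 27)) :=
  mul (mul (mul (tab.A q.2.1) (tab.X q.2.2.1)) (tab.A q.2.1)) (tab.X q.2.2.1) ++
    scale (-1) 0 (mul (mul (tab.A q.2.1) (tab.X q.2.2.1)) (tab.A q.2.1))

theorem comm_all : commTab.all (fun q => isZero (commOne q) && isZero (commTwo q)) = true := by decide +kernel

theorem comm_ok (q) (hq : q ∈ commTab) : isZero (commOne q) = true ∧ isZero (commTwo q) = true :=
  Bool.and_eq_true_iff.1 (List.all_eq_true.1 comm_all q hq)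

/-- Is every root known after the basic ones and those of the list? -/
def covers : List (Fin chevE6.nroots) → List (Fin chevE6.nroots × Fin chevE6.nroots × Fin chevE6.nroots × Bool) → Bool
  | known, [] => (List.finRange chevE6.nroots).all fun r => known.contains r
  | known, q :: l => known.contains q.2.1 && known.contains q.2.2.1 && covers (q.1 :: known) l

theorem covers_ok : covers basicTab commTab = true := by decide +kernel

theorem basic_all : (List.finRange chevE6.rank).all (fun i =>
    basicTab.any (fun r => Nat.beq r.val (chevE6.simple i)) &&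
    basicTab.any (fun r => Nat.beq r.rev.val (chevE6.simple i))) = true := by decide +kernel

theorem basic_ok (i : Fin chevE6.rank) (h : chevE6.simple i < chevE6.nroots) :
    (⟨chevE6.simple i, h⟩ : Fin chevE6.nroots) ∈ basicTab ∧
      (⟨chevE6.simple i, h⟩ : Fin chevE6.nroots).rev ∈ basicTab := by
  obtain ⟨h1, h2⟩ := Bool.and_eq_true_iff.1 (List.all_eq_true.1 basic_all i (List.mem_finRange i))
  obtain ⟨r, hr, e⟩ := List.any_eq_true.1 h1
  obtain ⟨r', hr', e'⟩ := List.any_eq_true.1 h2
  refine ⟨?_, ?_⟩
  · rwa [show (⟨chevE6.simple i, h⟩ : Fin chevE6.nroots) = r from Fin.ext (Nat.eq_of_beq_eq_true e).symm]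
  · rwa [show (⟨chevE6.simple i, h⟩ : Fin chevE6.nroots) = r'.rev from
      Fin.ext (Nat.eq_of_beq_eq_true e').symm, Fin.rev_rev]

theorem cent_all : (List.finRange 27).all (fun i => (List.finRange 27).all fun j =>
    ((i == j) && (i == tab.base)) ||
      isZero (tab.form (tab.cent i j).1 (tab.cent i j).2.1 (tab.cent i j).2.2.1 ++
        scale (sgn (tab.cent i j).2.2.2) 0 (tab.centRhs i j))) = true := by decide +kernel

theorem centOK (i j : Fin 27) (hij : i = j → i ≠ tab.base) :
    isZero (tab.form (tab.cent i j).1 (tab.cent i j).2.1 (tab.cent i j).2.2.1 ++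
      scale (sgn (tab.cent i j).2.2.2) 0 (tab.centRhs i j)) = true := by
  rcases Bool.or_eq_true_iff.1
    (List.all_eq_true.1 (List.all_eq_true.1 cent_all i (List.mem_finRange i)) j (List.mem_finRange j)) with h | h
  · rw [Bool.and_eq_true_iff, beq_iff_eq, beq_iff_eq] at h
    exact absurd h.2 (hij h.1)
  · exact h

theorem refOK : ∀ i, tab.ref (tab.ref i) = tab.base := by decide +kernel

theorem movedNe : tab.moved.1 ≠ tab.moved.2 := by decide +kernel

theorem movedOK : ((tab.A ⟨0, by decide⟩).filter fun e => e.2.1 == tab.moved.1 && e.2.2.1 == tab.moved.2).map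
    (fun e => e.2.2.2) ∈ [[1], [-1]] := by decide +kernel

section

variable (F : Type*) [Field F]

theorem eval_one (t : F) : eval t tab.one = 1 := by
  have h : ∀ l : List (Fin 27), l.Nodup →
      eval t (l.map fun i => ((0, i, i, 1) : Ent (Fin 27))) =
        Matrix.diagonal fun i => if i ∈ l then (1 : F) else 0 := by
    intro l hl
    induction l with
    | nil => simp
    | cons a l ih =>
      rw [List.nodup_cons] at hl
      rw [List.map_cons, eval_cons, ih hl.2]
      ext x y
      by_cases hxy : x = y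
      · subst hxy
        by_cases hxa : x = a
        · subst hxa; simp [hl.1]
        · simp [hxa, Matrix.single, Ne.symm hxa]
      · simp [hxy, Matrix.single]
        rintro rfl; exact hxy
  rw [Tab.one, show tab.idx = List.finRange 27 from rfl, h _ (List.nodup_finRange 27)]
  simp

/-- The nilpotent part at parameter `1`. -/
noncomputable def N (r : Fin chevE6.nroots) : Matrix (Fin 27) (Fin 27) F := eval (1 : F) (tab.A r)

theorem eval_deg_one {L : List (Ent (Fin 27))} (h : ∀ e ∈ L, e.1 = 1) (t : F) :
    eval t L = t • eval (1 : F) L := by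
  induction L with
  | nil => simp
  | cons e L ih =>
    rw [eval_cons, eval_cons, ih fun e' he' => h e' (by simp [he']), smul_add, h e (by simp),
      Matrix.smul_single, smul_eq_mul]
    simp [mul_comm]

theorem eval_A (t : F) (r : Fin chevE6.nroots) : eval t (tab.A r) = t • N F r :=
  eval_deg_one F (deg_A r) t

theorem N_sq (r : Fin chevE6.nroots) : N F r * N F r = 0 := by
  have := eval_of_isZero (1 : F) (sq_zero r)
  rwa [eval_mul] at this

/-- The root element. -/
noncomputable def y (r : Fin chevE6.nroots) (t : F) : GL (Fin 27) F where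
  val := 1 + t • N F r
  inv := 1 + (-t) • N F r
  val_inv := by
    simp only [add_mul, mul_add, one_mul, mul_one, smul_mul_assoc, mul_smul_comm, N_sq, smul_zero,
      add_zero]
    rw [neg_smul]; abel
  inv_val := by
    simp only [add_mul, mul_add, one_mul, mul_one, smul_mul_assoc, mul_smul_comm, N_sq, smul_zero,
      add_zero]
    rw [neg_smul]; abel

theorem y_val (r : Fin chevE6.nroots) (t : F) : (y F r t : Matrix (Fin 27) (Fin 27) F) = 1 + t • N F r := rfl

theorem y_inv_val (r : Fin chevE6.nroots) (t : F) :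
    ((y F r t)⁻¹ : GL (Fin 27) F).val = 1 + (-t) • N F r := rfl

theorem y_inv (r : Fin chevE6.nroots) (t : F) : (y F r t)⁻¹ = y F r (-t) := Units.ext rfl

/-- The group generated by the root elements. -/
noncomputable def Em : Subgroup (GL (Fin 27) F) := Subgroup.closure {g | ∃ r t, g = y F r t}

theorem y_mem (r : Fin chevE6.nroots) (t : F) : y F r t ∈ Em F := Subgroup.subset_closure ⟨r, t, rfl⟩

/-- The group generated by the fundamental root elements and their negatives. -/
noncomputable def Eb : Subgroup (GL (Fin 27) F) :=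
  Subgroup.closure {g | ∃ r ∈ basicTab, ∃ t, g = y F r t}

theorem eval_X (t : F) (r : Fin chevE6.nroots) : eval t (tab.X r) = N F r := by
  have h : ∀ L : List (Ent (Fin 27)), (∀ e ∈ L, e.1 = 1) →
      eval t ((L.filter fun e => e.1 == 1).map fun e => ((0, e.2.1, e.2.2.1, e.2.2.2) : Ent (Fin 27))) =
        eval (1 : F) L := by
    intro L hL
    induction L with
    | nil => simp
    | cons e L ih =>
      rw [List.filter_cons, if_pos (by simp [hL e (by simp)]), List.map_cons, eval_cons, eval_cons,
        ih fun e' he' => hL e' (by simp [he'])]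
      simp
  exact h _ (deg_A r)

theorem comm_eq {q : Fin chevE6.nroots × Fin chevE6.nroots × Fin chevE6.nroots × Bool} (hq : q ∈ commTab)
    (t : F) : y F q.2.1 t * y F q.2.2.1 1 * (y F q.2.1 (-t) * y F q.2.2.1 (-1)) =
      y F q.1 ((sgn q.2.2.2 : ℤ) * t) := by
  obtain ⟨h1, h2⟩ := comm_ok q hq
  have e1 := eval_of_isZero (1 : F) h1
  have e2 := eval_of_isZero (1 : F) h2
  simp only [commOne, commTwo, eval_append, eval_mul, eval_scale, eval_X, pow_zero, mul_one,
    Int.cast_neg, Int.cast_one, neg_smul, one_smul] at e1 e2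
  refine Units.ext ?_
  simp only [Units.val_mul, y_val, one_smul]
  set A := N F q.2.1 with hA
  set B := N F q.2.2.1 with hB
  set C := N F q.1 with hC
  rw [show eval (1 : F) (tab.A q.2.1) = A from rfl, show eval (1 : F) (tab.A q.1) = C from rfl] at e1
  rw [show eval (1 : F) (tab.A q.2.1) = A from rfl] at e2
  have hA2 : A * A = 0 := N_sq F _
  have hB2 : B * B = 0 := N_sq F _
  have hA3 : ∀ Z, A * (A * Z) = 0 := fun Z => by rw [← mul_assoc, hA2, zero_mul]
  have hB3 : ∀ Z, B * (B * Z) = 0 := fun Z => by rw [← mul_assoc, hB2, zero_mul]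
  have e : (1 + t • A) * (1 + B) * ((1 + (-t) • A) * (1 + (-1 : F) • B)) =
      1 + t • (A * B - B * A + B * A * B) + (t * t) • (A * B * A * B - A * B * A) := by
    simp only [neg_smul, one_smul, mul_add, add_mul, mul_neg, neg_mul, mul_one, one_mul, smul_mul_assoc,
      mul_smul_comm, smul_smul, smul_add, smul_neg, neg_neg, smul_sub, mul_assoc, hA2, hB2, hA3, hB3,
      mul_zero, zero_mul, smul_zero, neg_zero, add_zero, zero_add]
    abel
  rw [e, show A * B - B * A + B * A * B = ((sgn q.2.2.2 : ℤ) : F) • C from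
      eq_of_sub_eq_zero (by rw [← e1]; abel),
    show A * B * A * B - A * B * A = 0 by rw [← e2]; abel, smul_zero, add_zero, smul_smul, mul_comm]

theorem y_mem_Eb (r : Fin chevE6.nroots) (t : F) : y F r t ∈ Eb F := by
  have key : ∀ (l : List (Fin chevE6.nroots × Fin chevE6.nroots × Fin chevE6.nroots × Bool))
      (known : List (Fin chevE6.nroots)), (∀ q ∈ l, q ∈ commTab) →
      (∀ r ∈ known, ∀ t : F, y F r t ∈ Eb F) → covers known l = true → ∀ r (t : F), y F r t ∈ Eb F := by
    intro l
    induction l with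
    | nil =>
      intro known _ hk hc r t
      rw [covers] at hc
      exact hk r (by simpa using List.all_eq_true.1 hc r (List.mem_finRange r)) t
    | cons q l ih =>
      intro known hl hk hc
      rw [covers, Bool.and_eq_true, Bool.and_eq_true] at hc
      refine ih (q.1 :: known) (fun p hp => hl p (by simp [hp])) ?_ hc.2
      intro r hr t
      rcases List.mem_cons.1 hr with rfl | hr
      · have h1 := hk q.2.1 (by simpa using hc.1.1)
        have h2 := hk q.2.2.1 (by simpa using hc.1.2)
        have e : ((sgn q.2.2.2 : ℤ) : F) * ((sgn q.2.2.2 : ℤ) * t) = t := by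
          cases q.2.2.2 <;> simp [sgn]
        rw [← e, ← comm_eq F (hl q (by simp))]
        exact mul_mem (mul_mem (h1 _) (h2 _)) (mul_mem (h1 _) (h2 _))
      · exact hk r hr t
  exact key commTab basicTab (fun q hq => hq)
    (fun r hr t => Subgroup.subset_closure ⟨r, hr, t, rfl⟩) covers_ok r t

theorem psiM_eq (t : F) (c : chevE6.Idx) : Tab.psiM tab F c = eval t (tab.psi c) :=
  eval_deg_zero _ (deg_psi c) t

theorem lhs_eval (t : F) (r : Fin chevE6.nroots) (c : chevE6.Idx) :
    eval t (tab.lhs r c) = ∑ row, chevE6.xMat F r t row c • Tab.psiM tab F row := by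
  have hp : ∀ c, eval t (tab.psi c) = Tab.psiM tab F c := fun c => (psiM_eq F t c).symm
  have hH : ∀ i, eval t (tab.H i) = Tab.psiM tab F (Sum.inl i) := fun i => hp (Sum.inl i)
  have hX : ∀ s, eval t (tab.X s) = Tab.psiM tab F (Sum.inr s) := fun s => hp (Sum.inr s)
  rw [Fintype.sum_sum_type]
  rcases c with i | s
  · simp [Tab.lhs, ChevalleyDatum.xMat, eval_scale, hH, hX, ite_smul]
  · by_cases h1 : s = r
    · subst h1
      simp [Tab.lhs, ChevalleyDatum.xMat, hX, ite_smul]
    by_cases h2 : s.val = chevE6.negIdx.getD r.val 0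
    · rw [Tab.lhs, if_neg h1, if_pos h2, eval_append, eval_append, eval_flatMap, eval_scale, hX, hX]
      simp only [ChevalleyDatum.xMat, Matrix.of_apply, if_neg h1, if_pos h2, eval_scale, hH]
      rw [← Fin.sum_univ_def]
      have : ∀ u : Fin chevE6.nroots,
          ((if u = s then (1 : F) else if u = r then -(t ^ 2) else 0) • Tab.psiM tab F (Sum.inr u)) =
          (if u = s then Tab.psiM tab F (Sum.inr u) else 0) +
            (if u = r then (-(t ^ 2)) • Tab.psiM tab F (Sum.inr u) else 0) := fun u => by
        by_cases e1 : u = s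
        · subst e1; simp [h1]
        · simp [e1, ite_smul]
      simp only [this, Finset.sum_add_distrib, Finset.sum_ite_eq', Finset.mem_univ, if_true]
      simp only [pow_one, Int.cast_neg, Int.cast_one, neg_mul, one_mul]
      abel
    · rw [Tab.lhs, if_neg h1, if_neg h2, eval_append, eval_flatMap, hX]
      simp only [ChevalleyDatum.xMat, Matrix.of_apply, if_neg h1, if_neg h2, zero_smul,
        Finset.sum_const_zero, zero_add, add_smul, Finset.sum_add_distrib, ite_smul, one_smul,
        Finset.sum_ite_eq', Finset.mem_univ, if_true]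
      rw [← Fin.sum_univ_def]
      congr 1
      refine Finset.sum_congr rfl fun u _ => ?_
      rw [eval_flatMap, List.sum_smul, List.map_map]
      congr 1
      refine List.map_congr_left fun km _ => ?_
      simp [eval_scale, hX]

theorem compat_y {r : Fin chevE6.nroots} (hr : r ∈ basicTab) (t : F) (x : GL chevE6.Idx F)
    (hx : (x : Matrix chevE6.Idx chevE6.Idx F) = chevE6.xMat F r t) :
    Tab.Compat (T := tab) F x (y F r t) := by
  intro v
  have key : ∀ c, (∑ row, chevE6.xMat F r t row c • Tab.psiM tab F row) =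
      (y F r t : Matrix (Fin 27) (Fin 27) F) * Tab.psiM tab F c * ((y F r t)⁻¹ : GL (Fin 27) F).val := fun c => by
    rw [← lhs_eval F t r c, eval_eq_of_isZero t (adj_basic r hr c), adjRhs, y_val, y_inv_val,
      psiM_eq F t c]
    simp only [eval_append, eval_mul, eval_scale, eval_A, pow_zero, mul_one, Int.cast_neg, Int.cast_one,
      add_mul, mul_add, one_mul, smul_mul_assoc, mul_smul_comm]
    module
  rw [hx, Tab.L_apply, Tab.L_apply, Finset.mul_sum, Finset.sum_mul]
  simp only [Matrix.mulVec, dotProduct, Finset.sum_smul, Matrix.mul_smul, Matrix.smul_mul, ← key,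
    Finset.smul_sum, smul_smul]
  rw [Finset.sum_comm]
  exact Finset.sum_congr rfl fun c _ => Finset.sum_congr rfl fun row _ => by rw [mul_comm]

theorem exists_y (g : GL chevE6.Idx F) (hg : g ∈ chevE6.group F) :
    ∃ h ∈ Em F, Tab.Compat (T := tab) F g h := by
  obtain ⟨Φ⟩ := CfsgLib.Chev.exists_chev (D := chevE6) (by simp)
  let M : Subgroup (GL chevE6.Idx F) :=
    { carrier := {g | ∃ h ∈ Em F, Tab.Compat (T := tab) F g h}
      mul_mem' := fun {a b} ⟨a', ha', ca⟩ ⟨b', hb', cb⟩ => ⟨a' * b', mul_mem ha' hb', ca.mul F cb⟩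
      one_mem' := ⟨1, one_mem _, Tab.compat_one F⟩
      inv_mem' := fun {a} ⟨a', ha', ca⟩ => ⟨a'⁻¹, inv_mem ha', ca.inv F⟩ }
  refine (Φ.group_le_of_fundamental (M := M) ?_) hg
  intro i t
  have hlt : chevE6.simple i < chevE6.nroots := by rw [Φ.simple_val i]; exact (Φ.p i).isLt
  have e : (⟨chevE6.simple i, hlt⟩ : Fin chevE6.nroots) = Φ.p i := Fin.ext (Φ.simple_val i)
  obtain ⟨hb, hb'⟩ := basic_ok i hlt
  rw [e] at hb hb'
  have hm : ∀ r ∈ basicTab, Φ.toAlg.xg r t ∈ M := fun r hr =>
    ⟨_, y_mem F r t, compat_y F hr t _ (by rw [Φ.xg_val]; exact (Φ.xMat_eq F r t).symm)⟩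
  exact ⟨hm _ hb, hm _ hb'⟩

theorem exists_x (h : GL (Fin 27) F) (hh : h ∈ Em F) :
    ∃ g ∈ chevE6.group F, Tab.Compat (T := tab) F g h := by
  obtain ⟨Φ⟩ := CfsgLib.Chev.exists_chev (D := chevE6) (by simp)
  have hle : Em F ≤ Eb F := (Subgroup.closure_le _).2 fun g ⟨r, t, e⟩ => e ▸ y_mem_Eb F r t
  have hh' := hle hh
  clear hh hle
  induction hh' using Subgroup.closure_induction with
  | one => exact ⟨1, one_mem _, Tab.compat_one F⟩
  | mul a b _ _ ha hb =>
    obtain ⟨a', ha', ca⟩ := ha
    obtain ⟨b', hb', cb⟩ := hb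
    exact ⟨a' * b', mul_mem ha' hb', ca.mul F cb⟩
  | inv a _ ha =>
    obtain ⟨a', ha', ca⟩ := ha
    exact ⟨a'⁻¹, inv_mem ha', ca.inv F⟩
  | mem g hg =>
    obtain ⟨r, hr, t, rfl⟩ := hg
    have hx : (Φ.toAlg.xg r t : Matrix chevE6.Idx chevE6.Idx F) = chevE6.xMat F r t := by
      rw [Φ.xg_val]; exact (Φ.xMat_eq F r t).symm
    exact ⟨_, Subgroup.subset_closure ⟨r, t, hx⟩, compat_y F hr t _ hx⟩

/-- Only scalars act trivially. -/
theorem scalar_of_trivial {g : GL (Fin 27) F} (h : Tab.Compat (T := tab) F 1 g) :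
    ∃ c : F, (g : Matrix (Fin 27) (Fin 27) F) = c • 1 := by
  let T := tab
  have hc : ∀ r : Fin chevE6.nroots, (g : Matrix (Fin 27) (Fin 27) F) * eval (1 : F) (T.X r) =
      eval (1 : F) (T.X r) * (g : Matrix (Fin 27) (Fin 27) F) := by
    intro r
    have := h (Pi.single (Sum.inr r) 1)
    rw [Units.val_one, Matrix.one_mulVec, Tab.L_single] at this
    have h2 : Tab.psiM tab F (Sum.inr r) = eval (1 : F) (T.X r) := rfl
    rw [h2] at this
    conv_rhs => rw [this]
    simp [mul_assoc]
  have hφ : ∀ r p q, ((T.form r p q).map fun e =>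
      (e.2.2.2 : F) * (1 : F) ^ e.1 * (g : Matrix (Fin 27) (Fin 27) F) e.2.1 e.2.2.1).sum = 0 := by
    intro r p q
    have h1 : ∀ M : List (Ent (Fin 27)), ((g : Matrix (Fin 27) (Fin 27) F) * eval (1 : F) M) p q =
        ((M.filter fun e => e.2.2.1 == q).map fun e =>
          (e.2.2.2 : F) * (g : Matrix (Fin 27) (Fin 27) F) p e.2.1).sum := by
      intro M
      induction M with
      | nil => simp
      | cons e M ih =>
        rw [eval_cons, mul_add, Matrix.add_apply, ih, List.filter_cons]
        by_cases hq : e.2.2.1 = q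
        · subst hq; simp [mul_comm]
        · simp [hq, Matrix.mul_single_apply_of_ne _ _ _ _ _ (Ne.symm hq)]
    have h2 : ∀ M : List (Ent (Fin 27)), (eval (1 : F) M * (g : Matrix (Fin 27) (Fin 27) F)) p q =
        ((M.filter fun e => e.2.1 == p).map fun e =>
          (e.2.2.2 : F) * (g : Matrix (Fin 27) (Fin 27) F) e.2.2.1 q).sum := by
      intro M
      induction M with
      | nil => simp
      | cons e M ih =>
        rw [eval_cons, add_mul, Matrix.add_apply, ih, List.filter_cons]
        by_cases hq : e.2.1 = p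
        · subst hq; simp
        · simp [hq, Matrix.single_mul_apply_of_ne _ _ _ _ _ (Ne.symm hq)]
    rw [Tab.form, List.map_append, List.sum_append, List.map_map, List.map_map]
    have := congrFun (congrFun (hc r) p) q
    rw [h1, h2] at this
    simp only [Function.comp_def, Int.cast_neg, one_pow, mul_one, pow_zero]
    rw [this]
    simp [← List.sum_map_add, neg_mul]
  have hrhs : ∀ i j, (i = j → i ≠ T.base) → (((T.centRhs i j).map fun e =>
      (e.2.2.2 : F) * (1 : F) ^ e.1 * (g : Matrix (Fin 27) (Fin 27) F) e.2.1 e.2.2.1).sum) = 0 := by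
    intro i j hij
    have hz := eval_of_isZero (1 : F) (centOK i j hij)
    have := eval_apply_sum (1 : F) (T.form (T.cent i j).1 (T.cent i j).2.1 (T.cent i j).2.2.1 ++
      scale (sgn (T.cent i j).2.2.2) 0 (T.centRhs i j)) (g : Matrix (Fin 27) (Fin 27) F)
    rw [hz, List.map_append, List.sum_append, hφ, zero_add] at this
    simp only [Matrix.zero_apply, zero_mul, Finset.sum_const_zero, scale, List.map_map,
      Function.comp_def] at this
    have e : ∀ b, ((sgn b : ℤ) : F) * ((sgn b : ℤ) : F) = 1 := fun b => by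
      cases b <;> simp [sgn]
    have h3 := congrArg (fun z => ((sgn (T.cent i j).2.2.2 : ℤ) : F) * z) this.symm
    simp only [mul_zero, ← List.sum_map_mul_left, one_pow, mul_one, Int.cast_mul,
      ← mul_assoc, e, one_mul] at h3
    simpa using h3
  refine ⟨(g : Matrix (Fin 27) (Fin 27) F) T.base T.base, Matrix.ext fun i j => ?_⟩
  rcases eq_or_ne i j with rfl | hij
  · have step : ∀ k, k ≠ T.base →
        (g : Matrix (Fin 27) (Fin 27) F) k k = (g : Matrix (Fin 27) (Fin 27) F) (T.ref k) (T.ref k) := fun k hk => by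
      have := hrhs k k (fun _ => hk)
      simp [Tab.centRhs] at this
      linear_combination -this
    suffices h : (g : Matrix (Fin 27) (Fin 27) F) i i = (g : Matrix (Fin 27) (Fin 27) F) T.base T.base by simp [h]
    by_cases hb : i = T.base
    · rw [hb]
    rw [step i hb]
    by_cases hb' : T.ref i = T.base
    · rw [hb']
    rw [step _ hb', refOK]
  · have := hrhs i j (fun e => absurd e hij)
    simp [Tab.centRhs, hij] at this
    simp [hij, this]

end

end CfsgLib.ChevClassical.E6
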