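/-
The cubic form on the 27-dimensional model of `E₆` and its polarisations.
-/
import Cfsg.Agent.Lib.ChevClassical.E6Model

set_option autoImplicit false
set_option maxRecDepth 100000
set_option maxHeartbeats 4000000

namespace CfsgLib.ChevClassical.E6

open Cfsg Cfsg.Lie Matrix

/-- Monomial entries. -/
abbrev Mon : Type := Fin 27 × Fin 27 × Fin 27 × ℤ

/-- A term: degree, three coordinates, coefficient. -/
abbrev Term : Type := ℕ × (Fin 27 × Fin 27 × Fin 27) × ℤ

/-- The linear form giving a coordinate of `y_r(t) v`, as degree, coordinate, coefficient. -/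
def rowL (r : Fin chevE6.nroots) (a : Fin 27) : List (ℕ × Fin 27 × ℤ) :=
  (0, a, 1) :: ((tab.A r).filter fun e => Nat.beq e.2.1.val a.val).map fun e => (1, e.2.2.1, e.2.2.2)

/-- Order two coordinates. -/
def sort2 (a b : Fin 27) : Fin 27 × Fin 27 := bif Nat.ble a.val b.val then (a, b) else (b, a)

/-- Order three coordinates. -/
def sort3 (a b c : Fin 27) : Fin 27 × Fin 27 × Fin 27 :=
  let p := sort2 a b
  let q := sort2 p.2 c
  let u := sort2 p.1 q.1
  (u.1, u.2, q.2)

/-- The terms of a monomial at `y_r(t) v`, but the first, which is the monomial at `v`. -/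
def expand (r : Fin chevE6.nroots) (m : Mon) : List Term :=
  ((rowL r m.1).flatMap fun p => (rowL r m.2.1).flatMap fun q => (rowL r m.2.2.1).map fun u =>
    ((p.1 + q.1 + u.1, sort3 p.2.1 q.2.1 u.2.1, m.2.2.2 * (p.2.2 * q.2.2 * u.2.2)) : Term)).tail

/-- The same coordinates and degree? -/
def sameKey (a e : Term) : Bool :=
  Nat.beq a.1 e.1 && Nat.beq a.2.1.1.val e.2.1.1.val && Nat.beq a.2.1.2.1.val e.2.1.2.1.val &&
    Nat.beq a.2.1.2.2.val e.2.1.2.2.val

/-- Insert, merging equal keys. -/
def insT (e : Term) : List Term → List Term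
  | [] => [e]
  | a :: r => bif sameKey a e then (a.1, a.2.1, a.2.2 + e.2.2) :: r else a :: insT e r

/-- The zero test. -/
def zeroT (L : List Term) : Bool := (L.foldr insT []).all fun e => e.2.2 == 0

/-- The change of the form under a root element. -/
def diffT (r : Fin chevE6.nroots) : List Term := mons.flatMap (expand r)

theorem diff_all : (List.finRange chevE6.nroots).all (fun r => zeroT (diffT r)) = true := by decide +kernel

theorem distinct_all : mons.all (fun m => !(Nat.beq m.1.val m.2.1.val) && !(Nat.beq m.1.val m.2.2.1.val) &&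
    !(Nat.beq m.2.1.val m.2.2.1.val)) = true := by decide +kernel

/-- The pairs completing a coordinate to a monomial. -/
def pat (f : Fin 27) : List (Fin 27 × Fin 27 × ℤ) :=
  mons.flatMap fun m =>
    (if f = m.1 then [(m.2.1, m.2.2.1, m.2.2.2), (m.2.2.1, m.2.1, m.2.2.2)] else []) ++
    (if f = m.2.1 then [(m.1, m.2.2.1, m.2.2.2), (m.2.2.1, m.1, m.2.2.2)] else []) ++
    (if f = m.2.2.1 then [(m.1, m.2.1, m.2.2.2), (m.2.1, m.1, m.2.2.2)] else [])

/-- The completions of two coordinates to a monomial. -/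
def third (f t : Fin 27) : List (Fin 27 × ℤ) :=
  ((pat f).filter fun p => Nat.beq p.2.1.val t.val).map fun p => (p.1, p.2.2)

/-- The pairs of the gradient at a coordinate. -/
def grad (t : Fin 27) : List (Fin 27 × Fin 27 × ℤ) :=
  mons.flatMap fun m =>
    (if t = m.1 then [(m.2.1, m.2.2.1, m.2.2.2)] else []) ++
    (if t = m.2.1 then [(m.1, m.2.2.1, m.2.2.2)] else []) ++
    (if t = m.2.2.1 then [(m.1, m.2.1, m.2.2.2)] else [])

section

variable {F : Type*} [Field F]

/-- A monomial at a vector. -/
def mval (v : Fin 27 → F) (m : Mon) : F := (m.2.2.2 : F) * v m.1 * v m.2.1 * v m.2.2.1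

/-- The cubic form. -/
def T27 (v : Fin 27 → F) : F := (mons.map (mval v)).sum

/-- A term at a vector. -/
def tval (t : F) (v : Fin 27 → F) (e : Term) : F :=
  (e.2.2 : F) * t ^ e.1 * v e.2.1.1 * v e.2.1.2.1 * v e.2.1.2.2

theorem sort3_prod (v : Fin 27 → F) (a b c : Fin 27) :
    v (sort3 a b c).1 * v (sort3 a b c).2.1 * v (sort3 a b c).2.2 = v a * v b * v c := by
  have h2 : ∀ a b, v (sort2 a b).1 * v (sort2 a b).2 = v a * v b := fun a b => by
    unfold sort2; cases Nat.ble a.val b.val <;> simp [mul_comm]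
  show v (sort2 (sort2 a b).1 (sort2 (sort2 a b).2 c).1).1 * v (sort2 (sort2 a b).1 (sort2 (sort2 a b).2 c).1).2 *
    v (sort2 (sort2 a b).2 c).2 = _
  rw [h2, mul_assoc, h2, ← mul_assoc, h2]

theorem sum_insT (t : F) (v : Fin 27 → F) (e : Term) (L : List Term) :
    ((insT e L).map (tval t v)).sum = tval t v e + (L.map (tval t v)).sum := by
  induction L with
  | nil => simp [insT]
  | cons a r ih =>
    rw [insT]
    cases h : sameKey a e
    · simp only [cond_false, List.map_cons, List.sum_cons, ih]; ring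
    · simp only [sameKey, Bool.and_eq_true, Nat.beq_eq, Fin.val_inj] at h
      simp only [cond_true, List.map_cons, List.sum_cons]
      simp only [tval, h.1.1.1, h.1.1.2, h.1.2, h.2, Int.cast_add]
      ring

theorem sum_of_zeroT (t : F) (v : Fin 27 → F) {L : List Term} (h : zeroT L = true) :
    (L.map (tval t v)).sum = 0 := by
  have e : ((L.foldr insT []).map (tval t v)).sum = (L.map (tval t v)).sum := by
    clear h
    induction L with
    | nil => simp
    | cons e L ih => rw [List.foldr_cons, sum_insT, ih, List.map_cons, List.sum_cons]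
  rw [← e]
  refine List.sum_eq_zero fun x hx => ?_
  obtain ⟨u, hu, rfl⟩ := List.mem_map.1 hx
  simp [tval, beq_iff_eq.1 (List.all_eq_true.1 h u hu)]

theorem eval_mulVec (t : F) (v : Fin 27 → F) (a : Fin 27) (L : List (Ent (Fin 27))) :
    (eval t L *ᵥ v) a =
      ((L.filter fun e => Nat.beq e.2.1.val a.val).map fun e => (e.2.2.2 : F) * t ^ e.1 * v e.2.2.1).sum := by
  induction L with
  | nil => simp
  | cons e L ih =>
    rw [eval_cons, Matrix.add_mulVec, Pi.add_apply, ih, List.filter_cons, Matrix.single_mulVec]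
    by_cases h : e.2.1 = a
    · subst h; simp
    · rw [if_neg (by simpa [Fin.val_inj] using h)]
      simp [Function.update, Ne.symm h]

theorem y_mulVec (r : Fin chevE6.nroots) (t : F) (v : Fin 27 → F) (a : Fin 27) :
    ((y F r t : Matrix (Fin 27) (Fin 27) F) *ᵥ v) a =
      v a + (((tab.A r).filter fun e => Nat.beq e.2.1.val a.val).map fun e =>
        (e.2.2.2 : F) * t * v e.2.2.1).sum := by
  rw [y_val, ← eval_A, Matrix.add_mulVec, Matrix.one_mulVec, Pi.add_apply, eval_mulVec]
  congr 2
  refine List.map_congr_left fun e he => ?_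
  rw [deg_A r e (List.mem_of_mem_filter he), pow_one]

/-- The root elements preserve the form. -/
theorem T27_y (r : Fin chevE6.nroots) (t : F) (v : Fin 27 → F) :
    T27 ((y F r t : Matrix (Fin 27) (Fin 27) F) *ᵥ v) = T27 v := by
  have hrow : ∀ a, ((y F r t : Matrix (Fin 27) (Fin 27) F) *ᵥ v) a =
      ((rowL r a).map fun p => (p.2.2 : F) * t ^ p.1 * v p.2.1).sum := fun a => by
    rw [y_mulVec, rowL, List.map_cons, List.sum_cons, List.map_map]
    simp only [Function.comp_def, Int.cast_one, pow_zero, pow_one, one_mul]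
  have key : ∀ m : Mon, mval ((y F r t : Matrix (Fin 27) (Fin 27) F) *ᵥ v) m =
      mval v m + ((expand r m).map (tval t v)).sum := fun m => by
    have h : ∀ (P Q U : List (ℕ × Fin 27 × ℤ)), (m.2.2.2 : F) * (P.map fun p => (p.2.2 : F) * t ^ p.1 * v p.2.1).sum *
        (Q.map fun p => (p.2.2 : F) * t ^ p.1 * v p.2.1).sum * (U.map fun p => (p.2.2 : F) * t ^ p.1 * v p.2.1).sum =
        ((P.flatMap fun p => Q.flatMap fun q => U.map fun u =>
          ((p.1 + q.1 + u.1, sort3 p.2.1 q.2.1 u.2.1, m.2.2.2 * (p.2.2 * q.2.2 * u.2.2)) : Term)).map (tval t v)).sum := by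
      intro P Q U
      induction P with
      | nil => simp
      | cons p P ih =>
        rw [List.map_cons, List.sum_cons, List.flatMap_cons, List.map_append, List.sum_append, mul_add, add_mul,
          add_mul, ih]
        congr 1
        clear ih
        induction Q with
        | nil => simp
        | cons q Q ih =>
          rw [List.map_cons, List.sum_cons, List.flatMap_cons, List.map_append, List.sum_append, mul_add, add_mul,
            ih, List.map_map]
          congr 1
          clear ih
          induction U with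
          | nil => simp
          | cons u U ih =>
            rw [List.map_cons, List.sum_cons, List.map_cons, List.sum_cons, mul_add, ih]
            congr 1
            simp only [Function.comp_apply, tval, Int.cast_mul]
            rw [pow_add, pow_add]
            linear_combination -((m.2.2.2 : F) * (p.2.2 : F) * (q.2.2 : F) * (u.2.2 : F) * t ^ p.1 * t ^ q.1 *
              t ^ u.1) * sort3_prod v p.2.1 q.2.1 u.2.1
    rw [mval, hrow, hrow, hrow, h, expand]
    show _ = _
    simp only [rowL, List.flatMap_cons, List.map_cons, List.cons_append, List.tail_cons, List.map_append,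
      List.sum_cons]
    congr 1
    simp only [tval, mval, Nat.zero_add, pow_zero, mul_one, one_mul]
    linear_combination (m.2.2.2 : F) * sort3_prod v m.1 m.2.1 m.2.2.1
  have hd := sum_of_zeroT t v (List.all_eq_true.1 diff_all r (List.mem_finRange r))
  have hs : ∀ l : List Mon, ((l.flatMap (expand r)).map (tval t v)).sum =
      (l.map fun m => ((expand r m).map (tval t v)).sum).sum := fun l => by
    induction l with
    | nil => simp
    | cons m l ih => simp [List.flatMap_cons, ih]
  rw [diffT, hs] at hd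
  rw [T27, T27, List.map_congr_left fun m _ => key m, List.sum_map_add, hd, add_zero]

/-- The trilinear form. -/
def Phi (x y z : Fin 27 → F) : F :=
  (mons.map fun m => (m.2.2.2 : F) *
    (x m.1 * y m.2.1 * z m.2.2.1 + x m.1 * y m.2.2.1 * z m.2.1 + x m.2.1 * y m.1 * z m.2.2.1 +
      x m.2.1 * y m.2.2.1 * z m.1 + x m.2.2.1 * y m.1 * z m.2.1 + x m.2.2.1 * y m.2.1 * z m.1)).sum

/-- The form linear in the second and quadratic in the first variable. -/
def Gq (x z : Fin 27 → F) : F :=
  (mons.map fun m => (m.2.2.2 : F) *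
    (z m.1 * x m.2.1 * x m.2.2.1 + x m.1 * z m.2.1 * x m.2.2.1 + x m.1 * x m.2.1 * z m.2.2.1)).sum

theorem Phi_eq (x y z : Fin 27 → F) : Phi x y z =
    T27 (x + y + z) - T27 (x + y) - T27 (x + z) - T27 (y + z) + T27 x + T27 y + T27 z := by
  unfold Phi T27
  generalize (mons : List Mon) = l
  induction l with
  | nil => simp
  | cons m l ih =>
    simp only [List.map_cons, List.sum_cons, mval, Pi.add_apply] at ih ⊢
    linear_combination ih

theorem Phi_comm (x y z : Fin 27 → F) : Phi x y z = Phi x z y := by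
  rw [Phi_eq, Phi_eq, show x + z + y = x + y + z by abel, show z + y = y + z by abel]; ring

theorem T27_add_smul (c : F) (x z : Fin 27 → F) :
    T27 (x + c • z) = T27 x + c * Gq x z + c ^ 2 * Gq z x + c ^ 3 * T27 z := by
  unfold Gq T27
  generalize (mons : List Mon) = l
  induction l with
  | nil => simp
  | cons m l ih =>
    simp only [List.map_cons, List.sum_cons, mval, Pi.add_apply, Pi.smul_apply, smul_eq_mul] at ih ⊢
    linear_combination ih

/-- The unit vector. -/
def e27 (a : Fin 27) : Fin 27 → F := Pi.single a 1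

theorem Phi_e (f : Fin 27) (x z : Fin 27 → F) :
    Phi (e27 f) x z = ((pat f).map fun p => (p.2.2 : F) * x p.1 * z p.2.1).sum := by
  unfold Phi pat
  generalize (mons : List Mon) = l
  induction l with
  | nil => simp
  | cons m l ih =>
    rw [List.map_cons, List.sum_cons, ih, List.flatMap_cons, List.map_append, List.sum_append]
    congr 1
    simp only [e27, Pi.single_apply, eq_comm (a := f)]
    split_ifs <;> simp <;> ring

theorem Phi_e_e (f t : Fin 27) (x : Fin 27 → F) :
    Phi (e27 f) x (e27 t) = ((third f t).map fun p => (p.2 : F) * x p.1).sum := by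
  rw [Phi_e, third, List.map_map]
  induction pat f with
  | nil => simp
  | cons p l ih =>
    rw [List.map_cons, List.sum_cons, ih, List.filter_cons]
    by_cases h : p.2.1 = t
    · subst h; simp [e27]
    · rw [if_neg (by simpa [Fin.val_inj] using h)]
      simp [e27, h]

theorem Gq_e (x : Fin 27 → F) (t : Fin 27) :
    Gq x (e27 t) = ((grad t).map fun p => (p.2.2 : F) * x p.1 * x p.2.1).sum := by
  unfold Gq grad
  generalize (mons : List Mon) = l
  induction l with
  | nil => simp
  | cons m l ih =>
    rw [List.map_cons, List.sum_cons, ih, List.flatMap_cons, List.map_append, List.sum_append]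
    congr 1
    simp only [e27, Pi.single_apply, eq_comm (a := t)]
    split_ifs <;> simp <;> ring

theorem Gq_e_left (w : Fin 27) (z : Fin 27 → F) : Gq (e27 w) z = 0 := by
  unfold Gq
  refine List.sum_eq_zero fun u hu => ?_
  obtain ⟨m, hm, rfl⟩ := List.mem_map.1 hu
  have h := List.all_eq_true.1 distinct_all m hm
  simp only [Bool.and_eq_true, Bool.not_eq_true', ← Bool.not_eq_true, Nat.beq_eq, Fin.val_inj] at h
  have h0 : ∀ a b : Fin 27, a ≠ b → (e27 w a : F) * e27 w b = 0 := fun a b hab => by
    by_cases ha : a = w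
    · subst ha; simp [e27, Ne.symm hab]
    · simp [e27, ha]
  rw [mul_assoc (z m.1), h0 _ _ h.2, mul_right_comm (e27 w m.1) (z m.2.1), h0 _ _ h.1.2, h0 _ _ h.1.1]
  ring

variable {g : GL (Fin 27) F}

theorem inv_preserve (hg : ∀ v, T27 ((g : Matrix (Fin 27) (Fin 27) F) *ᵥ v) = T27 v) (v : Fin 27 → F) :
    T27 ((g⁻¹ : GL (Fin 27) F).val *ᵥ v) = T27 v := by
  have := hg ((g⁻¹ : GL (Fin 27) F).val *ᵥ v)
  rwa [Matrix.mulVec_mulVec, Units.mul_inv, Matrix.one_mulVec, eq_comm] at this

theorem Phi_map (hg : ∀ v, T27 ((g : Matrix (Fin 27) (Fin 27) F) *ᵥ v) = T27 v) (x y z : Fin 27 → F) :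
    Phi ((g : Matrix (Fin 27) (Fin 27) F) *ᵥ x) ((g : Matrix (Fin 27) (Fin 27) F) *ᵥ y)
      ((g : Matrix (Fin 27) (Fin 27) F) *ᵥ z) = Phi x y z := by
  simp only [Phi_eq, ← Matrix.mulVec_add, hg]

theorem Gq_map (h3 : ∃ c : F, c ≠ 0 ∧ c ≠ 1)
    (hg : ∀ v, T27 ((g : Matrix (Fin 27) (Fin 27) F) *ᵥ v) = T27 v) (x z : Fin 27 → F) :
    Gq ((g : Matrix (Fin 27) (Fin 27) F) *ᵥ x) ((g : Matrix (Fin 27) (Fin 27) F) *ᵥ z) = Gq x z := by
  obtain ⟨c, h0, h1⟩ := h3
  have key : ∀ x z : Fin 27 → F, (c ^ 2 - c) * Gq x z =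
      c ^ 2 * (T27 (x + z) - T27 x - T27 z) - (T27 (x + c • z) - T27 x - c ^ 3 * T27 z) := fun x z => by
    rw [T27_add_smul c]
    have := T27_add_smul 1 x z
    rw [one_smul] at this
    rw [this]; ring
  have hc : c ^ 2 - c ≠ 0 := by
    rw [show c ^ 2 - c = c * (c - 1) by ring]
    exact mul_ne_zero h0 (sub_ne_zero.2 h1)
  refine mul_left_cancel₀ hc ?_
  rw [key, key, ← Matrix.mulVec_smul, ← Matrix.mulVec_add, ← Matrix.mulVec_add, hg, hg, hg, hg]

end

end CfsgLib.ChevClassical.E6
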