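/-
Every isometry of the cubic form is a product of root elements: it is reduced to the identity one weight at a time.
-/
import Cfsg.Agent.Lib.ChevClassical.E6Form

set_option autoImplicit false
set_option maxRecDepth 100000
set_option maxHeartbeats 4000000

namespace CfsgLib.ChevClassical.E6

open Cfsg Cfsg.Lie Matrix

/-- Equality of coordinates. -/
def eqb (a b : Fin 27) : Bool := Nat.beq a.val b.val

theorem eqb_iff {a b : Fin 27} : eqb a b = true ↔ a = b := by simp [eqb, Fin.val_inj]

/-- Membership. -/
def memb (a : Fin 27) (L : List (Fin 27)) : Bool := L.any (eqb a)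

theorem memb_iff {a : Fin 27} {L : List (Fin 27)} : memb a L = true ↔ a ∈ L := by
  simp [memb, eqb_iff]

/-- A sign. -/
def isUnitZ (c : ℤ) : Bool := c == 1 || c == -1

/-- No monomial through both. -/
def coll (f w : Fin 27) : Bool := (third f w).isEmpty

/-- The coordinates forced to vanish by the fixed weights. -/
def outL (F : List (Fin 27)) (w : Fin 27) : List (Fin 27) :=
  (F.flatMap fun f => bif coll f w then (pat f).map (fun p => p.1) else []) ++
    F.flatMap fun f₁ => F.flatMap fun f₂ => ((third f₁ f₂).map (fun p => p.1)).filter fun u => !eqb u w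

/-- The root element fixes the weights in `F`. -/
def fixR (F : List (Fin 27)) (r : Fin chevE6.nroots) : Bool :=
  (tab.A r).all fun e => !memb e.2.2.1 F

/-- Both root elements fix the weights in `F`. -/
def fixN (F : List (Fin 27)) (r : Fin chevE6.nroots) : Bool := fixR F r && fixR F r.rev

/-- The entries in a row. -/
def rowE (r : Fin chevE6.nroots) (a : Fin 27) : List (Ent (Fin 27)) :=
  (tab.A r).filter fun e => Nat.beq e.2.1.val a.val

/-- The entries in a column. -/
def colE (r : Fin chevE6.nroots) (a : Fin 27) : List (Ent (Fin 27)) :=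
  (tab.A r).filter fun e => Nat.beq e.2.2.1.val a.val

/-- The only entry is `(a, b)`, a sign. -/
def isOne (L : List (Ent (Fin 27))) (a b : Fin 27) : Bool :=
  match L with
  | [e] => eqb e.2.1 a && eqb e.2.2.1 b && isUnitZ e.2.2.2
  | _ => false

/-- A root element removing the coordinate `n`. -/
def killRoot (F : List (Fin 27)) (w n : Fin 27) (r : Fin chevE6.nroots) : Bool :=
  isOne (rowE r n) n w && fixR F r &&
    (tab.A r).all fun e => eqb e.2.1 n || !coll w e.2.1

/-- A coordinate which can be removed. -/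
def killable (F : List (Fin 27)) (w n : Fin 27) : Bool :=
  coll w n && !eqb n w && (List.finRange chevE6.nroots).any (killRoot F w n)

/-- A coordinate which vanishes after the removals. -/
def doneC (F : List (Fin 27)) (O : List (Fin 27)) (w n : Fin 27) : Bool := memb n O || killable F w n

/-- The pair `w, u`. -/
def isWU (w u : Fin 27) (p : Fin 27 × Fin 27 × ℤ) : Bool :=
  (eqb p.1 w && eqb p.2.1 u) || (eqb p.1 u && eqb p.2.1 w)

/-- A coordinate which vanishes by singularity. -/
def sing (F : List (Fin 27)) (O : List (Fin 27)) (w u : Fin 27) : Bool :=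
  (third w u).any fun tp =>
    (match (grad tp.1).filter (isWU w u) with
      | [p] => isUnitZ p.2.2
      | _ => false) &&
    (grad tp.1).all fun p => isWU w u p || doneC F O w p.1 || doneC F O w p.2.1

/-- All the other coordinates vanish. -/
def clean (F : List (Fin 27)) (O : List (Fin 27)) (w : Fin 27) : Bool :=
  (List.finRange 27).all fun u => eqb u w || doneC F O w u || sing F O w u

/-- The weight is the third one of two fixed weights. -/
def forced (F : List (Fin 27)) (w : Fin 27) : Bool :=
  F.any fun f₁ => F.any fun f₂ =>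
    match third f₁ f₂ with
    | [p] => eqb p.1 w && isUnitZ p.2
    | _ => false

/-- A reflection moving `u` to `v`. -/
def moveRoot (F : List (Fin 27)) (v u : Fin 27) (r : Fin chevE6.nroots) : Bool :=
  isOne (rowE r v) v u && fixN F r && (rowE r u).isEmpty && (rowE r.rev v).isEmpty && isOne (rowE r.rev u) u v

/-- The moves are correct. -/
def movesOK (F : List (Fin 27)) : List (Fin 27) → List (Fin 27) → Bool
  | _, [] => true
  | seen, u :: l =>
    (seen.any fun v => (List.finRange chevE6.nroots).any (moveRoot F v u)) && movesOK F (seen ++ [u]) l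

/-- Some coordinate that does not vanish can be moved. -/
def srcOK (F : List (Fin 27)) (O : List (Fin 27)) (w : Fin 27) (L : List (Fin 27)) : Bool :=
  (F.any fun f => !coll f w && (pat f).all fun p => memb p.1 O || memb p.1 (w :: L)) ||
    (List.finRange 27).all fun u => memb u F || memb u O || memb u (w :: L)

/-- A root giving a torus element for `w`. -/
def scaleRoot (F : List (Fin 27)) (w : Fin 27) (r : Fin chevE6.nroots) : Bool :=
  fixN F r &&
    match colE r w with
    | [e] => eqb e.2.2.1 w && isUnitZ e.2.2.2 && (colE r.rev w).isEmpty && (colE r e.2.1).isEmpty &&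
        isOne (colE r.rev e.2.1) w e.2.1
    | _ => false

/-- One step. -/
def stepOK (F : List (Fin 27)) (w : Fin 27) (L : List (Fin 27)) : Bool :=
  (fun O => clean F O w &&
    (forced F w || (movesOK F [w] L && srcOK F O w L && (List.finRange chevE6.nroots).any (scaleRoot F w))))
    (outL F w)

/-- All steps. -/
def allOK : List (Fin 27) → List (Fin 27 × List (Fin 27)) → Bool
  | F, [] => (List.finRange 27).all fun u => memb u F
  | F, s :: l => !memb s.1 F && stepOK F s.1 s.2 && allOK (s.1 :: F) l

theorem all_ok : allOK [] steps = true := by decide +kernel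

theorem coll_self : (List.finRange 27).all (fun w => coll w w) = true := by decide +kernel

theorem pat_all : (List.finRange 27).all (fun f => (pat f).all fun p =>
    match third f p.2.1 with
    | [q] => eqb q.1 p.1 && isUnitZ q.2
    | _ => false) = true := by decide +kernel

section

variable {F : Type*} [Field F]

local notation "V" => (Fin 27 → F)
local notation "M27" => Matrix (Fin 27) (Fin 27) F

/-- The isometries of the form. -/
def Pres (g : GL (Fin 27) F) : Prop := ∀ v : V, T27 ((g : M27) *ᵥ v) = T27 v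

/-- The weights in a list are fixed. -/
def Good (L : List (Fin 27)) (g : GL (Fin 27) F) : Prop := ∀ f ∈ L, (g : M27) *ᵥ e27 f = e27 f

theorem unit_cast {c : ℤ} (h : isUnitZ c = true) : (c : F) * c = 1 := by
  simp only [isUnitZ, Bool.or_eq_true, beq_iff_eq] at h
  rcases h with rfl | rfl <;> simp

theorem unit_ne {c : ℤ} (h : isUnitZ c = true) : (c : F) ≠ 0 := fun e => by
  have := unit_cast (F := F) h
  simp [e] at this

theorem Pres.mul {g h : GL (Fin 27) F} (hg : Pres g) (hh : Pres h) : Pres (g * h) := fun v => by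
  rw [Units.val_mul, ← Matrix.mulVec_mulVec, hg, hh]

theorem pres_of_mem {g : GL (Fin 27) F} (hg : g ∈ Em F) : Pres g := by
  induction hg using Subgroup.closure_induction with
  | mem x hx => obtain ⟨r, t, rfl⟩ := hx; exact fun v => T27_y r t v
  | one => exact fun v => by simp
  | mul a b _ _ ha hb => exact ha.mul hb
  | inv a _ ha => exact fun v => inv_preserve ha v

theorem good_mul {L : List (Fin 27)} {g h : GL (Fin 27) F} (hh : Good L h) (hg : Good L g) :
    Good L (h * g) := fun f hf => by
  rw [Units.val_mul, ← Matrix.mulVec_mulVec, hg f hf, hh f hf]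

theorem y_fix {L : List (Fin 27)} {r : Fin chevE6.nroots} (h : fixR L r = true) (t : F) :
    Good L (y F r t) := fun f hf => by
  funext a
  rw [y_mulVec]
  refine add_eq_left.2 (List.sum_eq_zero fun x hx => ?_)
  obtain ⟨e, he, rfl⟩ := List.mem_map.1 hx
  have := List.all_eq_true.1 h e (List.mem_of_mem_filter he)
  rw [Bool.not_eq_true', ← Bool.not_eq_true, memb_iff] at this
  simp [e27, show e.2.2.1 ≠ f from fun e' => this (e' ▸ hf)]

theorem y_row_nil {r : Fin chevE6.nroots} {a : Fin 27} (h : (rowE r a).isEmpty = true) (t : F) (v : V) :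
    ((y F r t : M27) *ᵥ v) a = v a := by
  rw [y_mulVec, show ((tab.A r).filter fun e => Nat.beq e.2.1.val a.val) = [] from List.isEmpty_iff.1 h]
  simp

theorem y_row_one {r : Fin chevE6.nroots} {a b : Fin 27} (h : isOne (rowE r a) a b = true) :
    ∃ c : ℤ, isUnitZ c = true ∧ ∀ (t : F) (v : V), ((y F r t : M27) *ᵥ v) a = v a + c * t * v b := by
  unfold isOne at h
  split at h
  · next e heq =>
    simp only [Bool.and_eq_true, eqb_iff] at h
    refine ⟨e.2.2.2, h.2, fun t v => ?_⟩
    rw [y_mulVec, show ((tab.A r).filter fun e => Nat.beq e.2.1.val a.val) = [e] from heq]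
    simp [h.1.2]
  · exact absurd h Bool.false_ne_true

theorem y_col {r : Fin chevE6.nroots} {w : Fin 27} (t : F) :
    (y F r t : M27) *ᵥ e27 w =
      e27 w + ((colE r w).map fun e => ((e.2.2.2 : F) * t) • e27 (F := F) e.2.1).sum := by
  funext a
  rw [y_mulVec, Pi.add_apply]
  congr 1
  rw [colE]
  induction tab.A r with
  | nil => simp
  | cons e l ih =>
    rw [List.filter_cons, List.filter_cons]
    by_cases h1 : e.2.1 = a
    · subst h1
      rw [if_pos (by simp), List.map_cons, List.sum_cons, ih]
      by_cases h2 : e.2.2.1 = w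
      · subst h2; simp [e27]
      · rw [if_neg (by simpa [Fin.val_inj] using h2)]
        simp [e27, h2]
    · rw [if_neg (by simpa [Fin.val_inj] using h1), ih]
      by_cases h2 : e.2.2.1 = w
      · subst h2; simp [e27, Ne.symm h1]
      · rw [if_neg (by simpa [Fin.val_inj] using h2)]

theorem sum_filter_of {α : Type*} (P : α → Bool) (φ : α → F) (l : List α) (h : ∀ a ∈ l, P a = false → φ a = 0) :
    (l.map φ).sum = ((l.filter P).map φ).sum := by
  induction l with
  | nil => simp
  | cons a l ih =>
    rw [List.map_cons, List.sum_cons, ih fun b hb => h b (by simp [hb]), List.filter_cons]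
    cases hP : P a
    · simp [h a (by simp) hP]
    · simp

variable (h3 : ∃ c : F, c ≠ 0 ∧ c ≠ 1) {L : List (Fin 27)} {w : Fin 27}

/-- Coordinates in `outL` vanish at the image of `w`. -/
theorem out_zero (hwL : w ∉ L) {g : GL (Fin 27) F} (hg : Pres g) (hG : Good L g) {u : Fin 27}
    (hu : u ∈ outL L w) : ((g : M27) *ᵥ e27 w) u = 0 := by
  rw [outL, List.mem_append] at hu
  rcases hu with hu | hu
  · obtain ⟨f, hf, hu⟩ := List.mem_flatMap.1 hu
    cases hc : coll f w with
    | false => rw [hc] at hu; simp at hu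
    | true =>
      rw [hc, cond_true, List.mem_map] at hu
      obtain ⟨p, hp, rfl⟩ := hu
      have hz : ∀ z, Phi (e27 f) ((g : M27) *ᵥ e27 w) z = (0 : F) := fun z => by
        have e := Phi_map hg (e27 f) (e27 w) ((g⁻¹ : GL (Fin 27) F).val *ᵥ z)
        rw [hG f hf, Matrix.mulVec_mulVec, Units.mul_inv, Matrix.one_mulVec] at e
        rw [e, Phi_comm, Phi_e_e, show third f w = [] from List.isEmpty_iff.1 hc]
        simp
      have hp' := List.all_eq_true.1 (List.all_eq_true.1 pat_all f (List.mem_finRange f)) p hp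
      split at hp'
      · next q hq =>
        simp only [Bool.and_eq_true, eqb_iff] at hp'
        have := hz (e27 p.2.1)
        rw [Phi_e_e, hq] at this
        simpa [hp'.1, unit_ne (F := F) hp'.2] using this
      · exact absurd hp' Bool.false_ne_true
  · obtain ⟨f₁, hf₁, hu⟩ := List.mem_flatMap.1 hu
    obtain ⟨f₂, hf₂, hu⟩ := List.mem_flatMap.1 hu
    rw [List.mem_filter, List.mem_map] at hu
    obtain ⟨⟨p, hp, rfl⟩, hpw⟩ := hu
    rw [Bool.not_eq_true', ← Bool.not_eq_true, eqb_iff] at hpw
    have e := Phi_map hg (e27 f₁) (e27 w) (e27 f₂)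
    rw [hG f₁ hf₁, hG f₂ hf₂, Phi_e_e, Phi_e_e] at e
    have h1 : ∃ s, third f₁ f₂ = [(p.1, s)] ∧ isUnitZ s = true := by
      obtain ⟨q, hq, e'⟩ := List.mem_map.1 (show p ∈ third f₁ f₂ from hp)
      rw [List.mem_filter] at hq
      have hq' := List.all_eq_true.1 (List.all_eq_true.1 pat_all f₁ (List.mem_finRange f₁)) q hq.1
      rw [show q.2.1 = f₂ from Fin.ext (Nat.eq_of_beq_eq_true hq.2)] at hq'
      split at hq'
      · next q' hq'' =>
        simp only [Bool.and_eq_true, eqb_iff] at hq'
        refine ⟨q'.2, ?_, hq'.2⟩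
        rw [hq'', ← e']
        obtain ⟨a, b⟩ := q'
        simp only at hq' ⊢
        rw [hq'.1]
      · exact absurd hq' Bool.false_ne_true
    obtain ⟨s, hs, hsu⟩ := h1
    rw [hs] at e
    simpa [e27, hpw, unit_ne (F := F) hsu] using e

include h3 in
theorem gq_zero {g : GL (Fin 27) F} (hg : Pres g) (z : V) : Gq ((g : M27) *ᵥ e27 w) z = 0 := by
  have e := Gq_map h3 hg (e27 w) ((g⁻¹ : GL (Fin 27) F).val *ᵥ z)
  rw [Matrix.mulVec_mulVec, Units.mul_inv, Matrix.one_mulVec] at e
  rw [e, Gq_e_left]

theorem forced_one (hwL : w ∉ L) (hF : forced L w = true) {g : GL (Fin 27) F} (hg : Pres g) (hG : Good L g) :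
    ((g : M27) *ᵥ e27 w) w = 1 := by
  obtain ⟨f₁, hf₁, h⟩ := List.any_eq_true.1 hF
  obtain ⟨f₂, hf₂, h⟩ := List.any_eq_true.1 h
  split at h
  · next p hp =>
    simp only [Bool.and_eq_true, eqb_iff] at h
    have e := Phi_map hg (e27 f₁) (e27 w) (e27 f₂)
    rw [hG f₁ hf₁, hG f₂ hf₂, Phi_e_e, Phi_e_e, hp] at e
    simp only [List.map_cons, List.map_nil, List.sum_cons, List.sum_nil, add_zero, h.1] at e
    refine mul_left_cancel₀ (unit_ne (F := F) h.2) (e.trans ?_)
    simp [e27]
  · exact absurd h Bool.false_ne_true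

/-- Moving a non-zero coordinate to `w`. -/
theorem move_all : ∀ (l seen : List (Fin 27)), movesOK L seen l = true →
    (∀ u ∈ seen, ∀ x : V, x u ≠ 0 → ∃ h ∈ Em F, Good L h ∧ ((h : M27) *ᵥ x) w ≠ 0) →
    ∀ u ∈ seen ++ l, ∀ x : V, x u ≠ 0 → ∃ h ∈ Em F, Good L h ∧ ((h : M27) *ᵥ x) w ≠ 0 := by
  intro l
  induction l with
  | nil => intro seen _ hs u hu; exact hs u (by simpa using hu)
  | cons a l ih =>
    intro seen hok hs u hu
    rw [movesOK, Bool.and_eq_true] at hok
    refine ih (seen ++ [a]) hok.2 ?_ u (by simpa using hu)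
    intro b hb x hx
    rcases List.mem_append.1 hb with hb | hb
    · exact hs b hb x hx
    rw [List.mem_singleton] at hb
    subst hb
    obtain ⟨v, hv, h⟩ := List.any_eq_true.1 hok.1
    obtain ⟨r, -, hr⟩ := List.any_eq_true.1 h
    simp only [moveRoot, Bool.and_eq_true, fixN] at hr
    obtain ⟨⟨⟨⟨hvu, hfa, hfb⟩, hu0⟩, hv0⟩, huv⟩ := hr
    obtain ⟨c, hc, h1⟩ := y_row_one (F := F) hvu
    obtain ⟨c', hc', h2⟩ := y_row_one (F := F) huv
    set n := y F r 1 * y F r.rev (-((c : F) * c')) * y F r 1 with hn
    have hnv : ((n : M27) *ᵥ x) v = c * x b := by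
      have e := unit_cast (F := F) hc
      have e' := unit_cast (F := F) hc'
      simp only [hn, Units.val_mul, ← Matrix.mulVec_mulVec, h1, h2, y_row_nil hu0, y_row_nil hv0]
      linear_combination (-(x v) - (c : F) * x b) * (c' : F) * c' * e + (-(x v) - (c : F) * x b) * e'
    obtain ⟨h, hh, hgood, hw⟩ := hs v hv ((n : M27) *ᵥ x) (by
      rw [hnv]; exact mul_ne_zero (unit_ne hc) hx)
    refine ⟨h * n, mul_mem hh (mul_mem (mul_mem (y_mem F _ _) (y_mem F _ _)) (y_mem F _ _)),
      good_mul hgood (good_mul (good_mul (y_fix hfa _) (y_fix hfb _)) (y_fix hfa _)), ?_⟩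
    rwa [Units.val_mul, ← Matrix.mulVec_mulVec]

theorem exists_nonzero {M : List (Fin 27)} (hwL : w ∉ L) (hsrc : srcOK L (outL L w) w M = true)
    {g : GL (Fin 27) F} (hg : Pres g) (hG : Good L g) : ∃ u ∈ w :: M, ((g : M27) *ᵥ e27 w) u ≠ 0 := by
  by_contra hno
  push Not at hno
  have hz : ∀ u, u ∈ outL L w ∨ u ∈ w :: M → ((g : M27) *ᵥ e27 w) u = 0 := fun u hu =>
    hu.elim (out_zero hwL hg hG) (hno u)
  rw [srcOK, Bool.or_eq_true] at hsrc
  rcases hsrc with h | h
  · obtain ⟨f, hf, h⟩ := List.any_eq_true.1 h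
    rw [Bool.and_eq_true, Bool.not_eq_true'] at h
    obtain ⟨q, hq⟩ := List.exists_mem_of_ne_nil _ (List.isEmpty_eq_false_iff.1 h.1 : third f w ≠ [])
    obtain ⟨p, hp, -⟩ := List.mem_map.1 hq
    rw [List.mem_filter] at hp
    have hp2 : p.2.1 = w := Fin.ext (Nat.eq_of_beq_eq_true hp.2)
    have hp' := List.all_eq_true.1 (List.all_eq_true.1 pat_all f (List.mem_finRange f)) p hp.1
    rw [hp2] at hp'
    split at hp'
    · next q' hq' =>
      simp only [Bool.and_eq_true, eqb_iff] at hp'
      have e := Phi_map hg (e27 f) (e27 w) (e27 q'.1)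
      rw [hG f hf, Phi_e, Phi_comm (e27 f) (e27 w), Phi_e_e, hq'] at e
      have h0 : ((pat f).map fun p => (p.2.2 : F) * ((g : M27) *ᵥ e27 w) p.1 *
          ((g : M27) *ᵥ e27 q'.1) p.2.1).sum = 0 := List.sum_eq_zero fun x hx => by
        obtain ⟨a, ha, rfl⟩ := List.mem_map.1 hx
        have := List.all_eq_true.1 h.2 a ha
        rw [Bool.or_eq_true, memb_iff, memb_iff] at this
        simp [hz _ this]
      rw [h0] at e
      simpa [e27, unit_ne (F := F) hp'.2] using e.symm
    · exact absurd hp' Bool.false_ne_true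
  · set x := (g : M27) *ᵥ e27 w with hx
    have hsupp : ∀ u, u ∉ L → x u = 0 := fun u hu => hz u (by
      have := List.all_eq_true.1 h u (List.mem_finRange u)
      simp only [Bool.or_eq_true, memb_iff] at this
      rcases this with (a | a) | a
      exacts [absurd a hu, Or.inl a, Or.inr a])
    have hfix : (g : M27) *ᵥ x = x := by
      have e : x = ∑ u, x u • e27 u := (pi_eq_sum_univ' x).trans
        (Finset.sum_congr rfl fun u _ => by rw [e27])
      conv_lhs => rw [e, Matrix.mulVec_sum]
      conv_rhs => rw [e]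
      refine Finset.sum_congr rfl fun u _ => ?_
      by_cases hu : u ∈ L
      · rw [Matrix.mulVec_smul, hG u hu]
      · simp [hsupp u hu]
    have e : e27 w = x := (Matrix.mulVec_injective_iff_isUnit.2 g.isUnit) (hx.symm.trans hfix.symm)
    have := congrFun e w
    rw [hsupp w hwL] at this
    simp [e27] at this

/-- Removing the coordinates which can be removed. -/
theorem kill_all {g : GL (Fin 27) F} : ∀ l : List (Fin 27), ∃ h ∈ Em F, Good L h ∧
    ((h * g : GL (Fin 27) F).val *ᵥ e27 w) w = ((g : M27) *ᵥ e27 w) w ∧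
    (((g : M27) *ᵥ e27 w) w ≠ 0 → ∀ n ∈ l, killable L w n = true →
      ((h * g : GL (Fin 27) F).val *ᵥ e27 w) n = 0) := by
  intro l
  induction l with
  | nil => exact ⟨1, one_mem _, fun f _ => by simp, by simp, fun _ n hn => by simp at hn⟩
  | cons n l ih =>
    obtain ⟨h, hh, hG, hw, hl⟩ := ih
    by_cases hk : killable L w n = true
    · have hk' := hk
      simp only [killable, Bool.and_eq_true, Bool.not_eq_true', List.any_eq_true] at hk'
      obtain ⟨⟨hcw, hnw⟩, r, -, hr⟩ := hk'
      rw [← Bool.not_eq_true, eqb_iff] at hnw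
      simp only [killRoot, Bool.and_eq_true] at hr
      obtain ⟨⟨hone, hfix⟩, hrows⟩ := hr
      obtain ⟨c, hc, h1⟩ := y_row_one (F := F) hone
      have hother : ∀ a, a ≠ n → coll w a = true → (rowE r a).isEmpty = true := fun a ha hca => by
        rw [rowE, List.isEmpty_iff, List.filter_eq_nil_iff]
        intro e he hea
        have := List.all_eq_true.1 hrows e he
        rw [show e.2.1 = a from Fin.ext (Nat.eq_of_beq_eq_true hea)] at this
        simp [eqb_iff, ha, hca] at this
      have hcww : coll w w = true :=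
        List.all_eq_true.1 coll_self w (List.mem_finRange w)
      set x := (h * g : GL (Fin 27) F).val *ᵥ e27 w with hx
      set t : F := -(c * x n / x w) with ht
      refine ⟨y F r t * h, mul_mem (y_mem F r t) hh, good_mul (y_fix hfix t) hG, ?_, fun hne m hm hkm => ?_⟩
      · rw [mul_assoc, Units.val_mul, ← Matrix.mulVec_mulVec, ← hx,
          y_row_nil (hother w (Ne.symm hnw) hcww)]
        exact hw
      · rw [mul_assoc, Units.val_mul, ← Matrix.mulVec_mulVec, ← hx]
        by_cases hmn : m = n
        · subst hmn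
          rw [h1, ht]
          have hxw : x w ≠ 0 := fun h0 => hne (hw.symm.trans h0)
          field_simp
          linear_combination (-(x m)) * unit_cast (F := F) hc
        · have hcm : coll w m = true := by
            simp only [killable, Bool.and_eq_true] at hkm; exact hkm.1.1
          rw [y_row_nil (hother m hmn hcm)]
          exact hl hne m ((List.mem_cons.1 hm).resolve_left hmn) hkm
    · exact ⟨h, hh, hG, hw, fun hne m hm hkm => by
        rcases List.mem_cons.1 hm with rfl | hm
        · exact absurd hkm hk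
        · exact hl hne m hm hkm⟩

include h3 in
theorem clean_support (hwL : w ∉ L) (hcl : clean L (outL L w) w = true) {g : GL (Fin 27) F} (hg : Pres g)
    (hG : Good L g) (hne : ((g : M27) *ᵥ e27 w) w ≠ 0)
    (hk : ∀ n, killable L w n = true → ((g : M27) *ᵥ e27 w) n = 0) :
    (g : M27) *ᵥ e27 w = (((g : M27) *ᵥ e27 w) w) • e27 w := by
  set x := (g : M27) *ᵥ e27 w with hx
  have hd : ∀ n, doneC L (outL L w) w n = true → x n = 0 := fun n hn => by
    rw [doneC, Bool.or_eq_true, memb_iff] at hn
    exact hn.elim (out_zero hwL hg hG) (hk n)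
  funext u
  rcases eq_or_ne u w with rfl | huw
  · simp [e27]
  rw [Pi.smul_apply, e27, Pi.single_eq_of_ne huw, smul_zero]
  have h := List.all_eq_true.1 hcl u (List.mem_finRange u)
  simp only [Bool.or_eq_true, eqb_iff] at h
  rcases h with (h | h) | h
  · exact absurd h huw
  · exact hd u h
  · obtain ⟨tp, -, h⟩ := List.any_eq_true.1 h
    rw [Bool.and_eq_true] at h
    obtain ⟨h1, h2⟩ := h
    have e0 := gq_zero h3 (w := w) hg (e27 tp.1)
    rw [← hx, Gq_e, sum_filter_of (isWU w u)] at e0
    · split at h1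
      · next p hp =>
        rw [hp] at e0
        simp only [List.map_cons, List.map_nil, List.sum_cons, List.sum_nil, add_zero] at e0
        have hmem : p ∈ (grad tp.1).filter (isWU w u) := by rw [hp]; simp
        have := (List.mem_filter.1 hmem).2
        simp only [isWU, Bool.or_eq_true, Bool.and_eq_true, eqb_iff] at this
        have hu := unit_ne (F := F) h1
        rcases this with ⟨a, b⟩ | ⟨a, b⟩ <;> simp only [a, b, mul_eq_zero] at e0 <;> tauto
      · exact absurd h1 Bool.false_ne_true
    · intro a ha hP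
      have := List.all_eq_true.1 h2 a ha
      simp only [hP, Bool.false_or, Bool.or_eq_true] at this
      rcases this with h | h <;> simp [hd _ h]

theorem scale_exists {r : Fin chevE6.nroots} (hr : scaleRoot L w r = true) {c : F} (hc : c ≠ 0) :
    ∃ h ∈ Em F, Good L h ∧ (h : M27) *ᵥ (c • e27 w) = e27 w := by
  simp only [scaleRoot, fixN, Bool.and_eq_true] at hr
  obtain ⟨⟨hfa, hfb⟩, h⟩ := hr
  split at h
  · next e he =>
    simp only [Bool.and_eq_true, eqb_iff, List.isEmpty_iff] at h
    obtain ⟨⟨⟨⟨-, hs⟩, hw'⟩, hu⟩, hone⟩ := h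
    unfold isOne at hone
    split at hone
    · next d hd =>
      simp only [Bool.and_eq_true, eqb_iff] at hone
      set s : F := (e.2.2.2 : F) with hs'
      set s' : F := (d.2.2.2 : F) with hs''
      have ess : s * s = 1 := unit_cast hs
      have ess' : s' * s' = 1 := unit_cast hone.2
      have a1 : ∀ t, (y F r t : M27) *ᵥ e27 w = e27 w + (s * t) • e27 e.2.1 := fun t => by
        rw [y_col, he]; simp [hs']
      have a2 : ∀ t, (y F r t : M27) *ᵥ e27 e.2.1 = e27 e.2.1 := fun t => by rw [y_col, hu]; simp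
      have b1 : ∀ t, (y F r.rev t : M27) *ᵥ e27 w = e27 w := fun t => by rw [y_col, hw']; simp
      have b2 : ∀ t, (y F r.rev t : M27) *ᵥ e27 e.2.1 = e27 e.2.1 + (s' * t) • e27 w := fun t => by
        rw [y_col, hd]; simp [hs'', hone.1.1]
      let n : F → GL (Fin 27) F := fun a => y F r a * y F r.rev (-(s * s') * a⁻¹) * y F r a
      have hn : ∀ a, Good L (n a) ∧ n a ∈ Em F := fun a =>
        ⟨good_mul (good_mul (y_fix hfa _) (y_fix hfb _)) (y_fix hfa _),
          mul_mem (mul_mem (y_mem F _ _) (y_mem F _ _)) (y_mem F _ _)⟩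
      have n1 : ∀ a, a ≠ 0 → ((n a : GL (Fin 27) F) : M27) *ᵥ e27 w = (s * a) • e27 e.2.1 := fun a ha => by
        simp only [n, Units.val_mul, ← Matrix.mulVec_mulVec, a1, Matrix.mulVec_add, Matrix.mulVec_smul, b1, b2, a2]
        have e1 : s' * (-(s * s') * a⁻¹) * (s * a) = -1 := by
          field_simp
          linear_combination (-(s' * s')) * ess - ess'
        rw [smul_add, smul_smul (s * a) (s' * _), mul_comm (s * a) (s' * _), e1]
        module
      have n2 : ∀ a, a ≠ 0 → ((n a : GL (Fin 27) F) : M27) *ᵥ e27 e.2.1 = (-(s * a⁻¹)) • e27 w := fun a ha => by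
        simp only [n, Units.val_mul, ← Matrix.mulVec_mulVec, a2, b2, Matrix.mulVec_add, Matrix.mulVec_smul, a1]
        have e1 : s' * (-(s * s') * a⁻¹) = -(s * a⁻¹) := by linear_combination (-(s * a⁻¹)) * ess'
        have e2 : -(s * a⁻¹) * (s * a) = -1 := by
          field_simp
          linear_combination -ess
        rw [e1, smul_add, smul_smul, e2]
        module
      refine ⟨n (-c) * n 1, mul_mem (hn _).2 (hn _).2, good_mul (hn _).1 (hn _).1, ?_⟩
      rw [Units.val_mul, ← Matrix.mulVec_mulVec, Matrix.mulVec_smul, n1 1 one_ne_zero, mul_one, Matrix.mulVec_smul,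
        Matrix.mulVec_smul, n2 (-c) (neg_ne_zero.2 hc), smul_smul, smul_smul,
        show c * s * -(s * (-c)⁻¹) = 1 by field_simp; linear_combination ess, one_smul]
    · exact absurd hone Bool.false_ne_true
  · exact absurd h Bool.false_ne_true

include h3 in
theorem step_all {M : List (Fin 27)} (hwL : w ∉ L) (hs : stepOK L w M = true) {g : GL (Fin 27) F} (hg : Pres g)
    (hG : Good L g) : ∃ h ∈ Em F, Good (w :: L) (h * g) := by
  simp only [stepOK, Bool.and_eq_true, Bool.or_eq_true] at hs
  obtain ⟨hcl, hmode⟩ := hs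
  -- a non-zero coordinate at `w`
  obtain ⟨h₁, hh₁, hG₁, hne⟩ : ∃ h ∈ Em F, Good L h ∧ ((h * g : GL (Fin 27) F).val *ᵥ e27 w) w ≠ 0 := by
    rcases hmode with hF | ⟨⟨hmv, hsrc⟩, -⟩
    · refine ⟨1, one_mem _, fun f _ => by simp, ?_⟩
      rw [one_mul, forced_one hwL hF hg hG]; exact one_ne_zero
    · obtain ⟨u, hu, hx⟩ := exists_nonzero hwL hsrc hg hG
      obtain ⟨h, hh, hgood, hw⟩ := move_all (F := F) (L := L) (w := w) M [w] hmv
        (fun v hv x hx => ⟨1, one_mem _, fun f _ => by simp, by
          rw [List.mem_singleton] at hv; rw [hv] at hx; simpa using hx⟩) u (by simpa using hu) _ hx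
      exact ⟨h, hh, hgood, by rwa [Units.val_mul, ← Matrix.mulVec_mulVec]⟩
  obtain ⟨h₂, hh₂, hG₂, hw₂, hz⟩ := kill_all (F := F) (L := L) (w := w) (g := h₁ * g) (List.finRange 27)
  set g' := h₂ * (h₁ * g) with hg'
  have hG' : Good L g' := good_mul hG₂ (good_mul hG₁ hG)
  have hg'P : Pres g' := (pres_of_mem hh₂).mul ((pres_of_mem hh₁).mul hg)
  have hne' : ((g' : M27) *ᵥ e27 w) w ≠ 0 := by rw [hg', hw₂]; exact hne
  have hsupp := clean_support h3 hwL hcl hg'P hG' hne' fun n hn => hz hne n (List.mem_finRange n) hn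
  rcases hmode with hF | ⟨-, hsc⟩
  · refine ⟨h₂ * h₁, mul_mem hh₂ hh₁, ?_⟩
    rw [mul_assoc, ← hg']
    rw [forced_one hwL hF hg'P hG', one_smul] at hsupp
    intro f hf
    rcases List.mem_cons.1 hf with rfl | hf
    exacts [hsupp, hG' f hf]
  · obtain ⟨r, -, hr⟩ := List.any_eq_true.1 hsc
    obtain ⟨h₃, hh₃, hG₃, he⟩ := scale_exists hr hne'
    refine ⟨h₃ * h₂ * h₁, mul_mem (mul_mem hh₃ hh₂) hh₁, ?_⟩
    rw [mul_assoc, mul_assoc, ← hg']
    intro f hf
    rcases List.mem_cons.1 hf with rfl | hf
    · rw [Units.val_mul, ← Matrix.mulVec_mulVec, hsupp, he]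
    · exact good_mul hG₃ hG' f hf

include h3 in
/-- Every isometry is in the group generated by the root elements. -/
theorem mem_Em_of_pres {g : GL (Fin 27) F} (hg : Pres g) : g ∈ Em F := by
  have key : ∀ (l : List (Fin 27 × List (Fin 27))) (L : List (Fin 27)), allOK L l = true →
      ∀ g : GL (Fin 27) F, Pres g → Good L g → g ∈ Em F := by
    intro l
    induction l with
    | nil =>
      intro L hok g _ hG
      rw [allOK] at hok
      have : g = 1 := by
        refine Units.ext (Matrix.ext_of_mulVec_single fun u => ?_)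
        have := hG u (memb_iff.1 (List.all_eq_true.1 hok u (List.mem_finRange u)))
        rw [e27] at this
        rw [this, Units.val_one, Matrix.one_mulVec]
      rw [this]; exact one_mem _
    | cons s l ih =>
      intro L hok g hgP hG
      simp only [allOK, Bool.and_eq_true, Bool.not_eq_true'] at hok
      obtain ⟨⟨hnm, hs⟩, hrest⟩ := hok
      rw [← Bool.not_eq_true, memb_iff] at hnm
      obtain ⟨h, hh, hG'⟩ := step_all h3 hnm hs hgP hG
      have := ih _ hrest _ ((pres_of_mem hh).mul hgP) hG'
      exact (Subgroup.mul_mem_cancel_left _ hh).1 this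
  exact key steps [] all_ok g hg (fun f hf => by simp at hf)

end

end CfsgLib.ChevClassical.E6
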