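/-
The isometry group of the cubic form, modulo its centre, is the Chevalley group of type `E₆`.
-/
import Cfsg.Prelude.Def_E6
import Cfsg.Agent.Lib.ChevClassical.E6Reduce
import Cfsg.Agent.Lib.Chev.PerfectData
import Cfsg.Agent.Lib.Chev.Mat

set_option autoImplicit false
set_option maxRecDepth 100000
set_option maxHeartbeats 4000000

namespace CfsgLib.ChevClassical.E6

open Cfsg Cfsg.Lie Matrix

/-- The coordinates of the model as the coordinates of three matrices. -/
def dec : Fin 27 ≃ I27 where
  toFun n := (⟨n.val / 9, by omega⟩, ⟨n.val / 3 % 3, by omega⟩, ⟨n.val % 3, by omega⟩)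
  invFun p := ⟨9 * p.1.val + 3 * p.2.1.val + p.2.2.val, by omega⟩
  left_inv n := Fin.ext (by simp only; omega)
  right_inv := fun ⟨a, b, c⟩ => by
    refine Prod.ext (Fin.ext ?_) (Prod.ext (Fin.ext ?_) (Fin.ext ?_)) <;> simp only <;> omega

section

variable {F : Type*} [Field F]

theorem cubicT_eq (v : I27 → F) : cubicT v = T27 (v ∘ dec) := by
  simp [T27, mons, mval, cubicT, mat3, Matrix.det_fin_three, Matrix.trace, Matrix.mul_apply,
    Fin.sum_univ_three, dec]
  ring

/-- The change of coordinates on the general linear groups. -/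
def reindexGL : GL (Fin 27) F ≃* GL I27 F :=
  Units.mapEquiv (Matrix.reindexAlgEquiv F F dec).toMulEquiv

theorem reindexGL_mulVec (g : GL (Fin 27) F) (v : I27 → F) :
    (((reindexGL g : GL I27 F) : Matrix I27 I27 F) *ᵥ v) ∘ dec = (g : Matrix (Fin 27) (Fin 27) F) *ᵥ (v ∘ dec) := by
  have : ((reindexGL g : GL I27 F) : Matrix I27 I27 F) =
      (g : Matrix (Fin 27) (Fin 27) F).submatrix dec.symm dec.symm := rfl
  rw [this, Matrix.submatrix_mulVec_equiv, Equiv.symm_symm]
  funext u
  simp

theorem mem_E6univ_iff (g : GL (Fin 27) F) : reindexGL g ∈ E6univ F ↔ Pres g := by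
  constructor
  · intro h v
    have := h (v ∘ dec.symm)
    rw [cubicT_eq, cubicT_eq] at this
    change T27 ((((reindexGL g : GL I27 F) : Matrix I27 I27 F) *ᵥ (v ∘ dec.symm)) ∘ dec) = _ at this
    rw [reindexGL_mulVec, Function.comp_assoc, Equiv.symm_comp_self, Function.comp_id] at this
    exact this
  · intro h v
    rw [cubicT_eq, cubicT_eq]
    change T27 ((((reindexGL g : GL I27 F) : Matrix I27 I27 F) *ᵥ v) ∘ dec) = _
    rw [reindexGL_mulVec]
    exact h _

/-- The isomorphism. -/
theorem nonempty_equiv (h3 : ∃ c : F, c ≠ 0 ∧ c ≠ 1) :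
    Nonempty (E6 F ≃* ↥(chevE6.group F)) := by
  classical
  obtain ⟨Φ⟩ := CfsgLib.Chev.exists_chev (D := chevE6) (by simp)
  have hsimple : IsSimpleGroup ↥(chevE6.group F) ∧ ¬ IsMulCommutative ↥(chevE6.group F) :=
    CfsgLib.Chev.simple_of_conn Φ CfsgLib.Chev.connE6 ⟨0, by decide⟩
      (CfsgLib.Chev.perfect_of_mem (by simp) fun _ => h3)
  haveI := hsimple.1
  -- trivial elements
  let K0 : Subgroup ↥(chevE6.group F) :=
    { carrier := {x | Tab.Compat (T := tab) F (x : GL chevE6.Idx F) 1}
      mul_mem' := fun {a b} ha hb => by simpa using ha.mul F hb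
      one_mem' := Tab.compat_one F
      inv_mem' := fun {a} ha => by simpa using ha.inv F }
  have hK0 : ∀ x : ↥(chevE6.group F), x ∈ K0 → x = 1 := by
    haveI : K0.Normal := ⟨fun x hx g => by
      obtain ⟨h, -, hc⟩ := exists_y F g.1 g.2
      have := (hc.mul F hx).mul F (hc.inv F)
      show Tab.Compat (T := tab) F _ 1
      simpa using this⟩
    rcases Subgroup.Normal.eq_bot_or_eq_top (H := K0) inferInstance with h | h
    · intro x hx; rw [h] at hx; exact hx
    · exfalso
      obtain ⟨x, hxm, hx⟩ := exists_x F _ (y_mem F (⟨0, by decide⟩ : Fin chevE6.nroots) 1)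
      have h1 : Tab.Compat (T := tab) F x 1 := (h ▸ Subgroup.mem_top (⟨x, hxm⟩ : ↥(chevE6.group F)) :
        (⟨x, hxm⟩ : ↥(chevE6.group F)) ∈ K0)
      have h2 := (h1.inv F).mul F hx
      simp only [inv_one, one_mul, inv_mul_cancel] at h2
      obtain ⟨c, hc⟩ := scalar_of_trivial F h2
      have h3' := congrFun (congrFun hc tab.moved.1) tab.moved.2
      rw [y_val, one_smul] at h3'
      simp [movedNe, N] at h3'
      have h4 : ∀ L : List (Ent (Fin 27)), eval (1 : F) L tab.moved.1 tab.moved.2 =
          (((L.filter fun e => e.2.1 == tab.moved.1 && e.2.2.1 == tab.moved.2).map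
            (fun e => e.2.2.2)).sum : ℤ) := by
        intro L
        induction L with
        | nil => simp
        | cons e L ih =>
          rw [eval_cons, Matrix.add_apply, ih, List.filter_cons]
          by_cases h : e.2.1 = tab.moved.1 ∧ e.2.2.1 = tab.moved.2
          · simp [h.1, h.2]
          · rcases not_and_or.1 h with h | h
            · simp [h, Matrix.single_apply_of_row_ne h]
            · simp [h, Matrix.single_apply_of_col_ne _ _ h]
      rw [h4] at h3'
      have hm := movedOK
      simp only [List.mem_cons, List.not_mem_nil, or_false] at hm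
      rcases hm with hm | hm <;> rw [hm] at h3' <;> simp at h3'
  have huniq : ∀ (a b : ↥(chevE6.group F)) (h : GL (Fin 27) F), Tab.Compat (T := tab) F (a : GL chevE6.Idx F) h →
      Tab.Compat (T := tab) F (b : GL chevE6.Idx F) h → a = b := by
    intro a b h ha hb
    have := hK0 (a⁻¹ * b) (by
      show Tab.Compat (T := tab) F _ 1
      simpa using (ha.inv F).mul F hb)
    rwa [inv_mul_eq_one] at this
  have hex : ∀ g : E6univ F, ∃ x : ↥(chevE6.group F),
      Tab.Compat (T := tab) F (x : GL chevE6.Idx F) (reindexGL.symm g.1) := fun g => by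
    have hp : Pres (reindexGL.symm g.1) := (mem_E6univ_iff _).1 (by simp)
    obtain ⟨x, hx, hc⟩ := exists_x F _ (mem_Em_of_pres h3 hp)
    exact ⟨⟨x, hx⟩, hc⟩
  choose θ hθ using hex
  let θhom : E6univ F →* ↥(chevE6.group F) := MonoidHom.mk' θ fun a b =>
    huniq _ _ _ (hθ (a * b)) (by simpa using (hθ a).mul F (hθ b))
  have hsurj : Function.Surjective θhom := fun x => by
    obtain ⟨h, hh, hc⟩ := exists_y F x.1 x.2
    refine ⟨⟨reindexGL h, (mem_E6univ_iff h).2 (pres_of_mem hh)⟩, huniq _ _ _ (hθ _) ?_⟩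
    simpa using hc
  have hker : θhom.ker = Subgroup.center (E6univ F) := by
    refine le_antisymm (fun g hg => Subgroup.mem_center_iff.2 fun h => ?_) fun g hg => ?_
    · have hg' : θ g = 1 := hg
      have h1 := hθ g
      rw [hg'] at h1
      obtain ⟨c, hc⟩ := scalar_of_trivial F h1
      refine Subtype.ext (reindexGL.symm.injective (Units.ext ?_))
      simp only [Subgroup.coe_mul, map_mul, Units.val_mul]
      rw [hc]; simp
    · have h1 : θhom g ∈ Subgroup.center ↥(chevE6.group F) := Subgroup.mem_center_iff.2 fun x => by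
        obtain ⟨h, rfl⟩ := hsurj x
        rw [← map_mul, ← map_mul, Subgroup.mem_center_iff.1 hg h]
      rcases Subgroup.Normal.eq_bot_or_eq_top (H := Subgroup.center ↥(chevE6.group F)) inferInstance
        with h | h
      · rw [h] at h1; exact h1
      · exact absurd ⟨⟨fun a b => Subgroup.mem_center_iff.1 (h ▸ Subgroup.mem_top b) a⟩⟩ hsimple.2
  exact ⟨(QuotientGroup.quotientMulEquivOfEq hker.symm).trans
    (QuotientGroup.quotientKerEquivOfSurjective θhom hsurj)⟩

end

end CfsgLib.ChevClassical.E6
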